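import Cfsg.Agent.H16.CoreW
import Cfsg.Agent.H14.Quasi

/-! Tower CORE, job C3: the Sylow subgroup lies in `L`, has order `128`, and `t w t⁻¹ = w x`. -/

set_option autoImplicit false
set_option maxRecDepth 100000
set_option maxHeartbeats 400000
set_option synthInstance.maxSize 2048

namespace H16.Core

open H31 (TB TBD PCL exists_hom_of_pcl)
open Cfsg Subgroup H98 H1.Gold H31.S2 H14.GC

universe u

theorem pclJ {G : Type*} [Group G] {x p₁ p₂ t : G} (h : RelJ x p₁ p₂ t) :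
    PCL [t, p₁, p₂, t * p₁ * t⁻¹, t * p₂ * t⁻¹, x] := by
  obtain ⟨a1, a2, a3, a4⟩ := comm_x h
  obtain ⟨b1, b2, b3, b4⟩ := rel_r h
  have c1 := conj_conj h p₁
  have c2 := conj_conj h p₂
  have c5 := h.c1
  have c6 := h.c2
  have c7 := h.c3
  generalize e1 : t * p₁ * t⁻¹ = r₁ at *
  generalize e2 : t * p₂ * t⁻¹ = r₂ at *
  have k1 : ∀ {x y u : G}, x * y = u * x → x * y * x⁻¹ = u := fun h => mul_inv_eq_iff_eq_mul.2 h
  have k2 : ∀ {a y : G}, a * x = x * a → a * y = y * a * x → a * y * a⁻¹ = y * x :=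
    fun {a y} h1 h2 => by rw [h2, mul_assoc y, h1, ← mul_assoc, mul_inv_cancel_right]
  have m : ∀ {l : List G} {r : G}, r ∈ l → r ∈ closure {y | y ∈ l} := fun h => subset_closure h
  simp only [PCL, List.forall_mem_cons, List.not_mem_nil, IsEmpty.forall_iff, implies_true,
    and_true, true_and, h.x1.2, h.s1, h.s2, h.tt, b1, b2, one_mem, k1 a1, k1 a2, k1 a3, k1 a4,
    k1 h.tx, k2 a1 h.c12, k2 a3 b3, k1 c5, k1 c6, k1 c7, k1 b4, c1, c2, e1, e2]
  refine ⟨⟨⟨⟨⟨?_, ?_⟩, ?_, ?_, ?_⟩, ?_, ?_, ?_, ?_⟩, ?_, ?_, ?_, ?_, ?_⟩, ?_, ?_, ?_, ?_, ?_⟩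
  all_goals first
    | (refine m ?_; simp; done)
    | (refine mul_mem (m ?_) (m ?_) <;> simp)

def d64 : TBD := ⟨64, 0x103020405070609080a0b0d0c0e0f101113121415171619181a1b1d1c1e1f202123222425272629282a2b2d2c2e2f303133323435373639383a3b3d3c3e3f010002030504060708090b0a0c0d0f0e111012131514161718191b1a1c1d1f1e212022232524262728292b2a2c2d2f2e313032333534363738393b3a3c3d3f3e08090b0a0c0d0f0e000103020405070619181a1b1d1c1e1f111012131514161722232021272625242b2a29282e2f2c2d32333031373635343b3a39383e3f3c3d09080a0b0d0c0e0f010002030504060718191b1a1c1d1f1e101113121415171623222120262724252a2b28292f2e2d2c33323130363734353a3b38393f3e3d3c111012131514161718191b1a1c1d1f1e000103020405070609080a0b0d0c0e0f25242627202123222c2d2f2e29282a2b35343637303133323c3d3f3e39383a3b101113121415171619181a1b1d1c1e1f010002030504060708090b0a0c0d0f0e24252726212022232d2c2e2f28292b2a34353736313032333d3c3e3f38393b3a19181a1b1d1c1e1f111012131514161709080a0b0d0c0e0f01000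2030504060727262524232221202e2f2c2d2a2b282937363534333231303e3f3c3d3a3b383918191b1a1c1d1f1e101113121415171608090b0a0c0d0f0e000103020405070626272425222320212f2e2d2c2b2a292836373435323330313f3e3d3c3b3a393802030001070605040b0a09080e0f0c0d12131011171615141b1a19181e1f1c1d28292b2a2c2d2f2e202123222425272639383a3b3d3c3e3f313032333534363703020100060704050a0b08090f0e0d0c13121110161714151a1b18191f1e1d1c29282a2b2d2c2e2f212022232524262738393b3a3c3d3f3e30313332343537360a0b08090f0e0d0c02030001070605041b1a19181e1f1c1d13121110161714152a2b28292f2e2d2c22232021272625243b3a39383e3f3c3d33323130363734350b0a09080e0f0c0d03020100060704051a1b18191f1e1d1c12131011171615142b2a29282e2f2c2d23222120262724253a3b38393f3e3d3c323330313736353413121110161714151a1b18191f1e1d1c02030001070605040b0a09080e0f0c0d2d2c2e2f28292b2a25242627202123223c3d3f3e39383a3b343537363130323312131011171615141b1a19181e1f1c1d03020100060704050a0b08090f0e0d0c2c2d2f2e29282a2b24252726212022233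d3c3e3f38393b3a35343637303133321b1a19181e1f1c1d13121110161714150b0a09080e0f0c0d03020100060704052f2e2d2c2b2a292827262524232221203e3f3c3d3a3b383936373435323330311a1b18191f1e1d1c12131011171615140a0b08090f0e0d0c02030001070605042e2f2c2d2a2b282926272425222320213f3e3d3c3b3a3938373635343332313005040607000103020c0d0f0e09080a0b15141617101113121c1d1f1e19181a1b313032333534363738393b3a3c3d3f3e202123222425272629282a2b2d2c2e2f04050706010002030d0c0e0f08090b0a14151716111012131d1c1e1f18191b1a303133323435373639383a3b3d3c3e3f212022232524262728292b2a2c2d2f2e0d0c0e0f08090b0a05040607000103021c1d1f1e19181a1b141517161110121333323130363734353a3b38393f3e3d3c22232021272625242b2a29282e2f2c2d0c0d0f0e09080a0b04050706010002031d1c1e1f18191b1a151416171011131232333031373635343b3a39383e3f3c3d23222120262724252a2b28292f2e2d2c14151716111012131d1c1e1f18191b1a05040607000103020c0d0f0e09080a0b34353736313032333d3c3e3f38393b3a25242627202123222c2d2f2e29282a2b1514161710111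3121c1d1f1e19181a1b04050706010002030d0c0e0f08090b0a35343637303133323c3d3f3e39383a3b24252726212022232d2c2e2f28292b2a1c1d1f1e19181a1b14151716111012130c0d0f0e09080a0b040507060100020336373435323330313f3e3d3c3b3a393827262524232221202e2f2c2d2a2b28291d1c1e1f18191b1a15141617101113120d0c0e0f08090b0a050406070001030237363534333231303e3f3c3d3a3b383926272425222320212f2e2d2c2b2a292807060504030201000e0f0c0d0a0b080917161514131211101e1f1c1d1a1b181939383a3b3d3c3e3f313032333534363729282a2b2d2c2e2f212022232524262706070405020300010f0e0d0c0b0a090816171415121310111f1e1d1c1b1a191838393b3a3c3d3f3e303133323435373628292b2a2c2d2f2e20212322242527260f0e0d0c0b0a090807060504030201001e1f1c1d1a1b181916171415121310113b3a39383e3f3c3d33323130363734352b2a29282e2f2c2d23222120262724250e0f0c0d0a0b080906070405020300011f1e1d1c1b1a191817161514131211103a3b38393f3e3d3c32333031373635342a2b28292f2e2d2c222320212726252416171415121310111f1e1d1c1b1a191807060504030201000e0f0c0d0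a0b08093c3d3f3e39383a3b34353736313032332c2d2f2e29282a2b242527262120222317161514131211101e1f1c1d1a1b181906070405020300010f0e0d0c0b0a09083d3c3e3f38393b3a35343637303133322d2c2e2f28292b2a25242627202123221e1f1c1d1a1b181916171415121310110e0f0c0d0a0b080906070405020300013e3f3c3d3a3b383936373435323330312e2f2c2d2a2b282926272425222320211f1e1d1c1b1a191817161514131211100f0e0d0c0b0a090807060504030201003f3e3d3c3b3a393837363534333231302f2e2d2c2b2a29282726252423222120202123222425272629282a2b2d2c2e2f303133323435373639383a3b3d3c3e3f000103020405070609080a0b0d0c0e0f101113121415171619181a1b1d1c1e1f212022232524262728292b2a2c2d2f2e313032333534363738393b3a3c3d3f3e010002030504060708090b0a0c0d0f0e111012131514161718191b1a1c1d1f1e28292b2a2c2d2f2e202123222425272639383a3b3d3c3e3f313032333534363702030001070605040b0a09080e0f0c0d12131011171615141b1a19181e1f1c1d29282a2b2d2c2e2f212022232524262738393b3a3c3d3f3e303133323435373603020100060704050a0b08090f0e0d0c13121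110161714151a1b18191f1e1d1c313032333534363738393b3a3c3d3f3e202123222425272629282a2b2d2c2e2f05040607000103020c0d0f0e09080a0b15141617101113121c1d1f1e19181a1b303133323435373639383a3b3d3c3e3f212022232524262728292b2a2c2d2f2e04050706010002030d0c0e0f08090b0a14151716111012131d1c1e1f18191b1a39383a3b3d3c3e3f313032333534363729282a2b2d2c2e2f212022232524262707060504030201000e0f0c0d0a0b080917161514131211101e1f1c1d1a1b181938393b3a3c3d3f3e303133323435373628292b2a2c2d2f2e202123222425272606070405020300010f0e0d0c0b0a090816171415121310111f1e1d1c1b1a191822232021272625242b2a29282e2f2c2d32333031373635343b3a39383e3f3c3d08090b0a0c0d0f0e000103020405070619181a1b1d1c1e1f111012131514161723222120262724252a2b28292f2e2d2c33323130363734353a3b38393f3e3d3c09080a0b0d0c0e0f010002030504060718191b1a1c1d1f1e10111312141517162a2b28292f2e2d2c22232021272625243b3a39383e3f3c3d33323130363734350a0b08090f0e0d0c02030001070605041b1a19181e1f1c1d13121110161714152b2a29282e2f2c2d2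3222120262724253a3b38393f3e3d3c32333031373635340b0a09080e0f0c0d03020100060704051a1b18191f1e1d1c121310111716151433323130363734353a3b38393f3e3d3c22232021272625242b2a29282e2f2c2d0d0c0e0f08090b0a05040607000103021c1d1f1e19181a1b141517161110121332333031373635343b3a39383e3f3c3d23222120262724252a2b28292f2e2d2c0c0d0f0e09080a0b04050706010002031d1c1e1f18191b1a15141617101113123b3a39383e3f3c3d33323130363734352b2a29282e2f2c2d23222120262724250f0e0d0c0b0a090807060504030201001e1f1c1d1a1b181916171415121310113a3b38393f3e3d3c32333031373635342a2b28292f2e2d2c22232021272625240e0f0c0d0a0b080906070405020300011f1e1d1c1b1a1918171615141312111025242627202123222c2d2f2e29282a2b35343637303133323c3d3f3e39383a3b111012131514161718191b1a1c1d1f1e000103020405070609080a0b0d0c0e0f24252726212022232d2c2e2f28292b2a34353736313032333d3c3e3f38393b3a101113121415171619181a1b1d1c1e1f010002030504060708090b0a0c0d0f0e2d2c2e2f28292b2a25242627202123223c3d3f3e39383a3b3435373631303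23313121110161714151a1b18191f1e1d1c02030001070605040b0a09080e0f0c0d2c2d2f2e29282a2b24252726212022233d3c3e3f38393b3a353436373031333212131011171615141b1a19181e1f1c1d03020100060704050a0b08090f0e0d0c34353736313032333d3c3e3f38393b3a25242627202123222c2d2f2e29282a2b14151716111012131d1c1e1f18191b1a05040607000103020c0d0f0e09080a0b35343637303133323c3d3f3e39383a3b24252726212022232d2c2e2f28292b2a15141617101113121c1d1f1e19181a1b04050706010002030d0c0e0f08090b0a3c3d3f3e39383a3b34353736313032332c2d2f2e29282a2b242527262120222316171415121310111f1e1d1c1b1a191807060504030201000e0f0c0d0a0b08093d3c3e3f38393b3a35343637303133322d2c2e2f28292b2a252426272021232217161514131211101e1f1c1d1a1b181906070405020300010f0e0d0c0b0a090827262524232221202e2f2c2d2a2b282937363534333231303e3f3c3d3a3b383919181a1b1d1c1e1f111012131514161709080a0b0d0c0e0f010002030504060726272425222320212f2e2d2c2b2a292836373435323330313f3e3d3c3b3a393818191b1a1c1d1f1e101113121415171608090b0a0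c0d0f0e00010302040507062f2e2d2c2b2a292827262524232221203e3f3c3d3a3b383936373435323330311b1a19181e1f1c1d13121110161714150b0a09080e0f0c0d03020100060704052e2f2c2d2a2b282926272425222320213f3e3d3c3b3a393837363534333231301a1b18191f1e1d1c12131011171615140a0b08090f0e0d0c020300010706050436373435323330313f3e3d3c3b3a393827262524232221202e2f2c2d2a2b28291c1d1f1e19181a1b14151716111012130c0d0f0e09080a0b040507060100020337363534333231303e3f3c3d3a3b383926272425222320212f2e2d2c2b2a29281d1c1e1f18191b1a15141617101113120d0c0e0f08090b0a05040607000103023e3f3c3d3a3b383936373435323330312e2f2c2d2a2b282926272425222320211e1f1c1d1a1b181916171415121310110e0f0c0d0a0b080906070405020300013f3e3d3c3b3a393837363534333231302f2e2d2c2b2a292827262524232221201f1e1d1c1b1a191817161514131211100f0e0d0c0b0a09080706050403020100,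
  0x3f3e37362f2e26273d3c35342d2c24253b3a33322b2a222338393031282921201f1e1d1c1b1a181917161514131210110f0e0d0c0b0a08090607040502030100, [32, 16, 8, 4, 2, 1]⟩

theorem ok64 : d64.OK := d64.ok_of (by decide +kernel)

/-- the model of `(Q₈ ∘ Q₈).2`: binary digits `i j k l m n` stand for `t^i p₁^j p₂^k r₁^l r₂^m x^n` -/
abbrev C64 : Type := TB d64 ok64

namespace C64

def t : C64 := TB.el 32
def p₁ : C64 := TB.el 16
def p₂ : C64 := TB.el 8
def r₁ : C64 := TB.el 4
def r₂ : C64 := TB.el 2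
def x : C64 := TB.el 1

theorem card : Nat.card C64 = 64 := TB.card

theorem rel : RelJ x p₁ p₂ t := by
  refine ⟨⟨?_, ?_⟩, ?_, ?_, ?_, ?_, ?_, ?_, ?_, ?_⟩ <;> decide +kernel

theorem exists_hom {G : Type*} [Group G] {x' p₁' p₂' t' : G} (h : RelJ x' p₁' p₂' t') :
    ∃ φ : C64 →* G, Function.Injective φ ∧ φ x = x' ∧ φ p₁ = p₁' ∧ φ p₂ = p₂' ∧ φ t = t' ∧
      φ.range = closure ({p₁', p₂', t'} : Set G) := by
  have hg := TB.closure_gens (l := [t, p₁, p₂, t * p₁ * t⁻¹, t * p₂ * t⁻¹, x]) (by decide +kernel)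
  have h' : RelJ (x, x') (p₁, p₁') (p₂, p₂') (t, t') :=
    ⟨⟨fun e => h.x1.1 (congrArg Prod.snd e), Prod.ext rel.x1.2 h.x1.2⟩, Prod.ext rel.s1 h.s1,
    Prod.ext rel.s2 h.s2, Prod.ext rel.c12 h.c12, Prod.ext rel.tt h.tt, Prod.ext rel.tx h.tx,
    Prod.ext rel.c1 h.c1, Prod.ext rel.c2 h.c2, Prod.ext rel.c3 h.c3⟩
  obtain ⟨φ, hφ⟩ := exists_hom_of_pcl (pclJ h') card.ge hg
  have e0 := hφ (x, x') (by simp)
  have e1 := hφ (p₁, p₁') (by simp)
  have e2 := hφ (p₂, p₂') (by simp)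
  have e3 := hφ (t, t') (by simp)
  have cen : ∀ z : C64, (∀ g, g * z = z * g) → z = 1 ∨ z = x := by decide +kernel
  refine ⟨φ, inj_of_center (IsPGroup.of_card (n := 6) card) fun z hz h1 =>
    (cen z hz).resolve_right ?_, e0, e1, e2, e3, ?_⟩
  · rintro rfl
    exact h.x1.1 (e0.symm.trans h1)
  have gen : closure ({p₁, p₂, t} : Set C64) = ⊤ := by
    rw [eq_top_iff, ← hg, closure_le]
    have m : ∀ {y}, y ∈ ({p₁, p₂, t} : Set C64) → y ∈ closure ({p₁, p₂, t} : Set C64) :=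
      fun h => subset_closure h
    intro y hy
    simp only [List.mem_cons, List.not_mem_nil, or_false, Set.mem_ofPred_eq] at hy
    rcases hy with rfl | rfl | rfl | rfl | rfl | rfl
    exacts [m (by simp), m (by simp), m (by simp),
      mul_mem (mul_mem (m (by simp)) (m (by simp))) (inv_mem (m (by simp))),
      mul_mem (mul_mem (m (by simp)) (m (by simp))) (inv_mem (m (by simp))),
      rel.s1 ▸ mul_mem (m (by simp)) (m (by simp))]
  rw [MonoidHom.range_eq_map, ← gen, MonoidHom.map_closure]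
  simp only [Set.image_insert_eq, Set.image_singleton]
  rw [e1, e2, e3]

end C64

section Ctx

variable {M : Type} [Group M] {X Y : Type u} [Group X] [Group Y]

/-- the word with the binary digits of `m` as exponents -/
def io (s a₁ a₂ b₁ b₂ : M) (m : M32) : M :=
  s ^ (m.num / 16) * a₁ ^ (m.num / 8 % 2) * a₂ ^ (m.num / 4 % 2) * b₁ ^ (m.num / 2 % 2) * b₂ ^ (m.num % 2)

variable [DecidableEq M] in
/-- `f` is an injective homomorphism modulo `x`, and the cosets of `1 :: V` cover `M` -/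
abbrev Sec (x : M) (f : M32 → M) (n : ℕ) (V : List M) : Prop :=
  (∀ m m', f (m * m') = f m * f m' ∨ f (m * m') = f m * f m' * x) ∧ (∀ m, f m = 1 ∨ f m = x → m = 1) ∧
    ∀ g : M, ∃ m : M32, m.num < n ∧ (1 :: V).any fun v => decide (g = v * f m ∨ g = v * f m * x)

variable [DecidableEq M] in
/-- `f` is the word map -/
abbrev Sec' (x s a₁ a₂ b₁ b₂ : M) (f : M32 → M) (n : ℕ) (V : List M) : Prop :=
  (∀ m, f m = io s a₁ a₂ b₁ b₂ m) ∧ Sec x f n V

/-- a map given by a table -/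
def tf {D : TBD} {h : D.OK} (T : ℕ) (m : M32) : TB D h := TB.el (H31.tbe T m.num)

structure Ctx (φ : M →* X) (ρ : X →* Y) (x : M) (L : Subgroup X) : Prop where
  inj : Function.Injective φ
  sur : Function.Surjective ρ
  ker : ∀ g, ρ g = 1 ↔ g = 1 ∨ g = φ x
  cen : ∀ g, g * φ x = φ x * g
  inv : Inv x
  mem : φ x ∈ L
  syl : IsSyl 2 φ.range ⊤
  normal : L.Normal
  simple : IsSimpleGroup (L.map ρ)
  nc : ¬ IsMulCommutative (L.map ρ)

namespace Ctx

variable {φ : M →* X} {ρ : X →* Y} {x : M} {L : Subgroup X} (h : Ctx φ ρ x L)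
include h

theorem eq {g g' : X} (e : ρ g = ρ g') : g = g' ∨ g = g' * φ x :=
  ((h.ker (g'⁻¹ * g)).1 (by rw [map_mul, map_inv, e, inv_mul_cancel])).imp
    (fun e => (inv_mul_eq_one.1 e).symm) fun e => by rw [← e, mul_inv_cancel_left]

theorem one : ρ (φ x) = 1 := (h.ker _).2 (Or.inr rfl)

variable [Finite X] [Finite Y]

omit [Finite X] in
theorem conj {a b : M} {k : Y} (e : k * ρ (φ a) * k⁻¹ = ρ (φ b)) (ha : a * a = x) :
    ∃ g : X, ∃ c, (c = b ∨ c = b * x) ∧ c * c = x ∧ g * φ a * g⁻¹ = φ c := by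
  obtain ⟨g, rfl⟩ := h.sur k
  rw [map_conj] at e
  have k : ∀ c, g * φ a * g⁻¹ = φ c → c * c = x := fun c e => h.inj (by
    rw [map_mul, ← e, conj_mul, ← map_mul, ha, h.cen, mul_inv_cancel_right])
  rcases h.eq e with e | e
  · exact ⟨g, b, Or.inl rfl, k _ e, e⟩
  · rw [← map_mul] at e
    exact ⟨g, _, Or.inr rfl, k _ e, e⟩

theorem sylK : IsSyl 2 (((ρ.comp φ).range ⊓ L.map ρ).subgroupOf (L.map ρ)) ⊤ := by
  have : Fact (Nat.Prime 2) := ⟨Nat.prime_two⟩
  have := h.normal.map ρ h.sur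
  exact ((isSyl_comp h.syl h.sur).inf_of_le_normalizer le_top
    (by rw [normalizer_eq_top]; exact le_top)).subgroupOf_top

variable [DecidableEq M]

theorem psi {f : M32 → M} {n : ℕ} {V : List M} (hf : Sec x f n V) (h1 : ∀ m, m.num < n → φ (f m) ∈ L)
    (hV : ∀ v ∈ V, φ v ∉ L) : ∃ ψ : M32 →* Y, Function.Injective ψ ∧ (∀ m, ψ m = ρ (φ (f m))) ∧
      ∀ A : Subgroup M32, (∀ m, m ∈ A ↔ m.num < n) →
        A.map ψ ≤ L.map ρ ∧ IsSyl 2 ((A.map ψ).subgroupOf (L.map ρ)) ⊤ := by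
  obtain ⟨f1, f2, f3⟩ := hf
  let ψ : M32 →* Y := MonoidHom.mk' (fun m => ρ (φ (f m))) fun m m' => by
    rcases f1 m m' with e | e <;> simp only [e, map_mul, h.one, mul_one]
  refine ⟨ψ, (injective_iff_map_eq_one ψ).2 fun m hm => f2 m (((h.ker _).1 hm).imp
    (fun e => h.inj (e.trans (map_one φ).symm)) fun e => h.inj e), fun _ => rfl, fun A hA => ?_⟩
  have le : A.map ψ ≤ L.map ρ := by
    rintro _ ⟨m, hm, rfl⟩
    exact mem_map_of_mem ρ (h1 m ((hA m).1 hm))
  refine ⟨le, ?_⟩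
  convert h.sylK using 2
  refine le_antisymm (le_inf ?_ le) ?_
  · rintro _ ⟨m, -, rfl⟩
    exact ⟨f m, rfl⟩
  rintro _ ⟨⟨g, rfl⟩, l, hl, e⟩
  have hg : φ g ∈ L := by
    rcases h.eq e.symm with e | e <;> rw [e]
    exacts [hl, mul_mem hl h.mem]
  obtain ⟨m, hm, e⟩ := f3 g
  obtain ⟨v, hv, e⟩ := List.any_eq_true.1 e
  replace e := of_decide_eq_true e
  have hv1 : v = 1 := (List.mem_cons.1 hv).resolve_right fun hv => hV v hv (by
    rcases e with rfl | rfl <;> simp only [map_mul] at hg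
    · exact (mul_mem_cancel_right (h1 m hm)).1 hg
    · exact (mul_mem_cancel_right (h1 m hm)).1 ((mul_mem_cancel_right h.mem).1 hg))
  refine ⟨m, (hA m).2 hm, ?_⟩
  rcases e with rfl | rfl <;> simp [ψ, hv1, h.one]

theorem caseB {s a₁ a₂ b₁ b₂ : M} {V : List M} {f : M32 → M} (hf : Sec' x s a₁ a₂ b₁ b₂ f 32 V)
    (h0 : φ s ∈ L)
    (h1 : φ a₁ ∈ L) (h2 : φ a₂ ∈ L) (h3 : φ b₁ ∈ L) (h4 : φ b₂ ∈ L) (hV : ∀ v ∈ V, φ v ∉ L) : False := by
  obtain ⟨ψ, hψ, -, k⟩ := h.psi hf.2 (fun m _ => by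
    simp only [hf.1, io, map_mul, map_pow]
    exact mul_mem (mul_mem (mul_mem (mul_mem (pow_mem h0 _) (pow_mem h1 _)) (pow_mem h2 _))
      (pow_mem h3 _)) (pow_mem h4 _)) hV
  obtain ⟨le, hS⟩ := k ⊤ fun m => ⟨fun _ => m.2, fun _ => mem_top m⟩
  have := h.simple
  refine M32.w32 (ψ := ψ.codRestrict _ fun m => le (mem_map_of_mem ψ (mem_top m)))
    (H86.index_ne_two_of_simple h.nc) (fun a b e => hψ (congrArg Subtype.val e)) ?_
  convert hS using 1
  ext y
  exact ⟨fun ⟨m, e⟩ => ⟨m, mem_top m, congrArg Subtype.val e⟩, fun ⟨m, _, e⟩ => ⟨m, Subtype.ext e⟩⟩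

theorem caseA {s a₁ a₂ b₁ b₂ : M} {V : List M} {f : M32 → M} (hf : Sec' x s a₁ a₂ b₁ b₂ f 16 V ∧
      f (TB.el 8) * f (TB.el 8) = x ∧ ∀ c, c = f (TB.el 10) ∨ c = f (TB.el 10) * x → c * c ≠ x)
    (h1 : φ a₁ ∈ L) (h2 : φ a₂ ∈ L) (h3 : φ b₁ ∈ L) (h4 : φ b₂ ∈ L) (hV : ∀ v ∈ V, φ v ∉ L) : False := by
  obtain ⟨ψ, hψ, e, k⟩ := h.psi hf.1.2 (fun m hm => by
    simp only [hf.1.1, io, map_mul, map_pow, Nat.div_eq_of_lt hm, pow_zero, one_mul]
    exact mul_mem (mul_mem (mul_mem (pow_mem h1 _) (pow_mem h2 _)) (pow_mem h3 _)) (pow_mem h4 _)) hV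
  obtain ⟨le, hS⟩ := k M32.E fun m => M32.mem_E
  have := h.simple
  have o : ∀ m : M32, ∀ hm : m.num < 16, m ≠ 1 ∧ m * m = 1 →
      orderOf (⟨ψ m, le (mem_map_of_mem ψ (M32.mem_E.2 hm))⟩ : L.map ρ) = 2 := fun m hm e => by
    rw [← orderOf_submonoid, orderOf_injective ψ hψ]
    exact orderOf_eq_prime (by rw [pow_two, e.2]) e.1
  obtain ⟨c, hc⟩ := isConj_iff.1 (isConj_of_ab16 h.nc hS ⟨⟨fun a b => by
    obtain ⟨m, hm, e1⟩ := a.2
    obtain ⟨n, hn, e2⟩ := b.2
    refine Subtype.ext (Subtype.ext ?_)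
    change (a.1.1 * b.1.1 : Y) = b.1.1 * a.1.1
    rw [← show ψ m = a.1.1 from e1, ← show ψ n = b.1.1 from e2, ← map_mul, ← map_mul,
      M32.E_comm m (M32.mem_E.1 hm) n (M32.mem_E.1 hn)]⟩⟩ (by
    rw [Nat.card_congr (subgroupOfEquivOfLe le).toEquiv, card_map_of_injective hψ, M32.card_E])
    (o (TB.el 8) (by decide +kernel) (by decide +kernel))
    (o (TB.el 10) (by decide +kernel) (by decide +kernel)))
  have hc' : (c : Y) * ψ (TB.el 8) * (c : Y)⁻¹ = ψ (TB.el 10) := congrArg Subtype.val hc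
  rw [e, e] at hc'
  obtain ⟨g, c, c1, c2, -⟩ := h.conj hc' hf.2.1
  exact hf.2.2 c c1 c2

theorem le128 {t w p₁ p₂ r₁ r₂ : M} {f₁ f₂ f₃ : M32 → M} (hd : Sec' x t p₁ p₂ r₁ r₂ f₁ 32 [w] ∧
      Sec' x w p₁ r₁ p₂ r₂ f₂ 32 [t] ∧ Sec' x (t * w) p₁ p₂ r₂ r₁ f₃ 32 [t] ∧
      Sec' x t p₁ p₂ r₁ r₂ f₁ 16 [t, w, t * w] ∧ f₁ (TB.el 8) * f₁ (TB.el 8) = x ∧
      ∀ c, c = f₁ (TB.el 10) ∨ c = f₁ (TB.el 10) * x → c * c ≠ x)
    (h1 : φ p₁ ∈ L) (h2 : φ p₂ ∈ L) (h3 : φ r₁ ∈ L) (h4 : φ r₂ ∈ L) : φ t ∈ L ∧ φ w ∈ L := by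
  by_cases ht : φ t ∈ L <;> by_cases hw : φ w ∈ L
  · exact ⟨ht, hw⟩
  · exact (h.caseB hd.1 ht h1 h2 h3 h4 (by simpa using hw)).elim
  · exact (h.caseB hd.2.1 hw h1 h3 h2 h4 (by simpa using ht)).elim
  by_cases htw : φ (t * w) ∈ L
  · exact (h.caseB hd.2.2.1 htw h1 h2 h4 h3 (by simpa using ht)).elim
  · exact (h.caseA hd.2.2.2 h1 h2 h3 h4 (by
      simp only [List.forall_mem_cons]; exact ⟨ht, hw, htw, by simp⟩)).elim

omit [DecidableEq M] in
theorem thompson (hL : ∀ m, φ m ∈ L) (p : M → Prop) (hmul : ∀ a b, p (a * b) ↔ (p a ↔ p b)) (hx : p x)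
    {a : M} (ha : ¬ p a) {s : M} (hs : s * s = x) : ∃ c, p c ∧ c * c = x ∧ IsConj (φ s) (φ c) := by
  by_contra hne
  let θ := (ρ.comp φ).codRestrict (L.map ρ) fun m => mem_map_of_mem ρ (hL m)
  have := h.simple
  obtain ⟨N, -, hN, -⟩ := H8.thompson_transfer θ.range ((H86.predSub p hmul).map θ)
    (odd_index_of_syl (isSyl_codRestrict (isSyl_comp h.syl h.sur) _)) (by
      rw [← index_comap, comap_map_eq, sup_eq_left.2, H86.index_predSub p hmul ha]
      intro m hm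
      rcases (h.ker _).1 (congrArg Subtype.val hm) with e | e
      · rw [h.inj (e.trans (map_one φ).symm)]; exact one_mem _
      · rw [h.inj e]; exact hx) (θ s)
    (by rw [pow_two, ← map_mul, hs]; exact Subtype.ext h.one) (by
      rintro k ⟨b, hb, e⟩
      obtain ⟨g, c, c1, c2, c3⟩ := h.conj (k := k) (congrArg Subtype.val e.symm) hs
      refine hne ⟨c, ?_, c2, isConj_iff.2 ⟨g, c3⟩⟩
      rcases c1 with rfl | rfl
      exacts [hb, (hmul _ _).2 (iff_of_true hb hx)])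
  exact H86.index_ne_two_of_simple h.nc N hN

end Ctx

end Ctx

variable {X Ω : Type u} [Group X] [Finite X] [MulAction X Ω] {S L : Subgroup X} {a : Ω}
  {x f p₁ p₂ t w d : X}

theorem exists_ctx (h : Pre Ω S L a x f p₁ p₂ d) {M : Type} [Group M] {φ : M →* X} {x₀ : M}
    (hφ : Function.Injective φ) (hx : φ x₀ = x) (hS : S = φ.range) :
    ∃ (Y : Type u) (_ : Group Y) (_ : Finite Y) (ρ : X →* Y), Ctx φ ρ x₀ L := by
  have := h.tc.normal
  let ρ := QuotientGroup.mk' (cen L)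
  have e : (L ⧸ center L) ≃* L.map ρ := (QuotientGroup.quotientMulEquivOfEq (by
      ext l
      rw [MonoidHom.mem_ker, mem_center_iff]
      exact ⟨fun H => (QuotientGroup.eq_one_iff _).2 fun g hg => congrArg Subtype.val (H ⟨g, hg⟩),
        fun H g => Subtype.ext ((QuotientGroup.eq_one_iff _).1 H g.1 g.2)⟩)).trans
    ((QuotientGroup.quotientKerEquivRange (ρ.comp L.subtype)).trans
      (MulEquiv.subgroupCongr (by rw [MonoidHom.range_comp, range_subtype])))
  have := h.tc.comp.2.2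
  refine ⟨_, _, inferInstance, ρ, hφ, QuotientGroup.mk'_surjective _, fun g => ?_, hx ▸ h.loc.cen,
    ⟨fun e => h.loc.inv.1 (by rw [← hx, e, map_one]), hφ (by rw [map_mul, hx, h.loc.inv.2, map_one])⟩,
    hx ▸ h.tc.le (h.cenL ▸ mem_zpowers x), hS ▸ h.syl, h.tc.normal, e.symm.isSimpleGroup,
    fun hc => H14.quasi_quotient_not_comm h.tc.comp.2 ⟨⟨fun a b => e.injective (by
      rw [map_mul, map_mul, hc.is_comm.comm])⟩⟩⟩
  rw [hx]
  refine (QuotientGroup.eq_one_iff _).trans (h.cenL ▸ ⟨?_, ?_⟩)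
  · rintro ⟨k, rfl⟩
    rcases Int.even_or_odd' k with ⟨j, rfl | rfl⟩
    · left; simp only [zpow_mul, zpow_two, h.loc.inv.2, one_zpow]
    · right; simp only [zpow_add_one, zpow_mul, zpow_two, h.loc.inv.2, one_zpow, one_mul]
  · rintro (rfl | rfl)
    exacts [one_mem _, mem_zpowers _]

theorem not_cb (h : Pre Ω S L a x (r0 p₁ p₂ t) p₁ p₂ d) {φ : CB →* X} {Y : Type u} [Group Y] [Finite Y]
    {ρ : X →* Y} (c : Ctx φ ρ CB.x L) (e1 : φ CB.p₁ = p₁) (e2 : φ CB.p₂ = p₂) (e3 : φ CB.t = t)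
    (hS : S = φ.range) (hL : S ≤ L) : False := by
  have : Fact (Nat.Prime 2) := ⟨Nat.prime_two⟩
  obtain ⟨u, u1, u2, hu⟩ := c.thompson (fun m => hL (hS ▸ ⟨m, rfl⟩)) (fun m => m.num / 32 % 2 = 0)
    (by decide +kernel) (by decide +kernel) (a := CB.w) (by decide +kernel) (s := CB.t * CB.w)
    (by decide +kernel)
  have A : ∀ u : CB, u.num / 32 % 2 = 0 → u * u = CB.x →
      ∃ m : CB, m * u * m⁻¹ = CB.p₂ ∨ m * u * m⁻¹ = CB.p₁ * CB.p₂ := by decide +kernel
  obtain ⟨m, hm⟩ := A u u1 u2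
  have h1 : IsConj (φ u) (p₁ * p₂) := by
    rcases hm with hm | hm
    · exact (H86.isConj_map_conj φ m u).trans (by rw [hm, e2]; exact isConj_iff.2 ⟨d, h.q2.d2⟩)
    · have := H86.isConj_map_conj φ m u
      rwa [hm, map_mul, e1, e2] at this
  obtain ⟨k, hk⟩ := isConj_iff.1 (hu.trans (h1.trans (isConj_iff.2 ⟨t, rfl⟩)))
  have hy := h.syl1.inf_centralizer (V := zpowers (r0 p₁ p₂ t)) inf_le_right
  rw [inf_assoc, inf_eq_right.2 (centralizer_le_normalizer _), zpowers_eq_closure, centralizer_closure,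
    ← top_inf_eq (centralizer {r0 p₁ p₂ t})] at hy
  obtain ⟨g, -, g1, g2⟩ := exists_conj_ext h.syl (by rwa [← inf_assoc, inf_top_eq] at hy) (mem_top k) hk
  rw [hS] at g2
  obtain ⟨α, hα⟩ := exists_pull_cen1 c.inj g2
  have hs : CB.t * CB.w ∈ cen1 (CB.t * CB.w) := mem_cen1.2 rfl
  have hx : CB.x ∈ cen1 (CB.t * CB.w) := mem_cen1.2 (by decide +kernel)
  have ha : CB.p₁ * CB.r₂ ∈ cen1 (CB.t * CB.w) := mem_cen1.2 (by decide +kernel)
  have hb : CB.p₂ * CB.r₁ ∈ cen1 (CB.t * CB.w) := mem_cen1.2 (by decide +kernel)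
  have a1 : α (CB.t * CB.w) = r0 CB.p₁ CB.p₂ CB.t :=
    hα.of_eq hs (by rw [g1, ← map_conj, map_mul, e1, e2, e3])
  have a2 : α CB.x = CB.x := hα.of_eq hx (by rw [c.cen, mul_inv_cancel_right])
  have k : ∀ y ∈ cen1 (CB.t * CB.w), y ≠ 1 ∧ y ≠ CB.x → ¬ (α y = 1 ∨ α y = CB.x) := fun y hy e e' =>
    e'.elim (fun e' => e.1 (hα.eq_one hy e')) fun e' => e.2 (hα.inj hy hx (e'.trans a2.symm))
  have B : ∀ y : CB, y * y = 1 → y * r0 CB.p₁ CB.p₂ CB.t = r0 CB.p₁ CB.p₂ CB.t * y →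
      ∀ z : CB, z * z = 1 → z * r0 CB.p₁ CB.p₂ CB.t = r0 CB.p₁ CB.p₂ CB.t * z → y * z = z * y →
      (y = 1 ∨ y = CB.x) ∨ (z = 1 ∨ z = CB.x) ∨ (y * z = 1 ∨ y * z = CB.x) := by decide +kernel
  rcases B _ (hα.sq ha (by decide +kernel)) (a1 ▸ hα.comm ha hs (mem_cen1.1 ha)) _
    (hα.sq hb (by decide +kernel)) (a1 ▸ hα.comm hb hs (mem_cen1.1 hb))
    (hα.comm ha hb (by decide +kernel)) with e | e | e
  · exact k _ ha (by decide +kernel) e
  · exact k _ hb (by decide +kernel) e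
  · exact k _ (mul_mem ha hb) (by decide +kernel) (hα.mul ha hb ▸ e)

theorem jobC3 : H14.GC.JobC3.{u} := by
  intro X Ω _ _ _ S L a x p₁ p₂ t d h
  have hN := h.pre.tc.normal
  have k : ∀ g y : X, g * y * g⁻¹ ∈ L → y ∈ L := fun g y hy => by
    simpa [mul_assoc] using hN.conj_mem _ hy g⁻¹
  have h2 : p₂ ∈ L := k d _ (h.pre.q2.d2 ▸ k t _ h.pre.bad4.mem)
  have h1 : p₁ ∈ L := k d _ (h.pre.q2.d1 ▸ h2)
  have h3 := hN.conj_mem _ h1 t
  have h4 := hN.conj_mem _ h2 t
  have le : ∀ w, t ∈ L → w ∈ L → closure ({p₁, p₂, t, w} : Set X) ≤ L := fun w ht hw => by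
    rw [closure_le]
    rintro _ (rfl | rfl | rfl | rfl) <;> assumption
  rcases h.cases with e | ⟨w, hw, tw | tw, e⟩
  · obtain ⟨φ, hφ, e0, e1, e2, e3, e5⟩ := C64.exists_hom h.rel
    obtain ⟨Y, _, _, ρ, c⟩ := exists_ctx h.pre hφ e0 (e.trans e5.symm)
    rw [← e1, ← e3, map_conj] at h3
    rw [← e2, ← e3, map_conj] at h4
    by_cases ht : φ C64.t ∈ L
    · exact (c.caseB (V := []) (f := tf 0x3e3c3a38363432302e2c2a28262422201e1c1a18161412100e0c0a0806040200) (by decide +kernel) ht (e1 ▸ h1) (e2 ▸ h2) h3 h4 (by simp)).elim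
    · exact (c.caseA (s := C64.t) (V := [C64.t]) (f := tf 0x3e3c3a38363432302e2c2a28262422201e1c1a18161412100e0c0a0806040200)
        (by decide +kernel) (e1 ▸ h1) (e2 ▸ h2) h3 h4
        (by simpa using ht)).elim
  · obtain ⟨φ, hφ, e0, e1, e2, e3, e4, e5⟩ := CB.exists_hom hw tw
    obtain ⟨Y, _, _, ρ, c⟩ := exists_ctx h.pre hφ e0 (e.trans e5.symm)
    rw [← e1, ← e3, map_conj] at h3
    rw [← e2, ← e3, map_conj] at h4
    obtain ⟨ht, hw'⟩ := c.le128 (t := CB.t) (w := CB.w)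
      (f₁ := tf 0x5e5c5a58565452504e4c4a48464442401e1c1a18161412100e0c0a0806040200)
      (f₂ := tf 0x3e3c36343a3832302e2c26242a2822201e1c16141a1812100e0c06040a080200)
      (f₃ := tf 0x7f7a7c78777274706f6a6c68676264601f1a1c18171214100f0a0c0807020400)
      ⟨by decide +kernel, by decide +kernel, by decide +kernel, by decide +kernel, by decide +kernel⟩ (e1 ▸ h1) (e2 ▸ h2) h3 h4
    exact (not_cb h.pre c e1 e2 e3 (e.trans e5.symm) (e ▸ le w (e3 ▸ ht) (e4 ▸ hw'))).elim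
  · obtain ⟨φ, hφ, e0, e1, e2, e3, e4, e5⟩ := CA.exists_hom hw tw
    obtain ⟨Y, _, _, ρ, c⟩ := exists_ctx h.pre hφ e0 (e.trans e5.symm)
    rw [← e1, ← e3, map_conj] at h3
    rw [← e2, ← e3, map_conj] at h4
    obtain ⟨ht, hw'⟩ := c.le128 (t := CA.t) (w := CA.w)
      (f₁ := tf 0x5e5c5a58565452504e4c4a48464442401e1c1a18161412100e0c0a0806040200)
      (f₂ := tf 0x3e3c36343a3832302e2c26242a2822201e1c16141a1812100e0c06040a080200)
      (f₃ := tf 0x7f7a7c78777274706f6a6c68676264601f1a1c18171214100f0a0c0807020400)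
      ⟨by decide +kernel, by decide +kernel, by decide +kernel, by decide +kernel, by decide +kernel⟩ (e1 ▸ h1) (e2 ▸ h2) h3 h4
    exact ⟨w, h.pre, hw, tw, e, e ▸ le w (e3 ▸ ht) (e4 ▸ hw')⟩

end H16.Core
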