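import Cfsg.Agent.H63.A8Def
import Cfsg.Agent.H67.SAOut

/-! A8S (row S3152): slot `FY`. -/

set_option autoImplicit false
set_option linter.unusedSectionVars false
set_option maxHeartbeats 200000

namespace H16.A8FY

open H64.SG (Syl Cz Cs Inv2)
open H67.SA H63.A8 Matrix H57 Subgroup

variable {F : Type} [Field F] [Finite F] [CharP F 2]

theorem z_sq : x 0 (la 3) (1 : F) = (x 0 1 1 * x 1 (la 3) 1) ^ 2 := by
  have k : ∀ i j : Fin (3 + 1), (x i j (1 : F))⁻¹ = x i j 1 := fun i j => by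
    rw [← x_neg, CharTwo.neg_eq]
  have := x_cm (F := F) (i := 0) (j := 1) (k := la 3) (by decide) (by decide) (by decide) 1 1
  rw [mul_one, cm, k, k] at this
  rw [← this, pow_two]; simp only [mul_assoc]

theorem z_mem (hp : Par8 3 F) {P : Subgroup (SLn 3 F)} (h1 : P ≤ UU 3 F) (h2 : 32 ≤ Nat.card P) :
    x 0 (la 3) (1 : F) ∈ P := by
  have h3 : Nat.card (UU 3 F) = 64 := by rw [card_UU, hp.two]; rfl
  have h4 := card_mul_index (P.subgroupOf (UU 3 F))
  rw [Nat.card_congr (subgroupOfEquivOfLe h1).toEquiv, h3] at h4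
  have hm : x 0 1 (1 : F) * x 1 (la 3) 1 ∈ UU 3 F :=
    mul_mem (x_mem_UU (by decide) _) (x_mem_UU (by decide) _)
  have h5 : (P.subgroupOf (UU 3 F)).index = 1 ∨ (P.subgroupOf (UU 3 F)).index = 2 := by
    generalize (P.subgroupOf (UU 3 F)).index = m at h4
    have : m ≤ 2 := by nlinarith
    have : m ≠ 0 := by rintro rfl; omega
    omega
  rw [z_sq]
  rcases h5 with h | h
  · exact (index_eq_one.1 h).ge (mem_top (⟨_, pow_mem hm 2⟩ : UU 3 F))
  · exact sq_mem_of_index_two h ⟨_, hm⟩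

theorem xs (hp : Par8 3 F) (y : SLn 3 F) (P : Subgroup (SLn 3 F)) (h2 : IsPGroup 2 P)
    (h3 : 32 ≤ Nat.card P) (h4 : ∀ w ∈ P, w ∈ Cs P → w = 1 ∨ w = y) : Root y := by
  cases nonempty_fintype F
  obtain ⟨Q, hQ⟩ := h2.exists_le_sylow
  obtain ⟨g, hg⟩ := MulAction.exists_smul_eq (SLn 3 F) Q (sylowUnitriSL (3 + 1) F 2)
  have hU : ∀ w ∈ P, g * w * g⁻¹ ∈ UU 3 F := fun w hw => by
    rw [UU_eq, ← coe_sylowUnitriSL (n := 3 + 1) (F := F) 2, ← hg]
    exact smul_mem_pointwise_smul w (MulAut.conj g) _ (hQ hw)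
  obtain ⟨w, hw, e⟩ := z_mem hp (P := P.map (MulAut.conj g).toMonoidHom)
    (by rintro _ ⟨w, hw, rfl⟩; exact hU w hw)
    (by rwa [card_map_of_injective (MulAut.conj g).injective])
  have e' : w = g⁻¹ * x 0 (la 3) 1 * g⁻¹⁻¹ := by rw [← e]; simp [mul_assoc]
  rcases h4 w hw (mem_centralizer_iff.2 fun v hv => (MulAut.conj g).injective (by
    rw [map_mul, map_mul, show MulAut.conj g w = _ from e]
    exact (mem_centralizer_iff.1 (UU_le_Cs (hU v hv)) _ (x_mem_ZZ 1)).symm)) with h | h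
  · rw [h, map_one, eq_comm, x_eq_one (by decide)] at e
    exact absurd e one_ne_zero
  · exact ⟨g⁻¹, 1, one_ne_zero, h ▸ e'⟩

theorem big_xk (hp : Par8 3 F) {k : ℕ} (h1 : 1 ≤ k) (h2 : 2 * k ≤ 3 + 1) :
    32 ≤ Nat.card ↥(UU 3 F ⊓ Cz (xk F 3 k)) := by
  obtain rfl | rfl : k = 1 ∨ k = 2 := by omega
  · have : UU 3 F ≤ Cz (xk F 3 1) := fun u hu => mem_centralizer_singleton_iff.2
      (mem_centralizer_iff.1 (UU_le_Cs hu) _ (Mk_one (n := 3) (F := F) ▸ xk_mem_Mk h2)).symm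
    rw [inf_eq_left.2 this, card_UU, hp.two]; decide
  · have hM : Ml 3 F 2 ≤ UU 3 F ⊓ Cz (xk F 3 2) := le_inf (Ml_le_UU 2) fun u hu =>
      mem_centralizer_singleton_iff.2
        (mem_centralizer_iff.1 (Ml_le_Cs 2 hu) _ (Mk_le_Ml le_rfl h2 (xk_mem_Mk h2))).symm
    have ha : x 0 1 (1 : F) * x 2 3 1 ∈ UU 3 F ⊓ Cz (xk F 3 2) := by
      refine ⟨mul_mem (x_mem_UU (by decide) _) (x_mem_UU (by decide) _),
        mem_centralizer_singleton_iff.2 (Subtype.ext ?_)⟩
      rw [val_mul, val_mul, val_mul, val_mul, x_coe (by decide), x_coe (by decide)]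
      ext a b
      fin_cases a <;> fin_cases b <;>
        simp [Matrix.mul_apply, Fin.sum_univ_four, xk_apply, one_apply, single_apply]
    have hn : x 0 1 (1 : F) * x 2 3 1 ∉ Ml 3 F 2 := fun h => by
      have := (mem_Ml.1 h).2 0 1 (by decide) (by decide)
      rw [val_mul, x_coe (by decide), x_coe (by decide)] at this
      simp [Matrix.mul_apply, one_apply, single_apply] at this
    obtain ⟨m, hm⟩ := card_dvd_of_le hM
    have c16 : Nat.card (Ml 3 F 2) = 16 := by rw [card_Ml (by omega), hp.two]; rfl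
    have m1 : m ≠ 1 := fun e =>
      hn ((eq_of_le_of_card_ge hM (by rw [hm, e, mul_one])).ge ha)
    have m0 : m ≠ 0 := fun e => by
      rw [e, mul_zero] at hm; exact Nat.card_pos.ne' hm
    rw [hm, c16]; omega

theorem b32 (hp : Par8 3 F) (B : FB8 3 F) (g : SLn 3 F) (hg : g * g = 1) :
    ∃ P ≤ Cz g, IsPGroup 2 P ∧ 32 ≤ Nat.card P := by
  by_cases h1 : g = 1
  · exact ⟨UU 3 F, fun u _ => mem_centralizer_singleton_iff.2 (by simp [h1]), isP_UU,
      by rw [card_UU, hp.two]; decide⟩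
  obtain ⟨h, k, k1, k2, e⟩ := B.ic g ⟨hg, h1⟩
  refine ⟨(UU 3 F ⊓ Cz (xk F 3 k)).map (MulAut.conj h⁻¹).toMonoidHom, ?_,
    (isP_UU.to_inf_left).map _, ?_⟩
  · rintro _ ⟨u, hu, rfl⟩
    have := mem_centralizer_singleton_iff.1 hu.2
    rw [← e] at this
    refine mem_centralizer_singleton_iff.2 ?_
    change h⁻¹ * u * h⁻¹⁻¹ * g = g * (h⁻¹ * u * h⁻¹⁻¹)
    calc _ = h⁻¹ * (u * (h * g * h⁻¹)) * h := by group
      _ = _ := by rw [this]; group
  · rw [card_map_of_injective (MulAut.conj h⁻¹).injective]; exact big_xk hp k1 k2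

theorem gl3 (hp : Par8 3 F) (θ : MulAut (Er 3 F)) :
    ∃ p ∈ Pr 3 F, ∀ u : Er 3 F, (θ u : SLn 3 F) = p * u * p⁻¹ := by
  obtain ⟨A, hA⟩ : ∃ A : Matrix (Fin (3 + 1)) (Fin (3 + 1)) F, ∀ a b, A a b =
      if a = 0 then (if b = 0 then 1 else 0) else if b = 0 then 0 else
        (θ ⟨x 0 a 1, x_mem_Row 0 a 1⟩).1.1 0 b := ⟨of _, fun _ _ => rfl⟩
  have row : ∀ u : Er 3 F, ∀ a b, a ≠ 0 → u.1.1 a b = if a = b then 1 else 0 := fun u a b h => by
    split_ifs with e
    · rw [e]; exact (mem_Row.1 u.2).1 b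
    · exact (mem_Row.1 u.2).2 a b e h
  have key : ∀ g (hg : g ∈ Er 3 F), A * (θ ⟨g, hg⟩).1.1 = g.1 * A := fun g hg => by
    induction hg using closure_induction with
    | mem g hg =>
      obtain ⟨i, j, c, rfl, rfl⟩ := hg
      rcases hp.fld c with rfl | rfl
      · simp only [x_zero]
        rw [show (⟨1, _⟩ : Er 3 F) = 1 from rfl, map_one]; simp
      by_cases hj : 0 = j
      · subst hj
        simp only [x_self]
        rw [show (⟨1, _⟩ : Er 3 F) = 1 from rfl, map_one]; simp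
      have h0 := (mem_Row.1 (θ ⟨x 0 j 1, x_mem_Row 0 j 1⟩).2).1 0
      have h1 := row (θ ⟨x 0 j 1, x_mem_Row 0 j 1⟩)
      have h2 := hA j
      rw [x_coe hj]
      simp only [if_neg (Ne.symm hj)] at h2
      generalize (θ ⟨x 0 j 1, _⟩).1.1 = R at h0 h1 h2 ⊢
      have h3 : ∀ b, A 0 b = if b = 0 then 1 else 0 := fun b => by rw [hA, if_pos rfl]
      have h4 : ∀ a, a ≠ 0 → A a 0 = 0 := fun a h => by rw [hA, if_neg h, if_pos rfl]
      rw [add_mul, one_mul]
      ext a b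
      rw [Matrix.mul_apply, Fin.sum_univ_four, h1 1 b (by decide), h1 2 b (by decide),
        h1 3 b (by decide), Matrix.add_apply]
      by_cases ha : a = 0
      · subst ha
        rw [single_mul_apply_same, h2 b]
        fin_cases b <;> simp [h3, h0]
      · rw [single_mul_apply_of_ne _ _ _ _ _ ha, h4 a ha]
        fin_cases b <;> simp [h4 a ha]
    | one => rw [show (⟨1, _⟩ : Er 3 F) = 1 from rfl, map_one]; simp
    | mul g h hg hh k1 k2 =>
      rw [show (⟨g * h, _⟩ : Er 3 F) = ⟨g, hg⟩ * ⟨h, hh⟩ from rfl, map_mul, coe_mul, val_mul, val_mul,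
        ← mul_assoc, k1, mul_assoc, k2, mul_assoc]
    | inv g hg k =>
      rw [show (⟨g⁻¹, _⟩ : Er 3 F) = ⟨g, hg⟩⁻¹ from rfl, map_inv, coe_inv]
      calc _ = (g⁻¹).1 * (g.1 * A) * ((θ ⟨g, hg⟩).1⁻¹).1 := by
            rw [← mul_assoc, val_inv_mul, one_mul]
        _ = _ := by rw [← k, mul_assoc, mul_assoc, val_mul_inv, mul_one]
  have dA : A.det = 1 := by
    refine (hp.fld _).resolve_left fun h => ?_
    obtain ⟨v, v0, hv⟩ := exists_vecMul_eq_zero_iff.2 h
    have h0 : v 0 = 0 := by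
      simpa [vecMul, dotProduct, Fin.sum_univ_four, hA] using congrFun hv 0
    obtain ⟨g, hg, e⟩ := exists_Pat (uni_Row (0 : Fin (3 + 1)))
      (of fun a b => if a = b then 1 else if a = 0 then v b else 0) (by simp)
      (fun i j h1 h2 => by simp [h1, h2])
    have h1 : θ ⟨g, hg⟩ = 1 := by
      refine Subtype.ext (Subtype.ext (Matrix.ext fun a b => ?_))
      by_cases ha : a = 0
      · subst ha
        have h2 := congrFun (congrFun (key g hg) 0) b
        have h3 : v 0 * A 0 b + v 1 * A 1 b + v 2 * A 2 b + v 3 * A 3 b = 0 :=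
          (Fin.sum_univ_four fun i => v i * A i b).symm.trans (congrFun hv b)
        have h4 : ∀ b, A 0 b = if b = 0 then 1 else 0 := fun b => by rw [hA, if_pos rfl]
        rw [h0, zero_mul, zero_add, add_assoc] at h3
        rw [e] at h2
        simp [Matrix.mul_apply, Fin.sum_univ_four, h4, add_assoc] at h2
        rw [h3, add_zero] at h2
        exact h2.trans (by simp [one_apply, eq_comm])
      · rw [row _ a b ha]; simp [one_apply]
    have h2 : g = 1 := congrArg Subtype.val (θ.map_eq_one_iff.1 h1)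
    refine v0 (funext fun b => ?_)
    by_cases hb : 0 = b
    · exact hb ▸ h0
    · have := congrFun (congrFun e 0) b
      simpa [h2, hb, one_apply] using this.symm
  obtain ⟨p, rfl⟩ : ∃ p : SLn 3 F, p.1 = A := ⟨⟨A, dA⟩, rfl⟩
  refine ⟨p⁻¹, inv_mem (mem_Pr.2 fun a => by simp [hA]), fun u => ?_⟩
  rw [inv_inv, mul_assoc, eq_inv_mul_iff_mul_eq]
  exact Subtype.ext (key u u.2)

theorem jobFY (B : J8FB) : J8FY := by
  intro n F _ _ _ hp
  obtain rfl := hp.three
  exact ⟨fun y P _ _ => xs hp y P, b32 hp (B 3 F hp), gl3 hp⟩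

end H16.A8FY
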