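import Cfsg.Agent.H2.MinNormal
import Cfsg.Agent.H9.PBasic

set_option autoImplicit false

namespace H16.AltP
open Equiv Equiv.Perm Subgroup
open scoped commutatorElement

/-- the product is not a `p`-element and the pair generates a non-solvable group -/
def Good {Γ : Type*} [Group Γ] (p : ℕ) (a b : Γ) : Prop :=
  (∀ k : ℕ, (a * b) ^ p ^ k ≠ 1) ∧ ¬ Group.IsSolvable (closure ({a, b} : Set Γ))

/-- pairs of permutations compatible with an embedding -/
def cmp {Ω X : Type*} (e : Ω ↪ X) : Subgroup (Perm X × Perm Ω) where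
  carrier := {x | ∀ i, x.1 (e i) = e (x.2 i)}
  one_mem' := fun i => rfl
  mul_mem' := by
    intro x y hx hy i
    simp only [Prod.fst_mul, Prod.snd_mul, Perm.mul_apply]
    rw [hy i, hx]
  inv_mem' := by
    intro x hx i
    simp only [Prod.fst_inv, Prod.snd_inv]
    rw [Perm.inv_eq_iff_eq, hx]
    simp

theorem Good.lift {Ω X : Type*} {p : ℕ} (e : Ω ↪ X) {a b : Perm Ω} {u w : Perm X}
    (hu : ∀ i, u (e i) = e (a i)) (hw : ∀ i, w (e i) = e (b i)) (h : Good p a b) : Good p u w := by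
  have h1 : (u, a) ∈ cmp e := hu
  have h2 : (w, b) ∈ cmp e := hw
  refine ⟨fun k hk => h.1 k ?_, fun hs => h.2 ?_⟩
  · have h3 := (cmp e).pow_mem ((cmp e).mul_mem h1 h2) (p ^ k)
    ext i
    have h4 := h3 i
    simp only [Prod.mk_mul_mk, Prod.pow_mk, hk, Perm.one_apply] at h4
    rw [Perm.one_apply, ← e.injective h4]
  · set H := closure ({u, w} : Set (Perm X))
    let K : Subgroup (Perm X × Perm Ω) := cmp e ⊓ H.prod ⊤
    let f : K →* H := ((MonoidHom.fst _ _).comp K.subtype).codRestrict H (fun x => x.2.2.1)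
    have hf : Function.Injective f := by
      rw [injective_iff_map_eq_one]
      intro x hx
      have h5 : x.1.1 = 1 := congrArg Subtype.val hx
      have h6 : x.1.2 = 1 := by
        ext i
        have := x.2.1 i
        rw [h5, Perm.one_apply] at this
        rw [Perm.one_apply, ← e.injective this]
      exact Subtype.ext (Prod.ext h5 h6)
    have : Group.IsSolvable K := Group.isSolvable_of_isSolvable_injective hf
    let g : K →* Perm Ω := (MonoidHom.snd _ _).comp K.subtype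
    have : Group.IsSolvable g.range := Group.isSolvable_of_surjective g.rangeRestrict_surjective
    have hle : closure ({a, b} : Set (Perm Ω)) ≤ g.range := by
      rw [closure_le]
      rintro x (rfl | rfl)
      · exact ⟨⟨(u, x), h1, subset_closure (by simp), trivial⟩, rfl⟩
      · exact ⟨⟨(w, x), h2, subset_closure (by simp), trivial⟩, rfl⟩
    exact Group.isSolvable_of_isSolvable_injective (inclusion_injective hle)

theorem Good.conj {Ω : Type*} {p : ℕ} {a b : Perm Ω} (x : Perm Ω) (h : Good p a b) :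
    Good p (x * a * x⁻¹) (x * b * x⁻¹) :=
  h.lift x.toEmbedding (fun i => by simp) (fun i => by simp)

theorem Good.symm {Ω : Type*} {p : ℕ} {a b : Perm Ω} (h : Good p a b) : Good p b a := by
  refine ⟨fun k hk => h.1 k ?_, ?_⟩
  · have : a * b = a * (b * a) * a⁻¹ := by group
    rw [this, conj_pow, hk]; simp
  · rw [Set.pair_comm]; exact h.2

/-- the conclusion for permutations -/
def Concl {X : Type*} [Fintype X] [DecidableEq X] (p : ℕ) (u w : Perm X) : Prop :=
  ∀ ε : ℤˣ, ∃ g : Perm X, sign g = ε ∧ Good p u (g * w * g⁻¹)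

theorem Concl.symm {X : Type*} [Fintype X] [DecidableEq X] {p : ℕ} {u w : Perm X}
    (h : Concl p u w) : Concl p w u := by
  intro ε
  obtain ⟨g, hg, h1⟩ := h ε
  refine ⟨g⁻¹, by rw [sign_inv, hg], ?_⟩
  have h2 := (h1.conj g⁻¹).symm
  have e1 : g⁻¹ * (g * w * g⁻¹) * g⁻¹⁻¹ = w := by group
  rwa [e1] at h2

theorem Concl.lift {Ω X : Type*} [Fintype Ω] [DecidableEq Ω] [Fintype X] [DecidableEq X] {p : ℕ}
    (e e' : Ω ↪ X) {a b : Perm Ω} {u w : Perm X}
    (hu : ∀ i, u (e i) = e (a i)) (hw : ∀ i, w (e' i) = e' (b i)) (h : Concl p a b) :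
    Concl p u w := by
  classical
  intro ε
  obtain ⟨g, hg⟩ := Perm.exists_extending_pair _ _ e'.injective e.injective
  obtain ⟨σ, hσ, h1⟩ := h (ε * sign g)
  refine ⟨σ.viaEmbedding e * g, ?_, h1.lift e hu fun i => ?_⟩
  · have : sign (σ.viaEmbedding e) = sign σ := by
      unfold viaEmbedding
      convert sign_extendDomain σ (ofInjective e.1 e.2)
    rw [Perm.sign_mul, this, hσ, mul_assoc, Int.units_mul_self, mul_one]
  · have h2 : (σ.viaEmbedding e * g)⁻¹ (e i) = e' (σ⁻¹ i) := by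
      rw [Perm.inv_eq_iff_eq, Perm.mul_apply, hg, viaEmbedding_apply]
      simp
    rw [Perm.mul_apply, Perm.mul_apply, h2, hw, Perm.mul_apply, hg, viaEmbedding_apply]
    rfl

theorem Concl.conj {X : Type*} [Fintype X] [DecidableEq X] {p : ℕ} {a b : Perm X} (x y : Perm X)
    (h : Concl p a b) : Concl p (x * a * x⁻¹) (y * b * y⁻¹) :=
  h.lift x.toEmbedding y.toEmbedding (fun i => by simp) (fun i => by simp)

/-- a solvable group containing a full cycle of prime power length -/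
theorem pow_of_solv {Ω : Type*} [Finite Ω] {p a : ℕ} (hp : p.Prime) (H : Subgroup (Perm Ω))
    [Group.IsSolvable H] {c h : Perm Ω} (hc : c ∈ H) (hh : h ∈ H)
    (htr : ∀ x y, ∃ k : ℕ, (c ^ k) x = y) (hΩ : Nat.card Ω = p ^ (a + 1))
    (hc1 : c ^ p ^ (a + 1) = 1) (hc2 : c ≠ 1) {k : ℕ} (hk : h ^ p ^ k = 1) :
    ∃ m : ℕ, (c ^ p ^ a * h) ^ p ^ m = 1 := by
  have := Fact.mk hp
  have hT : (⊤ : Subgroup H) ≠ ⊥ := by
    intro h0
    have : (⟨c, hc⟩ : H) ∈ (⊥ : Subgroup H) := h0 ▸ mem_top _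
    exact hc2 (congrArg Subtype.val (mem_bot.1 this))
  have : Group.IsSolvable (⊤ : Subgroup H) := inferInstance
  obtain ⟨r, M, hr, hMn, -, hM0, -, hMr, -⟩ := H2.exists_elementaryAbelian_normal_le (⊤ : Subgroup H) hT
  have := Fact.mk hr
  have hΩ0 : Nonempty Ω := by
    have : Nat.card Ω ≠ 0 := by rw [hΩ]; exact pow_ne_zero _ hp.ne_zero
    exact (Nat.card_ne_zero.1 this).1
  have hrp : r = p := by
    by_contra hne
    have h1 : ¬ r ∣ Nat.card Ω := by
      rw [hΩ]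
      intro hd
      exact hne ((Nat.prime_dvd_prime_iff_eq hr hp).1 (hr.dvd_of_dvd_pow hd))
    obtain ⟨x, hx⟩ := hMr.nonempty_fixed_point_of_prime_not_dvd_card Ω h1
    apply hM0
    rw [eq_bot_iff]
    intro m hm
    rw [mem_bot]
    ext y
    obtain ⟨j, rfl⟩ := htr x y
    have h2 := hMn.conj_mem m hm (⟨c, hc⟩ ^ j)⁻¹
    rw [inv_inv] at h2
    have h3 : (c ^ j)⁻¹ (m.1 ((c ^ j) x)) = x := hx ⟨_, h2⟩
    rw [Perm.inv_eq_iff_eq] at h3
    simpa using h3
  subst hrp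
  have hpg : ∀ (x : H) (j : ℕ), x.1 ^ r ^ j = 1 → IsPGroup r (zpowers x) := by
    intro x j hx
    have hx' : x ^ r ^ j = 1 := Subtype.ext hx
    rintro ⟨y, n, rfl⟩
    refine ⟨j, Subtype.ext ?_⟩
    show (x ^ n) ^ r ^ j = 1
    rw [← zpow_natCast, ← zpow_mul, mul_comm, zpow_mul, zpow_natCast, hx', one_zpow]
  have hP : IsPGroup r (M ⊔ zpowers (⟨c, hc⟩ : H) : Subgroup H) :=
    hMr.to_sup_of_normal_left (hpg _ _ hc1)
  set P : Subgroup H := M ⊔ zpowers (⟨c, hc⟩ : H)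
  have hne : M.subgroupOf P ≠ ⊥ := by
    rw [Ne, subgroupOf_eq_bot, disjoint_iff, inf_eq_left.2 le_sup_left]
    exact hM0
  obtain ⟨b, hbM, hbZ, hbo⟩ := H9.exists_mem_center_orderOf_eq hP hne
  have hcP : (⟨c, hc⟩ : H) ∈ P := mem_sup_right (mem_zpowers _)
  have hcb : c * b.1.1 = b.1.1 * c :=
    congrArg (fun x : P => x.1.1) (mem_center_iff.1 hbZ ⟨_, hcP⟩)
  obtain ⟨x0⟩ := hΩ0
  obtain ⟨j, hj⟩ := htr x0 (b.1.1 x0)
  have hb : b.1.1 = c ^ j := by
    ext y
    obtain ⟨i, rfl⟩ := htr x0 y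
    have h1 : Commute (c ^ i) b.1.1 := (Commute.pow_left hcb i)
    rw [← Perm.mul_apply, ← h1.eq, Perm.mul_apply, ← hj, ← Perm.mul_apply, ← Perm.mul_apply,
      pow_mul_comm]
  have hj1 : c ^ j ≠ 1 := by
    rw [← hb]
    intro h0
    have : b = 1 := Subtype.ext (Subtype.ext h0)
    rw [this, orderOf_one] at hbo
    exact hr.one_lt.ne hbo
  have hj0 : j ≠ 0 := by rintro rfl; exact hj1 (pow_zero _)
  obtain ⟨i, m, hm, rfl⟩ := Nat.exists_eq_pow_mul_and_not_dvd hj0 r hr.ne_one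
  have hi : i ≤ a := by
    by_contra hlt
    apply hj1
    obtain ⟨d, rfl⟩ := Nat.exists_eq_add_of_le (show a + 1 ≤ i by omega)
    rw [pow_add, mul_assoc, pow_mul, hc1, one_pow]
  have hcop : (m).Coprime (orderOf (c ^ r ^ i)) := by
    have h1 : orderOf (c ^ r ^ i) ∣ r ^ (a + 1) :=
      (orderOf_pow_dvd _).trans (orderOf_dvd_of_pow_eq_one hc1)
    exact Nat.Coprime.coprime_dvd_right h1
      (Nat.Coprime.pow_right _ ((Nat.Prime.coprime_iff_not_dvd hr).2 hm).symm)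
  obtain ⟨t, ht⟩ := exists_pow_eq_self_of_coprime hcop
  have hmem : (⟨c, hc⟩ : H) ^ r ^ a ∈ M := by
    have h1 : b.1 ^ (t * r ^ (a - i)) ∈ M := M.pow_mem hbM _
    have h2 : b.1 ^ (t * r ^ (a - i)) = (⟨c, hc⟩ : H) ^ r ^ a := by
      apply Subtype.ext
      simp only [SubmonoidClass.coe_pow]
      rw [hb, pow_mul, pow_mul c, ht, ← pow_mul, ← pow_add, Nat.add_sub_cancel' hi]
    rwa [h2] at h1
  have hP2 : IsPGroup r (M ⊔ zpowers (⟨h, hh⟩ : H) : Subgroup H) :=
    hMr.to_sup_of_normal_left (hpg _ _ hk)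
  obtain ⟨n, hn⟩ := hP2 ⟨_, mul_mem (mem_sup_left hmem) (mem_sup_right (mem_zpowers _))⟩
  exact ⟨n, congrArg (fun x : (M ⊔ zpowers (⟨h, hh⟩ : H) : Subgroup H) => x.1.1) hn⟩

theorem two_cycle {Ω : Type*} {p : ℕ} (hp : Odd p) {h : Perm Ω} {x y : Ω} (h1 : h x = y)
    (h2 : h y = x) (hxy : x ≠ y) (k : ℕ) : h ^ p ^ k ≠ 1 := by
  intro h0
  obtain ⟨m, hm⟩ := hp.pow (n := k)
  have h3 : ∀ m : ℕ, (h ^ (2 * m)) y = y := by
    intro m
    induction m with
    | zero => rfl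
    | succ m ih => rw [Nat.mul_succ, pow_add, Perm.mul_apply, pow_two, Perm.mul_apply, h2, h1, ih]
  have h4 : (h ^ p ^ k) x = y := by rw [hm, pow_succ, Perm.mul_apply, h1, h3]
  rw [h0] at h4
  exact hxy h4

theorem prescribe {Ω ι : Type*} [Fintype Ω] [DecidableEq Ω] [Fintype ι] {f g : ι → Ω}
    (hf : Function.Injective f) (hg : Function.Injective g)
    (hc : Fintype.card ι + 2 ≤ Fintype.card Ω) (ε : ℤˣ) :
    ∃ σ : Perm Ω, sign σ = ε ∧ ∀ i, σ (f i) = g i := by
  obtain ⟨σ, hσ⟩ := Perm.exists_extending_pair _ _ hf hg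
  by_cases h : sign σ = ε
  · exact ⟨σ, h, hσ⟩
  have h1 : 1 < ((Finset.univ.image g)ᶜ).card := by
    rw [Finset.card_compl, Finset.card_image_of_injective _ hg, Finset.card_univ]
    omega
  obtain ⟨x, hx, y, hy, hxy⟩ := Finset.one_lt_card.1 h1
  simp only [Finset.mem_compl, Finset.mem_image, Finset.mem_univ, true_and, not_exists] at hx hy
  refine ⟨swap x y * σ, ?_, fun i => ?_⟩
  · rw [Perm.sign_mul, sign_swap hxy]
    rcases Int.units_eq_one_or (sign σ) with h2 | h2 <;> rcases Int.units_eq_one_or ε with h3 | h3 <;>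
      simp_all
  · rw [Perm.mul_apply, hσ, swap_apply_of_ne_of_ne (hx i) (hy i)]

end H16.AltP
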