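import Cfsg.Agent.H16.AltP1

set_option autoImplicit false

namespace H16.AltP
open Equiv Equiv.Perm Subgroup
open scoped commutatorElement

theorem pe_sq {Ω : Type*} {p k : ℕ} (hp : Odd p) {β : Perm Ω} (hβ : β ^ p ^ k = 1) {x : Ω}
    (hx : β x ≠ x) : β (β x) ≠ x :=
  fun h => two_cycle hp rfl h hx.symm k hβ

theorem cast_inj {N : ℕ} {i j : ℤ} (h : (i : ZMod N) = j) (h1 : i - j < N) (h2 : j - i < N) :
    i = j := by
  rw [ZMod.intCast_eq_intCast_iff_dvd_sub] at h
  have := Int.eq_zero_of_abs_lt_dvd h (abs_lt.2 ⟨by omega, h2⟩)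
  omega

theorem addR_pow {N : ℕ} (k : ℕ) (x : ZMod N) :
    ((Equiv.addRight (1 : ZMod N) : Perm (ZMod N)) ^ k) x = x + k := by
  induction k with
  | zero => simp
  | succ k ih => rw [pow_succ', Perm.mul_apply, ih]; simp [add_assoc]

theorem good_of {p a N : ℕ} [NeZero N] (hp : p.Prime) (hN : N = p ^ (a + 1)) {β : Perm (ZMod N)}
    {k : ℕ} (hβ : β ^ p ^ k = 1) (h1 : ∀ k, (Equiv.addRight (1 : ZMod N) * β) ^ p ^ k ≠ 1)
    (h2 : ∀ k, ((Equiv.addRight (1 : ZMod N) : Perm (ZMod N)) ^ p ^ a * β) ^ p ^ k ≠ 1) :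
    Good p (Equiv.addRight (1 : ZMod N)) β := by
  refine ⟨h1, fun hs => ?_⟩
  have hN1 : 1 < N := by rw [hN]; exact Nat.one_lt_pow (by omega) hp.one_lt
  have := Fact.mk hN1
  obtain ⟨m, hm⟩ := pow_of_solv (a := a) hp
    (closure ({Equiv.addRight (1 : ZMod N), β} : Set (Perm (ZMod N))))
    (c := Equiv.addRight (1 : ZMod N)) (h := β) (subset_closure (by simp)) (subset_closure (by simp))
    (fun x y => ⟨(y - x).val, by rw [addR_pow]; simp⟩) (by rw [Nat.card_zmod, hN])
    (by ext x; rw [addR_pow, ← hN]; simp)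
    (fun h => by simpa using congrArg (fun f : Perm (ZMod N) => f 0) h) hβ
  exact h2 m hm

theorem coreA {p a N : ℕ} [NeZero N] (hp : p.Prime) (hp3 : 3 ≤ p) (hN : N = p ^ (a + 1)) (h5 : 5 ≤ N)
    {β : Perm (ZMod N)} {k : ℕ} (hβ : β ^ p ^ k = 1) {s : ZMod N} (hs : β s ≠ s) :
    Concl p (Equiv.addRight (1 : ZMod N)) β := by
  intro ε
  have := Fact.mk hp
  have hodd : Odd p := hp.odd_of_ne_two (by omega)
  have hs2 := pe_sq hodd hβ hs
  have hcj : ∀ σ : Perm (ZMod N), (σ * β * σ⁻¹) ^ p ^ k = 1 := fun σ => by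
    rw [conj_pow, hβ]; simp
  have hap : ∀ (σ : Perm (ZMod N)) (x y : ZMod N), σ x = y → (σ * β * σ⁻¹) y = σ (β x) := by
    rintro σ x y rfl; simp
  rcases Nat.eq_zero_or_pos a with rfl | ha
  · -- prime degree
    have hg : Function.Injective (fun i => ((![1, 0, 2] : Fin 3 → ℤ) i : ZMod N)) := by
      intro i j h
      have := cast_inj h (by fin_cases i <;> fin_cases j <;> simp <;> omega)
        (by fin_cases i <;> fin_cases j <;> simp <;> omega)
      fin_cases i <;> fin_cases j <;> simp_all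
    have hf : Function.Injective (![s, β s, β (β s)] : Fin 3 → ZMod N) := by
      intro i j h
      fin_cases i <;> fin_cases j <;> simp_all [eq_comm]
    obtain ⟨σ, hσ, h⟩ := prescribe hf hg (by simp [ZMod.card]; omega) ε
    have e0 : σ s = 1 := by simpa using h 0
    have e1 : σ (β s) = 0 := by simpa using h 1
    have e2 : σ (β (β s)) = 2 := by simpa using h 2
    have key : ∀ k, (Equiv.addRight (1 : ZMod N) * (σ * β * σ⁻¹)) ^ p ^ k ≠ 1 := by
      intro j hj
      set f := Equiv.addRight (1 : ZMod N) * (σ * β * σ⁻¹) with hf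
      have f1 : f 1 = 1 := by rw [hf, Perm.mul_apply, hap σ _ _ e0, e1]; simp
      have f0 : f 0 ≠ 0 := by
        rw [hf, Perm.mul_apply, hap σ _ _ e1, e2]
        intro h0
        have h3 : ((3 : ℤ) : ZMod N) = ((0 : ℤ) : ZMod N) := by
          simp only [coe_addRight] at h0
          rw [Int.cast_zero, ← h0]; push_cast; ring
        have := cast_inj h3 (by omega) (by omega)
        omega
      have h4 := Perm.card_fixedPoints_modEq (f := (show Function.End (ZMod N) from ⇑f)) (p := p) (n := j)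
        (by
          have : ∀ n : ℕ, (show Function.End (ZMod N) from ⇑f) ^ n = (show Function.End (ZMod N) from ⇑(f ^ n)) := by
            intro n
            induction n with
            | zero => rfl
            | succ n ih => rw [pow_succ, ih, pow_succ]; rfl
          exact (this _).trans (by rw [hj]; rfl))
      have hc : Fintype.card (ZMod N) = p := by rw [ZMod.card, hN, zero_add, pow_one]
      rw [hc] at h4
      have h6 : p ∣ Fintype.card (Function.fixedPoints f) :=
        (Nat.modEq_zero_iff_dvd.1 (h4.symm.trans (Nat.modEq_zero_iff_dvd.2 dvd_rfl)))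
      have h7 : 0 < Fintype.card (Function.fixedPoints f) := Fintype.card_pos_iff.2 ⟨⟨1, f1⟩⟩
      have h8 : Fintype.card (Function.fixedPoints f) < Fintype.card (ZMod N) :=
        Fintype.card_subtype_lt (x := 0) f0
      rw [hc] at h8
      have := Nat.le_of_dvd h7 h6
      omega
    exact ⟨σ, hσ, good_of (a := 0) hp hN (hcj σ) key (by simpa using key)⟩
  · set q := p ^ a with hq
    have hq3 : 3 ≤ q := hp3.trans (by
      calc p = p ^ 1 := (pow_one p).symm
        _ ≤ p ^ a := Nat.pow_le_pow_right hp.pos ha)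
    have hNq : 3 * q ≤ N := by rw [hN, pow_succ]; nlinarith
    have ne : ∀ i j : ℤ, i ≠ j → i - j < N → j - i < N → (i : ZMod N) ≠ j :=
      fun i j h h1 h2 h3 => h (cast_inj h3 h1 h2)
    by_cases hfix : ∃ x y, x ≠ y ∧ β x = x ∧ β y = y
    · obtain ⟨x, y, hxy, hx, hy⟩ := hfix
      have hg : Function.Injective
          (fun i => ((![1, -1, -1 - 2 * q, 0, -1 - q] : Fin 5 → ℤ) i : ZMod N)) := by
        intro i j h
        have := cast_inj h (by fin_cases i <;> fin_cases j <;> simp <;> omega)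
          (by fin_cases i <;> fin_cases j <;> simp <;> omega)
        fin_cases i <;> fin_cases j <;> simp at this ⊢ <;> omega
      have n1 : ∀ z, β z = z → s ≠ z ∧ β s ≠ z ∧ β (β s) ≠ z := by
        intro z hz
        have a1 : s ≠ z := by rintro rfl; exact hs hz
        have a2 : β s ≠ z := fun h => a1 (β.injective (h.trans hz.symm))
        exact ⟨a1, a2, fun h => a2 (β.injective (h.trans hz.symm))⟩
      have hf : Function.Injective (![s, β s, β (β s), x, y] : Fin 5 → ZMod N) := by
        obtain ⟨a1, a2, a3⟩ := n1 x hx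
        obtain ⟨b1, b2, b3⟩ := n1 y hy
        have c1 : β (β s) ≠ β s := fun h => hs (β.injective h)
        intro i j h
        fin_cases i <;> fin_cases j <;> first | rfl | (exfalso; simp at h; first | contradiction | exact absurd h.symm (by assumption))
      obtain ⟨σ, hσ, h⟩ := prescribe hf hg (by simp [ZMod.card]; omega) ε
      have e0 : σ s = 1 := by simpa using h 0
      have e1 : σ (β s) = -1 := by simpa using h 1
      have e2 : σ (β (β s)) = -1 - 2 * q := by simpa using h 2
      have e3 : σ x = 0 := by simpa using h 3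
      have e4 : σ y = -1 - q := by simpa using h 4
      refine ⟨σ, hσ, good_of hp hN (hcj σ) (two_cycle hodd (x := 1) (y := 0) ?_ ?_ ?_)
        (two_cycle hodd (x := -1) (y := -1 - q) ?_ ?_ ?_)⟩
      · rw [Perm.mul_apply, hap σ _ _ e0, e1]; simp
      · rw [Perm.mul_apply, hap σ _ _ e3, hx, e3]; simp
      · simpa using ne 1 0 (by omega) (by omega) (by omega)
      · rw [Perm.mul_apply, hap σ _ _ e1, e2, addR_pow, ← hq]; ring
      · rw [Perm.mul_apply, hap σ _ _ e4, hy, e4, addR_pow, ← hq]; ring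
      · have := ne (-1) (-1 - q) (by omega) (by omega) (by omega)
        push_cast at this; exact this
    · push Not at hfix
      obtain ⟨t, ht, ht1, ht2, ht3, ht4, ht5⟩ : ∃ t, β t ≠ t ∧ t ≠ s ∧ t ≠ β s ∧ t ≠ β (β s) ∧
          β t ≠ s ∧ β (β t) ≠ s := by
        have h1 : (Finset.univ.filter (fun x => β x = x)).card ≤ 1 := by
          rw [Finset.card_le_one]
          intro x hx y hy
          by_contra hxy
          exact hfix x y hxy (Finset.mem_filter.1 hx).2 (Finset.mem_filter.1 hy).2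
        have h2 : ((Finset.univ.filter (fun x => β x = x)) ∪
            {s, β s, β (β s), β⁻¹ s, β⁻¹ (β⁻¹ s)}).card < (Finset.univ : Finset (ZMod N)).card := by
          have h3 := Finset.card_union_le (Finset.univ.filter (fun x => β x = x))
            {s, β s, β (β s), β⁻¹ s, β⁻¹ (β⁻¹ s)}
          have h4 : ({s, β s, β (β s), β⁻¹ s, β⁻¹ (β⁻¹ s)} : Finset (ZMod N)).card ≤ 5 :=
            Finset.card_le_five
          rw [Finset.card_univ, ZMod.card]
          omega
        obtain ⟨t, -, ht⟩ := Finset.exists_mem_notMem_of_card_lt_card h2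
        simp only [Finset.mem_union, Finset.mem_filter, Finset.mem_univ, true_and, Finset.mem_insert,
          Finset.mem_singleton, not_or] at ht
        refine ⟨t, ht.1, ht.2.1, ht.2.2.1, ht.2.2.2.1, fun h => ht.2.2.2.2.1 ?_,
          fun h => ht.2.2.2.2.2 ?_⟩
        · rw [← h]; simp
        · rw [← h]; simp
      have ht6 := pe_sq hodd hβ ht
      have hg : Function.Injective
          (fun i => ((![0, 1, -1 - q, 2, -1, 1 - q] : Fin 6 → ℤ) i : ZMod N)) := by
        intro i j h
        have := cast_inj h (by fin_cases i <;> fin_cases j <;> simp <;> omega)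
          (by fin_cases i <;> fin_cases j <;> simp <;> omega)
        fin_cases i <;> fin_cases j <;> simp at this ⊢ <;> omega
      have hf : Function.Injective
          (![s, β s, β (β s), t, β t, β (β t)] : Fin 6 → ZMod N) := by
        intro i j h
        fin_cases i <;> fin_cases j <;> first | rfl | (exfalso; simp at h; first | contradiction | exact absurd h.symm (by assumption))
      obtain ⟨σ, hσ, h⟩ := prescribe hf hg (by simp [ZMod.card]; omega) ε
      have e0 : σ s = 0 := by simpa using h 0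
      have e1 : σ (β s) = 1 := by simpa using h 1
      have e2 : σ (β (β s)) = -1 - q := by simpa using h 2
      have e3 : σ t = 2 := by simpa using h 3
      have e4 : σ (β t) = -1 := by simpa using h 4
      have e5 : σ (β (β t)) = 1 - q := by simpa using h 5
      refine ⟨σ, hσ, good_of hp hN (hcj σ) (two_cycle hodd (x := 0) (y := 2) ?_ ?_ ?_)
        (two_cycle hodd (x := 1) (y := -1) ?_ ?_ ?_)⟩
      · rw [Perm.mul_apply, hap σ _ _ e0, e1]; simp [one_add_one_eq_two]
      · rw [Perm.mul_apply, hap σ _ _ e3, e4]; simp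
      · simpa using ne 0 2 (by omega) (by omega) (by omega)
      · rw [Perm.mul_apply, hap σ _ _ e1, e2, addR_pow, ← hq]; ring
      · rw [Perm.mul_apply, hap σ _ _ e4, e5, addR_pow, ← hq]; ring
      · simpa using ne 1 (-1) (by omega) (by omega) (by omega)

theorem orbit_fin {X : Type*} [Fintype X] [DecidableEq X] {p j : ℕ} (hp : p.Prime) (w : Perm X) {x : X}
    (h1 : (w ^ p ^ j) x ≠ x) (h2 : (w ^ p ^ (j + 1)) x = x) :
    ∃ O : Finset X, O.card = p ^ (j + 1) ∧ x ∈ O ∧ (∀ y, w y ∈ O ↔ y ∈ O) ∧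
      ∀ T : Finset X, (∀ y, w y ∈ T ↔ y ∈ T) → x ∈ T → O ⊆ T := by
  classical
  have := Fact.mk hp
  have hm : Function.minimalPeriod (w • ·) x = p ^ (j + 1) := by
    apply Function.minimalPeriod_eq_prime_pow
    · intro h; apply h1
      have := h.eq
      rwa [smul_iterate] at this
    · show _ = _
      rw [smul_iterate]; exact h2
  refine ⟨(MulAction.orbit (zpowers w) x).toFinset, ?_, ?_, ?_, ?_⟩
  · rw [Set.toFinset_card, ← MulAction.minimalPeriod_eq_card, hm]
  · simp
  · intro y
    simp only [Set.mem_toFinset]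
    constructor
    · rintro ⟨g, hg⟩
      refine ⟨⟨w, mem_zpowers w⟩⁻¹ * g, ?_⟩
      show w⁻¹ (g.1 x) = y
      have : g.1 x = w y := hg
      rw [this]; simp
    · rintro ⟨g, rfl⟩
      exact ⟨⟨w, mem_zpowers w⟩ * g, rfl⟩
  · intro T hT hx y hy
    obtain ⟨⟨g, hg⟩, rfl⟩ := Set.mem_toFinset.1 hy
    obtain ⟨n, rfl⟩ := (Submonoid.mem_powers_iff _ _).1 (mem_powers_iff_mem_zpowers.2 hg)
    show (w ^ n) x ∈ T
    clear hy hg
    induction n with
    | zero => exact hx
    | succ n ih => rw [pow_succ', Perm.mul_apply, hT]; exact ih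

theorem group_aux {X : Type*} [Fintype X] [DecidableEq X] {p : ℕ} (hp : p.Prime) (w : Perm X) (j : ℕ) :
    ∀ (M : ℕ) (T : Finset X), (∀ y, w y ∈ T ↔ y ∈ T) → (∀ y ∈ T, (w ^ p ^ j) y = y) → p ^ j ∣ M →
      M ≤ T.card → ∃ S ⊆ T, S.card = M ∧ ∀ y, w y ∈ S ↔ y ∈ S := by
  induction j with
  | zero =>
    intro M T hT hfix _ hM
    obtain ⟨S, hS, hc⟩ := Finset.exists_subset_card_eq hM
    refine ⟨S, hS, hc, fun y => ⟨fun h => ?_, fun h => ?_⟩⟩
    · have := hfix y ((hT y).1 (hS h))
      rw [pow_zero, pow_one] at this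
      rwa [this] at h
    · have := hfix y (hS h)
      rw [pow_zero, pow_one] at this
      rwa [this]
  | succ j ih =>
    intro M
    induction M using Nat.strong_induction_on with
    | _ M ihM =>
      intro T hT hfix hd hM
      by_cases h0 : M = 0
      · exact ⟨∅, Finset.empty_subset _, by simp [h0], by simp⟩
      by_cases h1 : ∀ y ∈ T, (w ^ p ^ j) y = y
      · exact ih M T hT h1 ((pow_dvd_pow p (Nat.le_succ j)).trans hd) hM
      push Not at h1
      obtain ⟨x, hx, hx1⟩ := h1
      obtain ⟨O, hO, -, hO2, hO3⟩ := orbit_fin hp w hx1 (hfix x hx)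
      have hle := Nat.le_of_dvd (Nat.pos_of_ne_zero h0) hd
      have hpos : 0 < p ^ (j + 1) := pow_pos hp.pos _
      obtain ⟨S, hS, hc, hS2⟩ := ihM (M - p ^ (j + 1)) (by omega) (T \ O)
        (fun y => by simp [hT, hO2]) (fun y hy => hfix y (Finset.mem_sdiff.1 hy).1)
        (Nat.dvd_sub hd dvd_rfl) (by rw [Finset.card_sdiff_of_subset (hO3 T hT hx)]; omega)
      refine ⟨S ∪ O, Finset.union_subset (hS.trans Finset.sdiff_subset) (hO3 T hT hx), ?_,
        fun y => by simp [hS2, hO2]⟩
      rw [Finset.card_union_of_disjoint (Finset.disjoint_of_subset_left hS Finset.sdiff_disjoint)]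
      omega

/-- an invariant subset of prescribed size containing a moved point -/
theorem group_emb {X Ω : Type*} [Fintype X] [DecidableEq X] [Fintype Ω] {p b : ℕ} (hp : p.Prime)
    {w : Perm X} (hw : orderOf w = p ^ (b + 1)) (hd : p ^ (b + 1) ∣ Fintype.card Ω) [Nonempty Ω]
    (hle : Fintype.card Ω ≤ Fintype.card X) :
    ∃ (e : Ω ↪ X) (β : Perm Ω), (∀ i, w (e i) = e (β i)) ∧ β ^ p ^ (b + 1) = 1 ∧ ∃ s, β s ≠ s := by
  have hw1 : w ^ p ^ (b + 1) = 1 := hw ▸ pow_orderOf_eq_one w
  have hw2 : w ^ p ^ b ≠ 1 := pow_ne_one_of_lt_orderOf (pow_ne_zero _ hp.ne_zero)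
    (by rw [hw]; exact Nat.pow_lt_pow_right hp.one_lt (Nat.lt_succ_self b))
  obtain ⟨x, hx⟩ : ∃ x, (w ^ p ^ b) x ≠ x := by
    by_contra h; push Not at h; exact hw2 (Equiv.ext h)
  obtain ⟨O, hO, hxO, hO2, -⟩ := orbit_fin hp w hx (by rw [hw1]; rfl)
  have hle2 := Nat.le_of_dvd Fintype.card_pos hd
  obtain ⟨S, hS, hc, hS2⟩ := group_aux hp w (b + 1) (Fintype.card Ω - p ^ (b + 1)) Oᶜ
    (fun y => by simp [hO2]) (fun y _ => by rw [hw1]; rfl) (Nat.dvd_sub hd dvd_rfl)
    (by rw [Finset.card_compl]; omega)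
  have hc2 : (S ∪ O).card = Fintype.card Ω := by
    rw [Finset.card_union_of_disjoint (Finset.disjoint_of_subset_left hS disjoint_compl_left)]
    omega
  have hinv : ∀ y, w y ∈ S ∪ O ↔ y ∈ S ∪ O := fun y => by simp [hS2, hO2]
  let f : Ω ≃ (S ∪ O : Finset X) := Fintype.equivOfCardEq (by rw [Fintype.card_coe, hc2])
  let e : Ω ↪ X := f.toEmbedding.trans (Function.Embedding.subtype _)
  let β : Perm Ω := f.symm.permCongr (w.subtypePerm hinv)
  have hβ : ∀ i, w (e i) = e (β i) := fun i => by simp [e, β]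
  have hcmp : (w, β) ∈ cmp e := hβ
  refine ⟨e, β, hβ, ?_, f.symm ⟨x, Finset.mem_union_right _ hxO⟩, fun h => hx ?_⟩
  · ext i
    have := (cmp e).pow_mem hcmp (p ^ (b + 1)) i
    simp only [Prod.pow_mk, hw1, Perm.one_apply] at this
    rw [Perm.one_apply, ← e.injective this]
  · have h1 := hβ (f.symm ⟨x, Finset.mem_union_right _ hxO⟩)
    rw [h] at h1
    have h2 : w x = x := by simpa [e] using h1
    exact Function.IsFixedPt.perm_pow h2 _

/-- a longest cycle -/
theorem cycle_emb {X : Type*} [Fintype X] {p a N : ℕ} [NeZero N] (hp : p.Prime) (hN : N = p ^ (a + 1))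
    {u : Perm X} (hu : orderOf u = p ^ (a + 1)) :
    ∃ e : ZMod N ↪ X, ∀ i, u (e i) = e (Equiv.addRight (1 : ZMod N) i) := by
  have := Fact.mk hp
  have hw1 : u ^ p ^ (a + 1) = 1 := hu ▸ pow_orderOf_eq_one u
  have hw2 : u ^ p ^ a ≠ 1 := pow_ne_one_of_lt_orderOf (pow_ne_zero _ hp.ne_zero)
    (by rw [hu]; exact Nat.pow_lt_pow_right hp.one_lt (Nat.lt_succ_self a))
  obtain ⟨x, hx⟩ : ∃ x, (u ^ p ^ a) x ≠ x := by
    by_contra h; push Not at h; exact hw2 (Equiv.ext h)
  have hm : Function.minimalPeriod u x = N := by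
    rw [hN]
    apply Function.minimalPeriod_eq_prime_pow
    · intro h; apply hx
      have := h.eq
      rwa [Perm.iterate_eq_pow] at this
    · show _ = _
      rw [Perm.iterate_eq_pow, hw1]; rfl
  refine ⟨⟨fun i => u^[i.val] x, fun i j h => ?_⟩, fun i => ?_⟩
  · apply ZMod.val_injective
    exact Function.iterate_injOn_Iio_minimalPeriod (by rw [hm]; exact i.val_lt)
      (by rw [hm]; exact j.val_lt) h
  · show u (u^[i.val] x) = u^[(i + 1).val] x
    have h1 : 1 < N := by rw [hN]; exact Nat.one_lt_pow (by omega) hp.one_lt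
    have := Fact.mk h1
    have h2 := Function.iterate_mod_minimalPeriod_eq (f := u) (x := x) (n := i.val + 1)
    rw [hm] at h2
    rw [ZMod.val_add, ZMod.val_one, h2, Function.iterate_succ_apply']

end H16.AltP
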