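import Cfsg.Agent.H16.AltP2

set_option autoImplicit false

namespace H16.AltP
open Equiv Equiv.Perm Subgroup
open scoped commutatorElement

theorem good_words {Γ : Type*} [Group Γ] {a b y z : Γ} (h5 : (a * b) ^ 5 = 1) (h1 : a * b ≠ 1)
    (ha : a ≠ 1) (hy : y ∈ closure ({a, b} : Set Γ)) (hz : z ∈ closure ({a, b} : Set Γ))
    (key : a = z * ⁅a, y * a * y⁻¹⁆ * z⁻¹) : Good 3 a b := by
  refine ⟨fun k hk => h1 ?_, ?_⟩
  · have := pow_gcd_eq_one.2 ⟨h5, hk⟩
    rwa [Nat.Coprime.pow_right k (by norm_num : Nat.Coprime 5 3), pow_one] at this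
  · let a' : closure ({a, b} : Set Γ) := ⟨a, subset_closure (by simp)⟩
    refine not_isSolvable_of_mem_derivedSeries (g := a') (fun h => ha (congrArg Subtype.val h)) ?_
    intro n
    induction n with
    | zero => exact mem_top _
    | succ n ih =>
      have k2 : a' = ⟨z, hz⟩ * ⁅a', ⟨y, hy⟩ * a' * (⟨y, hy⟩ : closure ({a, b} : Set Γ))⁻¹⁆ *
          (⟨z, hz⟩ : closure ({a, b} : Set Γ))⁻¹ := Subtype.ext key
      rw [k2, derivedSeries_succ]
      exact (commutator_normal _ _).conj_mem _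
        (commutator_mem_commutator ih ((derivedSeries_normal _ _).conj_mem _ ih _)) _

theorem concl_of {Ω : Type*} [Fintype Ω] [DecidableEq Ω] {p : ℕ} {a b b' s t : Perm Ω}
    (h : Good p a b') (hs : sign s = 1) (ht : sign t = -1) (e1 : s * b * s⁻¹ = b')
    (e2 : t * b * t⁻¹ = b') : Concl p a b := by
  intro ε
  rcases Int.units_eq_one_or ε with rfl | rfl
  · exact ⟨s, hs, e1 ▸ h⟩
  · exact ⟨t, ht, e2 ▸ h⟩

theorem m1 {Γ : Type*} [Group Γ] (a b : Γ) : b * a * a * b ∈ closure ({a, b} : Set Γ) :=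
  mul_mem (mul_mem (mul_mem (subset_closure (by simp)) (subset_closure (by simp)))
    (subset_closure (by simp))) (subset_closure (by simp))
theorem m2 {Γ : Type*} [Group Γ] (a b : Γ) : b ∈ closure ({a, b} : Set Γ) := subset_closure (by simp)
theorem m3 {Γ : Type*} [Group Γ] (a b : Γ) : b * b ∈ closure ({a, b} : Set Γ) :=
  mul_mem (subset_closure (by simp)) (subset_closure (by simp))
theorem m4 {Γ : Type*} [Group Γ] (a b : Γ) : b * a * b * b ∈ closure ({a, b} : Set Γ) :=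
  mul_mem (mul_mem (mul_mem (subset_closure (by simp)) (subset_closure (by simp)))
    (subset_closure (by simp))) (subset_closure (by simp))

/-- explicit permutations -/
def mk {n : ℕ} (f g : Fin n → Fin n) (h1 : ∀ x, g (f x) = x := by decide)
    (h2 : ∀ x, f (g x) = x := by decide) : Perm (Fin n) := ⟨f, g, h1, h2⟩

def A5 : Perm (Fin 5) := mk ![1, 2, 0, 3, 4] ![2, 0, 1, 3, 4]
def A1 : Perm (Fin 6) := mk ![1, 2, 0, 3, 4, 5] ![2, 0, 1, 3, 4, 5]
def A2 : Perm (Fin 6) := mk ![1, 2, 0, 4, 5, 3] ![2, 0, 1, 5, 3, 4]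

theorem c55 : Concl 3 A5 A5 :=
  concl_of (b' := mk ![3, 1, 2, 4, 0] ![4, 1, 2, 0, 3]) (s := mk ![0, 3, 4, 1, 2] ![0, 3, 4, 1, 2])
    (t := mk ![0, 3, 4, 2, 1] ![0, 4, 3, 1, 2])
    (good_words (by decide) (by decide) (by decide) (m1 _ _) (m2 _ _) (by decide))
    (by decide) (by decide) (by decide) (by decide)

theorem c11 : Concl 3 A1 A1 :=
  concl_of (b' := mk ![3, 1, 2, 4, 0, 5] ![4, 1, 2, 0, 3, 5])
    (s := mk ![0, 3, 4, 1, 2, 5] ![0, 3, 4, 1, 2, 5])
    (t := mk ![0, 3, 4, 1, 5, 2] ![0, 3, 5, 1, 2, 4])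
    (good_words (by decide) (by decide) (by decide) (m1 _ _) (m2 _ _) (by decide))
    (by decide) (by decide) (by decide) (by decide)

theorem c12 : Concl 3 A1 A2 :=
  concl_of (b' := mk ![2, 4, 3, 0, 5, 1] ![3, 5, 0, 2, 1, 4])
    (s := mk ![0, 2, 3, 1, 4, 5] ![0, 3, 1, 2, 4, 5])
    (t := mk ![1, 4, 5, 0, 2, 3] ![3, 0, 4, 5, 1, 2])
    (good_words (by decide) (by decide) (by decide) (m3 _ _) (m4 _ _) (by decide))
    (by decide) (by decide) (by decide) (by decide)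

theorem c22 : Concl 3 A2 A2 :=
  concl_of (b' := mk ![1, 3, 5, 0, 2, 4] ![3, 0, 4, 1, 5, 2])
    (s := mk ![0, 1, 3, 2, 5, 4] ![0, 1, 3, 2, 5, 4])
    (t := mk ![2, 5, 4, 0, 1, 3] ![3, 4, 0, 5, 2, 1])
    (good_words (by decide) (by decide) (by decide) (m1 _ _) (m2 _ _) (by decide))
    (by decide) (by decide) (by decide) (by decide)

theorem ct3 {Ω : Type*} [Fintype Ω] [DecidableEq Ω] {a : Perm Ω} (h : a ^ 3 = 1) (h1 : a ≠ 1) :
    ∃ n, a.cycleType = Multiset.replicate (n + 1) 3 ∧ a.support.card = (n + 1) * 3 := by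
  have h2 : orderOf a = 3 := orderOf_eq_prime h h1
  obtain ⟨n, hn⟩ := cycleType_prime_order (σ := a) (by rw [h2]; norm_num)
  rw [h2] at hn
  refine ⟨n, hn, ?_⟩
  rw [← sum_cycleType, hn, Multiset.sum_replicate, smul_eq_mul]

theorem conj3 {Ω : Type*} [Fintype Ω] [DecidableEq Ω] {a b : Perm Ω} (h : a ^ 3 = 1) (h1 : a ≠ 1)
    (h' : b ^ 3 = 1) (h1' : b ≠ 1) (hc : a.support.card = b.support.card) :
    ∃ x, x * a * x⁻¹ = b := by
  obtain ⟨n, hn, e⟩ := ct3 h h1
  obtain ⟨m, hm, e'⟩ := ct3 h' h1'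
  have : n = m := by omega
  subst this
  exact isConj_iff.1 (isConj_of_cycleType_eq (hn.trans hm.symm))

theorem core5 {a b : Perm (Fin 5)} (h : a ^ 3 = 1) (h1 : a ≠ 1) (h' : b ^ 3 = 1) (h1' : b ≠ 1) :
    Concl 3 a b := by
  have k : ∀ a : Perm (Fin 5), a ^ 3 = 1 → a ≠ 1 → ∃ x, x * A5 * x⁻¹ = a := by
    intro a h h1
    obtain ⟨n, -, e⟩ := ct3 h h1
    have := Finset.card_le_univ a.support
    rw [Fintype.card_fin] at this
    have e0 : A5.support.card = 3 := by decide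
    exact conj3 (by decide) (by decide) h h1 (by omega)
  obtain ⟨x, rfl⟩ := k a h h1
  obtain ⟨y, rfl⟩ := k b h' h1'
  exact c55.conj x y

theorem core6 {a b : Perm (Fin 6)} (h : a ^ 3 = 1) (h1 : a ≠ 1) (h' : b ^ 3 = 1) (h1' : b ≠ 1) :
    Concl 3 a b := by
  have k : ∀ a : Perm (Fin 6), a ^ 3 = 1 → a ≠ 1 →
      (∃ x, x * A1 * x⁻¹ = a) ∨ ∃ x, x * A2 * x⁻¹ = a := by
    intro a h h1
    obtain ⟨n, -, e⟩ := ct3 h h1
    have := Finset.card_le_univ a.support
    rw [Fintype.card_fin] at this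
    have e1 : A1.support.card = 3 := by decide
    have e2 : A2.support.card = 6 := by decide
    rcases Nat.eq_zero_or_pos n with rfl | hn
    · exact Or.inl (conj3 (by decide) (by decide) h h1 (by omega))
    · exact Or.inr (conj3 (by decide) (by decide) h h1 (by omega))
  rcases k a h h1 with ⟨x, rfl⟩ | ⟨x, rfl⟩ <;> rcases k b h' h1' with ⟨y, rfl⟩ | ⟨y, rfl⟩
  · exact c11.conj x y
  · exact c12.conj x y
  · exact c12.symm.conj x y
  · exact c22.conj x y

theorem concl_le {n p a b : ℕ} (hn : 5 ≤ n) (hp : p.Prime) (hp3 : 3 ≤ p) {u w : Perm (Fin n)}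
    (hu : orderOf u = p ^ (a + 1)) (hw : orderOf w = p ^ (b + 1)) (hab : b ≤ a) : Concl p u w := by
  by_cases h5 : 5 ≤ p ^ (a + 1)
  · have : NeZero (p ^ (a + 1)) := ⟨by omega⟩
    obtain ⟨e, he⟩ := cycle_emb (N := p ^ (a + 1)) hp rfl hu
    obtain ⟨e', β, he', hβ, s, hs⟩ := group_emb (Ω := ZMod (p ^ (a + 1))) hp hw
      (by rw [ZMod.card]; exact pow_dvd_pow p (by omega)) (Fintype.card_le_of_embedding e)
    exact (coreA hp hp3 rfl h5 hβ hs).lift e e' he he'
  · have hle : p ≤ p ^ (a + 1) := Nat.le_self_pow (by omega) p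
    have h3 : p = 3 := by
      have : p ≠ 4 := by rintro rfl; norm_num at hp
      omega
    subst h3
    have ha : a = 0 := by
      by_contra h
      have : 3 ^ 2 ≤ 3 ^ (a + 1) := Nat.pow_le_pow_right (by norm_num) (by omega)
      omega
    subst ha
    have hb : b = 0 := by omega
    subst hb
    by_cases h6 : n = 5
    · subst h6
      refine core5 (by simpa [hu] using pow_orderOf_eq_one u) ?_
        (by simpa [hw] using pow_orderOf_eq_one w) ?_
      · rintro rfl; simp at hu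
      · rintro rfl; simp at hw
    · obtain ⟨e, α, he, hα, s, hs⟩ := group_emb (Ω := Fin 6) hp hu (by simp) (by simp; omega)
      obtain ⟨e', β, he', hβ, t, ht⟩ := group_emb (Ω := Fin 6) hp hw (by simp) (by simp; omega)
      exact (core6 (by simpa using hα) (by rintro rfl; exact hs rfl) (by simpa using hβ)
        (by rintro rfl; exact ht rfl)).lift e e' he he'

theorem concl {n p : ℕ} (hn : 5 ≤ n) (hp : p.Prime) (hp3 : 3 ≤ p) {u w : Perm (Fin n)}
    (hu1 : u ≠ 1) (hw1 : w ≠ 1) (hu : ∃ k, orderOf u = p ^ k) (hw : ∃ k, orderOf w = p ^ k) :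
    Concl p u w := by
  obtain ⟨a, ha⟩ := hu
  obtain ⟨b, hb⟩ := hw
  rcases a with _ | a
  · exact absurd (orderOf_eq_one_iff.1 (by simpa using ha)) hu1
  rcases b with _ | b
  · exact absurd (orderOf_eq_one_iff.1 (by simpa using hb)) hw1
  rcases le_total b a with h | h
  · exact concl_le hn hp hp3 ha hb h
  · exact (concl_le hn hp hp3 hb ha h).symm

end H16.AltP
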