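/- A saturated fusion system generated by the inner one and a group of automorphisms of one
subgroup `Q` (from the saturation criterion S5110). -/
import Cfsg.Agent.S5110
import Cfsg.Agent.H92.Aut

set_option autoImplicit false
set_option maxHeartbeats 400000

namespace H16.BC
open Cfsg H92
open Cfsg.FusionSystem (normalizerIn centralizerIn)

variable {Ω : Type*} [Group Ω] {S Q : Subgroup Ω}

/-- `P` is `S`-conjugate into `Q`. -/
def Sub (S Q P : Subgroup Ω) : Prop := ∃ g ∈ S, ∀ x ∈ P, g * x * g⁻¹ ∈ Q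

/-- `f` is conjugation by an element of `S` on `P`. -/
def Inr (S P : Subgroup Ω) (f : Ω → Ω) : Prop := ∃ s ∈ S, ∀ x ∈ P, f x = s * x * s⁻¹

/-- `f` is a conjugation into `Q`, an element of `Δ`, and a conjugation. -/
def Tw (S Q : Subgroup Ω) (Δ : Subgroup (MulAut Q)) (P : Subgroup Ω) (f : Ω → Ω) : Prop :=
  ∃ g ∈ S, ∃ h ∈ S, ∃ α ∈ Δ, ∀ x ∈ P, h * x * h⁻¹ ∈ Q ∧ f x = g * af α (h * x * h⁻¹) * g⁻¹

/-- The maps of the comparison system. -/
def M0 (S Q : Subgroup Ω) (Δ : Subgroup (MulAut Q)) (P : Subgroup Ω) (f : Ω → Ω) : Prop :=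
  P ≤ S ∧ (∀ x ∈ P, f x ∈ S) ∧ MulOn P f ∧ Set.InjOn f P ∧
    (Inr S P f ∨ Tw S Q Δ P f ∨ (Nat.card P < Nat.card Q ∧ Sub S Q P ∧ Sub S Q (img P f)))

theorem Sub.mono {P R : Subgroup Ω} (h : Sub S Q P) (hR : R ≤ P) : Sub S Q R := by
  obtain ⟨g, hg, e⟩ := h
  exact ⟨g, hg, fun x hx => e x (hR hx)⟩

variable {Δ : Subgroup (MulAut Q)} {P R : Subgroup Ω} {f k : Ω → Ω}

theorem Tw.sub (h : Tw S Q Δ P f) : Sub S Q P := by
  obtain ⟨g, -, h, hh, α, -, e⟩ := h
  exact ⟨h, hh, fun x hx => (e x hx).1⟩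

theorem Tw.sub_img (h : Tw S Q Δ P f) (hm : MulOn P f) : Sub S Q (img P f) := by
  obtain ⟨g, hg, h, -, α, -, e⟩ := h
  refine ⟨g⁻¹, S.inv_mem hg, fun y hy => ?_⟩
  obtain ⟨x, hx, rfl⟩ := hm.mem_img.1 hy
  rw [(e x hx).2]
  have := af_mem α (e x hx).1
  simpa [mul_assoc] using this

theorem M0.sub_iff (h : M0 S Q Δ P f) (hR : R ≤ P) : Sub S Q R ↔ Sub S Q (img R f) := by
  obtain ⟨-, -, hm, -, h | h | h⟩ := h
  · obtain ⟨s, hs, e⟩ := h
    constructor
    · rintro ⟨g, hg, e'⟩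
      refine ⟨g * s⁻¹, S.mul_mem hg (S.inv_mem hs), fun y hy => ?_⟩
      obtain ⟨x, hx, rfl⟩ := (hm.mono hR).mem_img.1 hy
      rw [e x (hR hx)]
      have := e' x hx
      simpa [mul_assoc] using this
    · rintro ⟨g, hg, e'⟩
      refine ⟨g * s, S.mul_mem hg hs, fun x hx => ?_⟩
      have := e' _ (mem_img_of_mem f hx)
      rw [e x (hR hx)] at this
      simpa [mul_assoc] using this
  · exact ⟨fun _ => (h.sub_img hm).mono (img_mono f hR), fun _ => h.sub.mono hR⟩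
  · exact ⟨fun _ => h.2.2.mono (img_mono f hR), fun _ => h.2.1.mono hR⟩

theorem conj_onto [Finite S] (hP : P ≤ S) (hQ : Q ≤ S) {h : Ω} (hh : h ∈ S)
    (e : ∀ x ∈ P, h * x * h⁻¹ ∈ Q) (hc : Nat.card Q ≤ Nat.card P) :
    ∀ y ∈ Q, ∃ x ∈ P, h * x * h⁻¹ = y := by
  have h1 := mor_conj (innerFusionSystem S) hP hh
  intro y hy
  rw [← h1.img_eq_of_card hQ e hc] at hy
  exact h1.mem_img.1 hy

theorem exists_inv_of (hm : MulOn P f) (hi : Set.InjOn f P) :
    ∃ g, MulOn (img P f) g ∧ Set.InjOn g (img P f) ∧ ∀ x ∈ P, g (f x) = x := by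
  have h1 : ∀ x ∈ P, Function.invFunOn f P (f x) = x := fun x hx => hi.leftInvOn_invFunOn hx
  refine ⟨Function.invFunOn f P, fun y hy z hz => ?_, fun y hy z hz e => ?_, h1⟩
  · obtain ⟨x, hx, rfl⟩ := hm.mem_img.1 hy
    obtain ⟨t, ht, rfl⟩ := hm.mem_img.1 hz
    rw [← hm x hx t ht, h1 _ (P.mul_mem hx ht), h1 x hx, h1 t ht]
  · obtain ⟨x, hx, rfl⟩ := hm.mem_img.1 hy
    obtain ⟨t, ht, rfl⟩ := hm.mem_img.1 hz
    rw [h1 x hx, h1 t ht] at e
    rw [e]

/-- The comparison system. -/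
def E0 [Finite S] (hQ : Q ≤ S) (Δ : Subgroup (MulAut Q)) (hA : autInducedBy S Q ≤ Δ) :
    SysData S where
  M := M0 S Q Δ
  le h := h.1
  mem h := h.2.1
  mulOn h := h.2.2.1
  injOn h := h.2.2.2.1
  congr := by
    rintro P f g ⟨h1, h2, h3, h4, h5⟩ e
    refine ⟨h1, fun x hx => e x hx ▸ h2 x hx, h3.congr e, h4.congr e, ?_⟩
    rcases h5 with ⟨s, hs, h⟩ | ⟨a, ha, b, hb, α, hα, h⟩ | h
    · exact Or.inl ⟨s, hs, fun x hx => e x hx ▸ h x hx⟩
    · exact Or.inr (Or.inl ⟨a, ha, b, hb, α, hα, fun x hx => e x hx ▸ h x hx⟩)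
    · exact Or.inr (Or.inr (img_congr e ▸ h))
  conj := by
    intro P s hP hs
    have h1 := mor_conj (innerFusionSystem S) hP hs
    exact ⟨hP, fun x hx => h1.mem hx, h1.mulOn, h1.injOn, Or.inl ⟨s, hs, fun _ _ => rfl⟩⟩
  comp := by
    intro P R f k hf hk hm
    have hle : img P f ≤ R := img_le_iff.2 hm
    refine ⟨hf.1, fun x hx => hk.2.1 _ (hm x hx), hf.2.2.1.comp hk.2.2.1 hm,
      fun x hx y hy e => hf.2.2.2.1 hx hy (hk.2.2.2.1 (hm x hx) (hm y hy) e), ?_⟩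
    by_cases hs : Nat.card P < Nat.card Q ∧ Sub S Q P
    · refine Or.inr (Or.inr ⟨hs.1, hs.2, ?_⟩)
      rw [← hf.2.2.1.img_img]
      exact (hk.sub_iff hle).1 ((hf.sub_iff le_rfl).1 hs.2)
    have hc : Nat.card P ≤ Nat.card R :=
      hf.2.2.1.card_img hf.2.2.2.1 ▸ card_le_of_le' hk.1 hle
    rcases hf.2.2.2.2 with ⟨s, hs1, e1⟩ | ht | h
    · rcases hk.2.2.2.2 with ⟨t, ht1, e2⟩ | ⟨a, ha, b, hb, α, hα, e2⟩ | h
      · exact Or.inl ⟨t * s, S.mul_mem ht1 hs1, fun x hx => by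
          show k (f x) = _
          rw [e2 _ (hm x hx), e1 x hx]; group⟩
      · refine Or.inr (Or.inl ⟨a, ha, b * s, S.mul_mem hb hs1, α, hα, fun x hx => ?_⟩)
        have h1 := e2 _ (hm x hx)
        have h2 : b * s * x * (b * s)⁻¹ = b * f x * b⁻¹ := by rw [e1 x hx]; group
        rw [h2]; exact h1
      · exact absurd ⟨hc.trans_lt h.1, (hf.sub_iff le_rfl).2 (h.2.1.mono hle)⟩ hs
    · have hc2 : Nat.card Q ≤ Nat.card P := not_lt.1 fun h => hs ⟨h, ht.sub⟩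
      obtain ⟨a, ha, b, hb, α, hα, e1⟩ := ht
      rcases hk.2.2.2.2 with ⟨t, ht1, e2⟩ | ⟨a', ha', b', hb', α', hα', e2⟩ | h
      · exact Or.inr (Or.inl ⟨t * a, S.mul_mem ht1 ha, b, hb, α, hα, fun x hx =>
          ⟨(e1 x hx).1, by
            show k (f x) = _
            rw [e2 _ (hm x hx), (e1 x hx).2]; group⟩⟩)
      · have hn : b' * a ∈ normalizerIn S Q := mem_normalizerIn_of hQ (S.mul_mem hb' ha) fun y hy => by
          obtain ⟨x, hx, e⟩ := conj_onto hf.1 hQ hb (fun x hx => (e1 x hx).1) hc2 _ (af_mem α⁻¹ hy)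
          have h1 := (e2 _ (hm x hx)).1
          rw [(e1 x hx).2, e, af_af_inv] at h1
          simpa [mul_assoc] using h1
        refine Or.inr (Or.inl ⟨a', ha', b, hb, α' * cAut Q _ hn.2 * α,
          Δ.mul_mem (Δ.mul_mem hα' (hA (cAut_mem hn.2 hn.1))) hα, fun x hx => ⟨(e1 x hx).1, ?_⟩⟩)
        show k (f x) = _
        rw [(e2 _ (hm x hx)).2, (e1 x hx).2, af_mul_apply, af_mul_apply,
          af_cAut _ (af_mem α (e1 x hx).1)]
        congr 3; group
      · exact absurd (hc2.trans hc) (not_le.2 h.1)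
    · exact absurd ⟨h.1, h.2.1⟩ hs
  inv := by
    rintro P f ⟨h1, h2, h3, h4, h5⟩
    obtain ⟨g, hg1, hg2, hg3⟩ := exists_inv_of h3 h4
    refine ⟨g, ⟨img_le_iff.2 h2, fun y hy => ?_, hg1, hg2, ?_⟩, hg3⟩
    · obtain ⟨x, hx, rfl⟩ := h3.mem_img.1 hy
      rw [hg3 x hx]; exact h1 hx
    rcases h5 with ⟨s, hs, h⟩ | ⟨a, ha, b, hb, α, hα, h⟩ | h
    · refine Or.inl ⟨s⁻¹, S.inv_mem hs, fun y hy => ?_⟩
      obtain ⟨x, hx, rfl⟩ := h3.mem_img.1 hy
      rw [hg3 x hx, h x hx]; group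
    · refine Or.inr (Or.inl ⟨b⁻¹, S.inv_mem hb, a⁻¹, S.inv_mem ha, α⁻¹, Δ.inv_mem hα, fun y hy => ?_⟩)
      obtain ⟨x, hx, rfl⟩ := h3.mem_img.1 hy
      have h6 : a⁻¹ * f x * a⁻¹⁻¹ = af α (b * x * b⁻¹) := by rw [(h x hx).2]; group
      rw [hg3 x hx, h6, af_inv_af]
      exact ⟨af_mem α (h x hx).1, by group⟩
    · refine Or.inr (Or.inr ⟨h3.card_img h4 ▸ h.1, h.2.2, ?_⟩)
      rw [h3.img_img, img_eq_self_of_fix hg3]
      exact h.2.1

/-- The part of `U` lying in every system of the class `C`. -/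
def Cap (U : FusionSystem S) (C : FusionSystem S → Prop) : SubData U S where
  M P f := Mor U P f ∧ ∀ E, C E → Mor E P f
  mor h := h.1
  le h := h.1.le
  mem h := fun _ hx => h.1.mem hx
  congr h e := ⟨h.1.congr e, fun E hE => (h.2 E hE).congr e⟩
  conj hP hs := ⟨mor_conj U hP hs, fun E _ => mor_conj E hP hs⟩
  comp h1 h2 hm := ⟨h1.1.comp h2.1 hm, fun E hE => (h1.2 E hE).comp (h2.2 E hE) hm⟩
  inv h e := ⟨h.1.inv_of e, fun E hE => (h.2 E hE).inv_of e⟩

/-- The system generated by the inner system and `Δ` is saturated. -/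
theorem sat_of {p : ℕ} [Fact p.Prime] [Finite S] (hS : IsPGroup p S) (hQ : Q ≤ S)
    (Δ : Subgroup (MulAut Q)) (hsyl : SylIn p (autInducedBy S Q) Δ)
    (hrec : ∀ α ∈ Δ, α ∉ autInducedBy S Q → ∀ y ∈ normalizerIn S Q,
      (∃ h ∈ S, ∀ x ∈ Q, af α (y * x * y⁻¹) = h * af α x * h⁻¹) → y ∈ Q)
    (hcen : ∀ P, P < Q → ∃ α ∈ Δ, ¬ centralizerIn S (img P (af α)) ≤ img P (af α)) :
    ∃ F : FusionSystem S, F.IsSaturated p ∧ ∀ α ∈ Δ, Mor F Q (af α) := by
  have hA := hsyl.le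
  set F := (Cap (E0 hQ Δ hA).sys fun E => ∀ α ∈ Δ, Mor E Q (af α)).sys with hF
  have h0 : ∀ {P f}, Mor F P f → M0 S Q Δ P f := fun h =>
    (E0 hQ Δ hA).mor_sys.1 ((SubData.mor_sys _).1 h).1
  have hΔ : ∀ α ∈ Δ, Mor F Q (af α) := fun α hα => (SubData.mor_sys _).2
    ⟨(E0 hQ Δ hA).mor_sys.2 ⟨hQ, fun x hx => hQ (af_mem α hx), mulOn_af α,
      (af α).injective.injOn, Or.inr (Or.inl ⟨1, S.one_mem, 1, S.one_mem, α, hα, fun x hx => by
        simpa using hx⟩)⟩, fun E hE => hE α hα⟩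
  have hinr : ∀ {P f}, Mor F P f → Inr S P f → ∃ g, Mor F (Nx S P f) g ∧ ∀ x ∈ P, g x = f x := by
    rintro P f - ⟨s, hs, e⟩
    exact ⟨_, mor_conj F (Nx_le_S S P f) hs, fun x hx => (e x hx).symm⟩
  refine ⟨F, Cfsg.Agent.S5110.result p hS F
    {P | P ≤ S ∧ ¬ (Nat.card P < Nat.card Q ∧ Sub S Q P)} (fun P hP => hP.1) ?_ ?_ ?_ ?_, hΔ⟩
  · intro P hP R hc
    obtain ⟨f, hf, rfl⟩ := isConj_iff.1 hc
    exact ⟨hf.img_le, fun h => hP.2 ⟨hf.card_img ▸ h.1, ((h0 hf).sub_iff le_rfl).2 h.2⟩⟩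
  · intro P hP
    by_cases hs : Sub S Q P
    · have hc : Nat.card Q ≤ Nat.card P := not_lt.1 fun h => hP.2 ⟨h, hs⟩
      obtain ⟨g, hg, e⟩ := hs
      have h1 := mor_conj F hP.1 hg
      refine ⟨Q, h1.img_eq_of_card hQ e hc ▸ h1.isConj, isFullyAutomized_iff.2 ⟨hQ, ?_⟩,
        isReceptive_iff.2 ⟨hQ, fun R f hf hR => ?_⟩⟩
      · refine hsyl.mono (autInducedBy_le_autGroup F hQ) fun α hα => ?_
        rcases (h0 (mor_af hQ hα)).2.2.2.2 with h | ⟨a, ha, b, hb, β, hβ, h⟩ | h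
        · exact hA (mem_autInducedBy.2 h)
        · have hb' : b ∈ normalizerIn S Q := mem_normalizerIn_of hQ hb fun x hx => (h x hx).1
          have ha' : a ∈ normalizerIn S Q := mem_normalizerIn_of hQ ha fun y hy => by
            have h2 := conj_mem_of_normalizerIn' hb' (af_mem β⁻¹ hy)
            have h3 := (h _ h2).2
            have h4 : b * (b⁻¹ * af β⁻¹ y * b) * b⁻¹ = af β⁻¹ y := by group
            rw [h4, af_af_inv] at h3
            rw [← h3]; exact af_mem α h2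
          have : α = cAut Q a ha'.2 * β * cAut Q b hb'.2 := aut_ext fun x hx => by
            rw [af_mul_apply, af_mul_apply, af_cAut _ hx, af_cAut _ (af_mem β (h x hx).1), (h x hx).2]
          rw [this]
          exact Δ.mul_mem (Δ.mul_mem (hA (cAut_mem ha'.2 ha)) hβ) (hA (cAut_mem hb'.2 hb))
        · exact absurd h.1 (lt_irrefl _)
      · have hcR : Nat.card Q ≤ Nat.card R := (hR ▸ hf.card_img).le
        rcases (h0 hf).2.2.2.2 with h | ⟨a, ha, b, hb, β, hβ, h⟩ | h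
        · exact hinr hf h
        · by_cases hβA : β ∈ autInducedBy S Q
          · obtain ⟨s, hs, e'⟩ := mem_autInducedBy.1 hβA
            exact hinr hf ⟨a * s * b, S.mul_mem (S.mul_mem ha hs) hb, fun x hx => by
              rw [(h x hx).2, e' _ (h x hx).1]; group⟩
          · have hon := conj_onto hf.le hQ hb (fun x hx => (h x hx).1) hcR
            refine ⟨f, hf.mono fun y hy => ?_, fun _ _ => rfl⟩
            obtain ⟨hy1, t, ht, e'⟩ := hy
            have h2 : b * y * b⁻¹ ∈ Q := by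
              refine hrec β hβ hβA _ (mem_normalizerIn_of hQ
                (S.mul_mem (S.mul_mem hb hy1.1) (S.inv_mem hb)) fun z hz => ?_)
                ⟨a⁻¹ * t * a, S.mul_mem (S.mul_mem (S.inv_mem ha) ht) ha, fun z hz => ?_⟩
              · obtain ⟨x, hx, rfl⟩ := hon z hz
                have := (h _ (conj_mem_of_normalizerIn hy1 hx)).1
                simpa [mul_assoc] using this
              · obtain ⟨x, hx, rfl⟩ := hon z hz
                have h3 := e' x hx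
                rw [(h _ (conj_mem_of_normalizerIn hy1 hx)).2, (h x hx).2] at h3
                have h4 : b * y * b⁻¹ * (b * x * b⁻¹) * (b * y * b⁻¹)⁻¹ = b * (y * x * y⁻¹) * b⁻¹ := by
                  group
                rw [h4]
                calc _ = a⁻¹ * (a * af β (b * (y * x * y⁻¹) * b⁻¹) * a⁻¹) * a := by group
                  _ = _ := by rw [h3]; group
            obtain ⟨x, hx, e2⟩ := hon _ h2
            rwa [← mul_left_cancel (mul_right_cancel e2)]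
        · exact absurd hcR (not_le.2 h.1)
    · refine ⟨P, isConj_refl F hP.1, isFullyAutomized_iff.2 ⟨hP.1, ?_⟩,
        isReceptive_iff.2 ⟨hP.1, fun R f hf hR => ?_⟩⟩
      · have : F.autGroup P = autInducedBy S P :=
          le_antisymm (fun α hα => by
            rcases (h0 (mor_af hP.1 hα)).2.2.2.2 with h | h | h
            · exact mem_autInducedBy.2 h
            · exact absurd h.sub hs
            · exact absurd h.2.1 hs) (autInducedBy_le_autGroup F hP.1)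
        rw [this]
        exact sylIn_self (isPGroup_autInducedBy hS P)
      · rcases (h0 hf).2.2.2.2 with h | h | h
        · exact hinr hf h
        · exact absurd (hR ▸ h.sub_img hf.mulOn) hs
        · exact absurd (hR ▸ h.2.2) hs
  · intro E hE
    refine le_iff.2 fun P f hf => ((SubData.mor_sys _).1 hf).2 E fun α hα => ?_
    exact hom_subset_iff.1 (hE Q ⟨hQ, fun h => lt_irrefl _ h.1⟩) _ (hΔ α hα)
  · intro P hP hn
    exfalso
    have hs : Nat.card P < Nat.card Q ∧ Sub S Q P := by_contra fun h => hn ⟨hP.1, h⟩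
    obtain ⟨hc, g, hg, e⟩ := hs
    have h1 := mor_conj F hP.1 hg
    have hle : img P (fun x => g * x * g⁻¹) ≤ Q := img_le_iff.2 e
    obtain ⟨α, hα, h2⟩ := hcen _ (lt_of_le_of_ne hle fun h => by
      rw [← h1.card_img, h] at hc; exact lt_irrefl _ hc)
    exact h2 (hP.2 _ (isConj_trans h1.isConj ((hΔ α hα).mono hle).isConj))

end H16.BC
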