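/- A subgroup `Q = ⟨i, b⟩⟨c⟩` (`⟨i, b⟩` a four-group or quaternion, `c` central in `Q`) with
`|N_S(Q) : Q| = 2` gives a saturated fusion system over `S` that is not inner. -/
import Cfsg.Agent.H16.BCGen

set_option autoImplicit false
set_option maxHeartbeats 400000

namespace H16.BC
open Cfsg H92
open Cfsg.FusionSystem (normalizerIn centralizerIn)

section Rel
variable {H : Type*} [Group H]

/-- Relations of `Q8 × ℤ`. -/
structure Rel (i b c z : H) : Prop where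
  ii : i * i = z
  bb : b * b = z
  zz : z * z = 1
  bi : b * i = i * b * z
  ci : Commute c i
  cb : Commute c b

def QQ (i b c : H) : Subgroup H := Subgroup.closure {i, b, c}
def ZZ (c z : H) : Subgroup H := Subgroup.closure {c, z}

theorem i_mem (i b c : H) : i ∈ QQ i b c := Subgroup.subset_closure (by simp)
theorem b_mem (i b c : H) : b ∈ QQ i b c := Subgroup.subset_closure (by simp)
theorem c_mem (i b c : H) : c ∈ QQ i b c := Subgroup.subset_closure (by simp)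
theorem c_memZ (c z : H) : c ∈ ZZ c z := Subgroup.subset_closure (by simp)
theorem z_memZ (c z : H) : z ∈ ZZ c z := Subgroup.subset_closure (by simp)

theorem QQ_le {i b c : H} {K : Subgroup H} (h1 : i ∈ K) (h2 : b ∈ K) (h3 : c ∈ K) : QQ i b c ≤ K :=
  (Subgroup.closure_le _).2 (by rintro x (rfl | rfl | rfl) <;> assumption)

theorem ZZ_le {c z : H} {K : Subgroup H} (h1 : c ∈ K) (h2 : z ∈ K) : ZZ c z ≤ K :=
  (Subgroup.closure_le _).2 (by rintro x (rfl | rfl) <;> assumption)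

theorem comm_QQ {i b c x : H} (h1 : Commute x i) (h2 : Commute x b) (h3 : Commute x c) {y : H}
    (hy : y ∈ QQ i b c) : Commute x y :=
  (Subgroup.mem_centralizer_singleton_iff.1 (QQ_le (K := Subgroup.centralizer {x})
    (Subgroup.mem_centralizer_singleton_iff.2 h1.symm) (Subgroup.mem_centralizer_singleton_iff.2 h2.symm)
    (Subgroup.mem_centralizer_singleton_iff.2 h3.symm) hy)).symm

theorem comm_ZZ {c z x : H} (h1 : Commute x c) (h2 : Commute x z) {y : H}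
    (hy : y ∈ ZZ c z) : Commute x y :=
  (Subgroup.mem_centralizer_singleton_iff.1 (ZZ_le (K := Subgroup.centralizer {x})
    (Subgroup.mem_centralizer_singleton_iff.2 h1.symm) (Subgroup.mem_centralizer_singleton_iff.2 h2.symm)
    hy)).symm

namespace Rel
variable {i b c z : H} (h : Rel i b c z)
include h

theorem zi : Commute z i := h.ii ▸ (Commute.refl i).mul_left (Commute.refl i)
theorem zb : Commute z b := h.bb ▸ (Commute.refl b).mul_left (Commute.refl b)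
theorem zc : Commute z c := h.ii ▸ h.ci.symm.mul_left h.ci.symm
theorem z_mem : z ∈ QQ i b c := h.ii ▸ Subgroup.mul_mem _ (i_mem i b c) (i_mem i b c)
theorem Z_le : ZZ c z ≤ QQ i b c := ZZ_le (c_mem i b c) h.z_mem
theorem zQ {x : H} (hx : x ∈ QQ i b c) : Commute z x := comm_QQ h.zi h.zb h.zc hx
theorem cQ {x : H} (hx : x ∈ QQ i b c) : Commute c x := comm_QQ h.ci h.cb (Commute.refl c) hx
theorem ZQ {t x : H} (ht : t ∈ ZZ c z) (hx : x ∈ QQ i b c) : Commute t x :=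
  (comm_ZZ (h.cQ hx).symm (h.zQ hx).symm ht).symm

theorem bib : b * (i * b) = i := by
  rw [← mul_assoc, h.bi, mul_assoc, h.zb.eq, mul_assoc, ← mul_assoc b, h.bb, h.zz, mul_one]

theorem rot : Rel b (i * b) c z where
  ii := h.bb
  bb := by rw [mul_assoc, h.bib, h.ii]
  zz := h.zz
  bi := by rw [h.bib, mul_assoc, h.bb]
  ci := h.cb
  cb := h.ci.mul_right h.cb

theorem one : Rel i b 1 z := ⟨h.ii, h.bb, h.zz, h.bi, Commute.one_left _, Commute.one_left _⟩

theorem QQ_rot : QQ b (i * b) c = QQ i b c :=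
  le_antisymm (QQ_le (b_mem _ _ _) (Subgroup.mul_mem _ (i_mem _ _ _) (b_mem _ _ _)) (c_mem _ _ _))
    (QQ_le (by
      have := Subgroup.mul_mem _ (i_mem b (i * b) c) (b_mem b (i * b) c)
      rwa [h.bib] at this) (i_mem _ _ _) (c_mem _ _ _))

theorem prod {H' : Type*} [Group H'] {i' b' c' z' : H'} (h' : Rel i' b' c' z') :
    Rel (i, i') (b, b') (c, c') (z, z') :=
  ⟨Prod.ext h.ii h'.ii, Prod.ext h.bb h'.bb, Prod.ext h.zz h'.zz, Prod.ext h.bi h'.bi,
    Prod.ext h.ci h'.ci, Prod.ext h.cb h'.cb⟩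

theorem i_inv : i⁻¹ = i * z := by
  rw [inv_eq_iff_mul_eq_one, ← mul_assoc, h.ii, h.zz]

theorem b_inv : b⁻¹ = b * z := by
  rw [inv_eq_iff_mul_eq_one, ← mul_assoc, h.bb, h.zz]

/-- Normal form. -/
theorem nf {x : H} (hx : x ∈ QQ i b c) :
    ∃ t ∈ ZZ c z, x = t ∨ x = i * t ∨ x = b * t ∨ x = i * b * t := by
  have hz := z_memZ c z
  have kZ : ∀ s ∈ ZZ c z, ∀ x, (∃ t ∈ ZZ c z, x = t ∨ x = i * t ∨ x = b * t ∨ x = i * b * t) →
      ∃ t ∈ ZZ c z, s * x = t ∨ s * x = i * t ∨ s * x = b * t ∨ s * x = i * b * t := by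
    rintro s hs x ⟨t, ht, h1⟩
    have h2 := h.ZQ hs (i_mem i b c)
    have h3 := h.ZQ hs (b_mem i b c)
    refine ⟨s * t, mul_mem hs ht, ?_⟩
    rcases h1 with rfl | rfl | rfl | rfl
    · exact Or.inl rfl
    · exact Or.inr (Or.inl (h2.left_comm t))
    · exact Or.inr (Or.inr (Or.inl (h3.left_comm t)))
    · exact Or.inr (Or.inr (Or.inr ((h2.mul_right h3).left_comm t)))
  have ki : ∀ x, (∃ t ∈ ZZ c z, x = t ∨ x = i * t ∨ x = b * t ∨ x = i * b * t) →
      ∃ t ∈ ZZ c z, i * x = t ∨ i * x = i * t ∨ i * x = b * t ∨ i * x = i * b * t := by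
    rintro x ⟨t, ht, rfl | rfl | rfl | rfl⟩
    · exact ⟨x, ht, Or.inr (Or.inl rfl)⟩
    · exact ⟨z * t, mul_mem hz ht, Or.inl (by rw [← mul_assoc, h.ii])⟩
    · exact ⟨t, ht, Or.inr (Or.inr (Or.inr (mul_assoc _ _ _).symm))⟩
    · exact ⟨z * t, mul_mem hz ht, Or.inr (Or.inr (Or.inl (by
        rw [mul_assoc, ← mul_assoc, h.ii, h.zb.left_comm])))⟩
  have kb : ∀ x, (∃ t ∈ ZZ c z, x = t ∨ x = i * t ∨ x = b * t ∨ x = i * b * t) →
      ∃ t ∈ ZZ c z, b * x = t ∨ b * x = i * t ∨ b * x = b * t ∨ b * x = i * b * t := by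
    rintro x ⟨t, ht, rfl | rfl | rfl | rfl⟩
    · exact ⟨x, ht, Or.inr (Or.inr (Or.inl rfl))⟩
    · exact ⟨z * t, mul_mem hz ht, Or.inr (Or.inr (Or.inr (by
        rw [← mul_assoc, h.bi, mul_assoc])))⟩
    · exact ⟨z * t, mul_mem hz ht, Or.inl (by rw [← mul_assoc, h.bb])⟩
    · exact ⟨t, ht, Or.inr (Or.inl (by rw [← mul_assoc, h.bib]))⟩
  induction hx using Subgroup.closure_induction_left with
  | one => exact ⟨1, one_mem _, Or.inl rfl⟩
  | mul_left x hx y _ ih =>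
    rcases hx with rfl | rfl | rfl
    · exact ki y ih
    · exact kb y ih
    · exact kZ _ (c_memZ _ _) y ih
  | inv_mul_cancel x hx y _ ih =>
    rcases hx with rfl | rfl | rfl
    · rw [h.i_inv, mul_assoc]; exact ki _ (kZ z hz y ih)
    · rw [h.b_inv, mul_assoc]; exact kb _ (kZ z hz y ih)
    · exact kZ _ (inv_mem (c_memZ _ _)) y ih

theorem Z_one {t : H} (ht : t ∈ ZZ 1 z) : t = 1 ∨ t = z := by
  induction ht using Subgroup.closure_induction with
  | mem x hx => exact hx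
  | one => exact Or.inl rfl
  | mul x y _ _ h1 h2 => rcases h1 with rfl | rfl <;> rcases h2 with rfl | rfl <;> simp [h.zz]
  | inv x _ h1 =>
    rcases h1 with rfl | rfl
    · simp
    · exact Or.inr (inv_eq_of_mul_eq_one_left h.zz)

/-- `Q' ≤ ⟨z⟩`. -/
theorem comm_or {x y : H} (hx : x ∈ QQ i b c) (hy : y ∈ QQ i b c) :
    ∃ s ∈ ZZ 1 z, x * y * x⁻¹ = y * s := by
  have hz := z_memZ 1 z
  have hle : ZZ 1 z ≤ ZZ c z := ZZ_le (one_mem _) (z_memZ c z)
  have hib : i * b * i⁻¹ = b * z := by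
    rw [mul_inv_eq_iff_eq_mul, mul_assoc b, h.zi.eq, ← mul_assoc, h.bi, mul_assoc (i * b), h.zz, mul_one]
  have hbi : b * i * b⁻¹ = i * z := by
    rw [mul_inv_eq_iff_eq_mul, h.bi, mul_assoc, mul_assoc, h.zb.eq]
  have key : ∀ x, (∃ s ∈ ZZ 1 z, x * i * x⁻¹ = i * s) → (∃ s ∈ ZZ 1 z, x * b * x⁻¹ = b * s) →
      Commute x c → ∀ y ∈ QQ i b c, ∃ s ∈ ZZ 1 z, x * y * x⁻¹ = y * s := by
    intro x h1 h2 h3 y hy
    induction hy using Subgroup.closure_induction with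
    | mem y hy =>
      rcases hy with rfl | rfl | rfl
      exacts [h1, h2, ⟨1, one_mem _, by rw [h3.eq]; simp⟩]
    | one => exact ⟨1, one_mem _, by simp⟩
    | mul y t _ ht e1 e2 =>
      obtain ⟨s, hs, e1⟩ := e1
      obtain ⟨r, hr, e2⟩ := e2
      refine ⟨s * r, mul_mem hs hr, ?_⟩
      calc _ = (x * y * x⁻¹) * (x * t * x⁻¹) := by group
        _ = _ := by rw [e1, e2, mul_assoc, (h.ZQ (hle hs) ht).left_comm, mul_assoc]
    | inv y hy e1 =>
      obtain ⟨s, hs, e1⟩ := e1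
      refine ⟨s⁻¹, inv_mem hs, ?_⟩
      calc _ = (x * y * x⁻¹)⁻¹ := by group
        _ = _ := by rw [e1, ← (h.ZQ (hle hs) hy).eq, mul_inv_rev]
  have k1 := key i ⟨1, one_mem _, by simp⟩ ⟨z, hz, hib⟩ h.ci.symm
  have k2 := key b ⟨z, hz, hbi⟩ ⟨1, one_mem _, by simp⟩ h.cb.symm
  obtain ⟨t, ht, h1⟩ := h.nf hx
  have h2 : ∀ u, u * t * y * (u * t)⁻¹ = u * y * u⁻¹ := fun u => by
    rw [mul_assoc u, (h.ZQ ht hy).eq]; group
  rcases h1 with rfl | rfl | rfl | rfl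
  · exact ⟨1, one_mem _, by simpa using h2 1⟩
  · rw [h2]; exact k1 y hy
  · rw [h2]; exact k2 y hy
  · obtain ⟨s, hs, e1⟩ := k2 y hy
    obtain ⟨r, hr, e2⟩ := k1 y hy
    refine ⟨r * s, mul_mem hr hs, ?_⟩
    rw [h2]
    calc _ = i * (b * y * b⁻¹) * i⁻¹ := by group
      _ = i * y * i⁻¹ * s := by
        rw [e1, ← mul_assoc, mul_assoc _ s, ((h.ZQ (hle hs) (i_mem i b c)).inv_right).eq, ← mul_assoc]
      _ = _ := by rw [e2, mul_assoc]

end Rel

theorem eqOn_QQ {H' : Type*} [Group H'] {i b c : H} {f g : H → H'} (hf : MulOn (QQ i b c) f)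
    (hg : MulOn (QQ i b c) g) (h1 : f i = g i) (h2 : f b = g b) (h3 : f c = g c) :
    ∀ x ∈ QQ i b c, f x = g x := by
  intro x hx
  induction hx using Subgroup.closure_induction with
  | mem y hy => rcases hy with rfl | rfl | rfl <;> assumption
  | one => rw [hf.map_one, hg.map_one]
  | mul x y hx hy e1 e2 => rw [hf.map_mul hx hy, hg.map_mul hx hy, e1, e2]
  | inv x hx e1 => rw [hf.map_inv hx, hg.map_inv hx, e1]

/-- The automorphism `i ↦ b ↦ i b ↦ i`, `c ↦ c`. -/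
theorem Rel.exists_rot {i b c z : H} (h : Rel i b c z) (ni : i ∉ ZZ c z) (nb : b ∉ ZZ c z)
    (nib : i * b ∉ ZZ c z) :
    ∃ δ : MulAut (QQ i b c), af δ i = b ∧ af δ b = i * b ∧ af δ c = c := by
  classical
  have hp := h.prod h.rot
  set Γ := QQ (i, b) (b, i * b) (c, c) with hΓ
  have hd : ∀ t ∈ ZZ (c, c) (z, z), t.1 = t.2 ∧ t.1 ∈ ZZ c z := fun t ht => by
    induction ht using Subgroup.closure_induction with
    | mem y hy => rcases hy with rfl | rfl; exacts [⟨rfl, c_memZ c z⟩, ⟨rfl, z_memZ c z⟩]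
    | one => exact ⟨rfl, one_mem _⟩
    | mul x y _ _ e1 e2 => exact ⟨by simp [e1.1, e2.1], mul_mem e1.2 e2.2⟩
    | inv x _ e1 => exact ⟨by simp [e1.1], inv_mem e1.2⟩
  have k0 : ∀ {u t : H}, t ∈ ZZ c z → u * t = 1 → u ∈ ZZ c z := fun ht e =>
    eq_inv_of_mul_eq_one_left e ▸ inv_mem ht
  have k1 : ∀ g ∈ Γ, g.1 = 1 ↔ g.2 = 1 := fun g hg => by
    obtain ⟨t, ht, h1⟩ := hp.nf hg
    obtain ⟨e, ht1⟩ := hd t ht
    have ht2 : t.2 ∈ ZZ c z := e ▸ ht1
    rcases h1 with rfl | rfl | rfl | rfl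
    · rw [e]
    · exact ⟨fun e => (ni (k0 ht1 e)).elim, fun e => (nb (k0 ht2 e)).elim⟩
    · exact ⟨fun e => (nb (k0 ht1 e)).elim, fun e => (nib (k0 ht2 e)).elim⟩
    · exact ⟨fun e => (nib (k0 ht1 e)).elim, fun e => (ni (h.bib ▸ k0 ht2 e)).elim⟩
  have k2 : ∀ {x y x' y'}, (x, y) ∈ Γ → (x', y') ∈ Γ → (x = x' ↔ y = y') := fun h1 h2 => by
    simpa [mul_inv_eq_one] using k1 _ (mul_mem h1 (inv_mem h2))
  have k3 : ∀ x ∈ QQ i b c, ∃ y, (x, y) ∈ Γ := fun x hx => by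
    have : x ∈ Γ.map (MonoidHom.fst H H) :=
      QQ_le (K := Γ.map (MonoidHom.fst H H)) ⟨_, i_mem _ _ _, rfl⟩ ⟨_, b_mem _ _ _, rfl⟩
        ⟨_, c_mem _ _ _, rfl⟩ hx
    obtain ⟨g, hg, rfl⟩ := this
    exact ⟨g.2, hg⟩
  choose! f hf using k3
  have e1 : f i = b := (k2 (hf _ (i_mem _ _ _)) (i_mem _ _ _)).1 rfl
  have e2 : f b = i * b := (k2 (hf _ (b_mem _ _ _)) (b_mem _ _ _)).1 rfl
  have e3 : f c = c := (k2 (hf _ (c_mem _ _ _)) (c_mem _ _ _)).1 rfl
  have hm : MulOn (QQ i b c) f := fun x hx y hy =>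
    (k2 (hf _ (mul_mem hx hy)) (mul_mem (hf x hx) (hf y hy))).1 rfl
  obtain ⟨δ, hδ⟩ := hm.exists_aut (fun x hx y hy e => (k2 (hf x hx) (hf y hy)).2 e) (by
    rw [QQ, MulOn.img_closure hm Subgroup.subset_closure, Set.image_insert_eq, Set.image_pair, e1, e2, e3]
    exact h.QQ_rot)
  exact ⟨δ, (hδ _ (i_mem _ _ _)).trans e1, (hδ _ (b_mem _ _ _)).trans e2, (hδ _ (c_mem _ _ _)).trans e3⟩

/-- The configuration inside `S`. -/
structure Dat (S : Subgroup H) (i b c z w : H) : Prop extends Rel i b c z where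
  iS : i ∈ S
  bS : b ∈ S
  cS : c ∈ S
  wS : w ∈ S
  wc : Commute w c
  wi : Commute w i
  wb : w * b * w⁻¹ = i * b
  ni : i ∉ ZZ c z
  nb : b ∉ ZZ c z
  nib : i * b ∉ ZZ c z
  hN : ∀ y ∈ S, y * b * y⁻¹ ∈ QQ i b c → y ∈ QQ i b c ∨ y * w⁻¹ ∈ QQ i b c

end Rel

variable {Ω : Type*} [Group Ω] {S : Subgroup Ω} {i b c z w : Ω}

theorem af_inv_of {P : Subgroup Ω} {α : MulAut P} {x y : Ω} (h : af α x = y) : af α⁻¹ y = x := by
  rw [← h, af_inv_af]

/-- Automorphisms of `Q` fixing `c` and `⟨i, b⟩`. -/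
def Del (i b c : Ω) [Finite (QQ i b 1)] (hle : QQ i b 1 ≤ QQ i b c) :
    Subgroup (MulAut (QQ i b c)) where
  carrier := {α | af α c = c ∧ ∀ x ∈ QQ i b 1, af α x ∈ QQ i b 1}
  one_mem' := ⟨af_one_apply c, fun x hx => (af_one_apply (P := QQ i b c) x).symm ▸ hx⟩
  mul_mem' := by
    rintro α β ⟨h1, h2⟩ ⟨h3, h4⟩
    exact ⟨by rw [af_mul_apply, h3, h1], fun x hx => by rw [af_mul_apply]; exact h2 _ (h4 x hx)⟩
  inv_mem' := by
    rintro α ⟨h1, h2⟩
    refine ⟨af_inv_of h1, fun x hx => ?_⟩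
    have hm := (mulOn_af α).mono hle
    rw [← Subgroup.eq_of_le_of_card_ge (img_le_iff.2 h2) (hm.card_img (af α).injective.injOn).ge] at hx
    obtain ⟨y, hy, rfl⟩ := hm.mem_img.1 hx
    rwa [af_inv_af]

theorem Dat.exists_sat [Finite S] (hS : IsPGroup 2 S) (h : Dat S i b c z w) :
    ∃ F : FusionSystem S, F.IsSaturated 2 ∧
      ¬ ∀ P : Subgroup Ω, F.Hom P = (innerFusionSystem S).Hom P := by
  have : Fact (Nat.Prime 2) := ⟨Nat.prime_two⟩
  have hr := h.toRel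
  have hi := i_mem i b c
  have hb := b_mem i b c
  have hc := c_mem i b c
  have hz := z_memZ c z
  have hQ : QQ i b c ≤ S := QQ_le h.iS h.bS h.cS
  have hle : QQ i b 1 ≤ QQ i b c := QQ_le hi hb (one_mem _)
  have hleZ : ZZ 1 z ≤ ZZ c z := ZZ_le (one_mem _) hz
  have : Finite (QQ i b 1) := finite_of_le (hle.trans hQ)
  obtain ⟨δ, d1, d2, d3⟩ := hr.exists_rot h.ni h.nb h.nib
  have d4 : af δ (i * b) = i := by rw [(mulOn_af δ).map_mul hi hb, d1, d2, hr.bib]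
  have wz : Commute w z := hr.ii ▸ h.wi.mul_right h.wi
  have wZ : ∀ t ∈ ZZ c z, Commute w t := fun t ht => comm_ZZ h.wc wz ht
  have cancelZ : ∀ {u s t : Ω}, s ∈ ZZ c z → t ∈ ZZ c z → u * s = t → u ∈ ZZ c z := fun hs ht e =>
    eq_mul_inv_of_mul_eq e ▸ mul_mem ht (inv_mem hs)
  -- `i x s = x t` is impossible
  have noi : ∀ {u x s t : Ω}, x ∈ QQ i b c → s ∈ ZZ c z → t ∈ ZZ c z → u * x * s = x * t →
      u ∈ ZZ c z := fun {u x s t} hx hs ht e => by
    rw [← (hr.ZQ ht hx).eq, mul_assoc, ← (hr.ZQ hs hx).eq, ← mul_assoc] at e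
    exact cancelZ hs ht (mul_right_cancel e)
  have hw : w ∉ QQ i b c := fun hw => by
    obtain ⟨s, hs, e⟩ := hr.comm_or hw hb
    exact h.ni (noi hb (one_mem _) (hleZ hs) (by rw [mul_one, ← h.wb, e]))
  have hN : ∀ y ∈ normalizerIn S (QQ i b c), y ∈ QQ i b c ∨ ∃ q ∈ QQ i b c, y = q * w :=
    fun y hy => (h.hN y hy.1 (conj_mem_of_normalizerIn hy hb)).imp id fun e => ⟨_, e, by simp⟩
  have hw0 : ∀ x ∈ QQ i b 1, w * x * w⁻¹ ∈ QQ i b 1 := fun x hx =>
    QQ_le (K := (QQ i b 1).comap (MulAut.conj w).toMonoidHom)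
      (show w * i * w⁻¹ ∈ QQ i b 1 by rw [h.wi.eq, mul_inv_cancel_right]; exact i_mem _ _ _)
      (show w * b * w⁻¹ ∈ QQ i b 1 by rw [h.wb]; exact mul_mem (i_mem _ _ _) (b_mem _ _ _))
      (one_mem _) hx
  have hq0 : ∀ q ∈ QQ i b c, ∀ x ∈ QQ i b 1, q * x * q⁻¹ ∈ QQ i b 1 := fun q hq x hx => by
    obtain ⟨s, hs, e⟩ := hr.comm_or hq (hle hx)
    rw [e]; exact mul_mem hx (hr.one.Z_le hs)
  have hA : autInducedBy S (QQ i b c) ≤ Del i b c hle := fun α hα => by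
    obtain ⟨y, hy, e⟩ := mem_autInducedBy'.1 hα
    rcases hN y hy with hy | ⟨q, hq, rfl⟩
    · exact ⟨by rw [e c hc, ← (hr.cQ hy).eq, mul_inv_cancel_right],
        fun x hx => by rw [e x (hle hx)]; exact hq0 y hy x hx⟩
    · refine ⟨by rw [e c hc, ← ((hr.cQ hq).mul_right h.wc.symm).eq, mul_inv_cancel_right],
        fun x hx => ?_⟩
      have := hq0 q hq _ (hw0 x hx)
      rw [e x (hle hx)]
      simpa [mul_assoc] using this
  have hδ : δ ∈ Del i b c hle := ⟨d3, fun x hx => by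
    have h1 : img (QQ i b 1) (af δ) ≤ QQ i b 1 := by
      rw [QQ, MulOn.img_closure (mulOn_af δ) (fun x hx => hle (Subgroup.subset_closure hx)),
        Set.image_insert_eq, Set.image_pair, d1, d2, (mulOn_af δ).map_one]
      exact hr.one.QQ_rot.le
    exact h1 (mem_img_of_mem _ hx)⟩
  have hδ3 : δ ^ 3 = 1 := aut_eq_one (eqOn_QQ (mulOn_af _) (fun _ _ _ _ => rfl)
    (by rw [pow_three, af_mul_apply, af_mul_apply, d1, d2, d4])
    (by rw [pow_three, af_mul_apply, af_mul_apply, d2, d4, d1])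
    (by rw [pow_three, af_mul_apply, af_mul_apply, d3, d3, d3]))
  have hδC : ∀ C : Subgroup (MulAut (QQ i b c)), IsPGroup 2 C → δ ∉ C := fun C hC hm => by
    obtain ⟨k, hk⟩ := isPGroup_iff_forall.1 hC δ hm
    have h1 : δ = 1 := by
      rw [← pow_one δ, ← Nat.Coprime.gcd_eq_one (Nat.Coprime.pow_right k (by norm_num : Nat.Coprime 3 2))]
      exact pow_gcd_eq_one.2 ⟨hδ3, hk⟩
    rw [h1, af_one_apply] at d1
    exact h.nib (by rw [← d1, hr.ii]; exact hz)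
  -- elements of `Del`
  have kz : ∀ α ∈ Del i b c hle, af α z = z := fun α hα => by
    have h0 : af α z = af α i * af α i := by rw [← hr.ii, (mulOn_af α).map_mul hi hi]
    obtain ⟨t, ht, h1⟩ := hr.one.nf (hα.2 i (i_mem _ _ _))
    have h2 : t * t = 1 := by rcases hr.Z_one ht with rfl | rfl; exacts [mul_one _, hr.zz]
    have h3 : ∀ u ∈ QQ i b c, u * t * (u * t) = u * u := fun u hu => by
      rw [mul_assoc, (hr.ZQ (hleZ ht) hu).left_comm, h2, mul_one]
    rcases h1 with e | e | e | e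
    · rw [e, h2, ← (mulOn_af α).map_one] at h0
      rw [(af α).injective h0, (mulOn_af α).map_one]
    · rw [h0, e, h3 _ hi, hr.ii]
    · rw [h0, e, h3 _ hb, hr.bb]
    · rw [h0, e, h3 _ (mul_mem hi hb), hr.rot.bb]
  have kZ : ∀ α ∈ Del i b c hle, ∀ t ∈ ZZ c z, af α t = t := fun α hα t ht => by
    induction ht using Subgroup.closure_induction with
    | mem y hy => rcases hy with rfl | rfl; exacts [hα.1, kz α hα]
    | one => exact (mulOn_af α).map_one
    | mul x y hx hy e1 e2 => rw [(mulOn_af α).map_mul (hr.Z_le hx) (hr.Z_le hy), e1, e2]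
    | inv x hx e1 => rw [(mulOn_af α).map_inv (hr.Z_le hx), e1]
  have kZ' : ∀ α ∈ Del i b c hle, ∀ x, af α x ∈ ZZ c z → x ∈ ZZ c z := fun α hα x hx =>
    (af α).injective (kZ α hα _ hx) ▸ hx
  have kA : ∀ α ∈ Del i b c hle, ∀ s ∈ ZZ 1 z, af α i = i * s → α ∈ autInducedBy S (QQ i b c) := by
    intro α hα s hs e1
    have hib : i * b * i⁻¹ = b * z := by
      rw [mul_inv_eq_iff_eq_mul, mul_assoc b, hr.zi.eq, ← mul_assoc, hr.bi, mul_assoc (i * b), hr.zz,
        mul_one]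
    have hbi : b * i * b⁻¹ = i * z := by
      rw [mul_inv_eq_iff_eq_mul, hr.bi, mul_assoc, mul_assoc, hr.zb.eq]
    obtain ⟨y, hy, y1, y2⟩ : ∃ y ∈ QQ i b c, y * i * y⁻¹ = i * s ∧ y * b * y⁻¹ = b := by
      rcases hr.Z_one hs with rfl | rfl
      exacts [⟨1, one_mem _, by simp, by simp⟩, ⟨b, hb, hbi, by simp⟩]
    obtain ⟨t, ht, h1⟩ := hr.one.nf (hα.2 b (b_mem _ _ _))
    obtain ⟨x, hx, x1, x2⟩ : ∃ x ∈ QQ i b c, x * i * x⁻¹ = i ∧ x * b * x⁻¹ = b * t := by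
      rcases hr.Z_one ht with rfl | rfl
      exacts [⟨1, one_mem _, by simp, by simp⟩, ⟨i, hi, by simp, hib⟩]
    have z1 : x * y * i * (x * y)⁻¹ = i * s := by
      calc _ = x * (y * i * y⁻¹) * x⁻¹ := by group
        _ = x * i * x⁻¹ * s := by
          rw [y1, ← mul_assoc, mul_assoc _ s, (hr.ZQ (hleZ hs) hx).inv_right.eq, ← mul_assoc]
        _ = _ := by rw [x1]
    have z2 : x * y * b * (x * y)⁻¹ = b * t := by
      calc _ = x * (y * b * y⁻¹) * x⁻¹ := by group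
        _ = _ := by rw [y2, x2]
    have fin : ∀ u ∈ S, u * i * u⁻¹ = af α i → u * b * u⁻¹ = af α b → Commute c u →
        α ∈ autInducedBy S (QQ i b c) := fun u hu u1 u2 u3 =>
      mem_autInducedBy.2 ⟨u, hu, eqOn_QQ (mulOn_af α) (mor_conj (innerFusionSystem S) hQ hu).mulOn
        u1.symm u2.symm (by rw [hα.1, ← u3.eq, mul_inv_cancel_right])⟩
    rcases h1 with e | e | e | e
    · exact (h.nb (kZ' α hα b (e ▸ hleZ ht))).elim
    · refine (h.nib (kZ' α hα _ ?_)).elim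
      rw [(mulOn_af α).map_mul hi hb, e, e1, mul_assoc, (hr.ZQ (hleZ hs) hi).left_comm, ← mul_assoc,
        hr.ii]
      exact mul_mem hz (mul_mem (hleZ hs) (hleZ ht))
    · exact fin (x * y) (hQ (mul_mem hx hy)) (z1.trans e1.symm) (z2.trans e.symm) (hr.cQ (mul_mem hx hy))
    · refine fin (w * (x * y)) (mul_mem h.wS (hQ (mul_mem hx hy))) ?_ ?_
        (h.wc.symm.mul_right (hr.cQ (mul_mem hx hy)))
      · calc _ = w * (x * y * i * (x * y)⁻¹) * w⁻¹ := by group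
          _ = _ := by rw [z1, (h.wi.mul_right (wZ s (hleZ hs))).eq, mul_inv_cancel_right, e1]
      · calc _ = w * (x * y * b * (x * y)⁻¹) * w⁻¹ := by group
          _ = w * b * w⁻¹ * t := by
            rw [z2, ← mul_assoc, mul_assoc _ t, (wZ t (hleZ ht)).symm.inv_right.eq, ← mul_assoc]
          _ = _ := by rw [h.wb, e]
  have kI : ∀ α ∈ Del i b c hle, α ∉ autInducedBy S (QQ i b c) →
      ∃ t ∈ ZZ 1 z, af α i = b * t ∨ af α i = i * b * t := fun α hα hn => by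
    obtain ⟨t, ht, e | e | e⟩ := hr.one.nf (hα.2 i (i_mem _ _ _))
    · exact (h.ni (kZ' α hα i (e ▸ hleZ ht))).elim
    · exact (hn (kA α hα t ht e)).elim
    · exact ⟨t, ht, e⟩
  refine (sat_of hS hQ (Del i b c hle) ⟨hA, isPGroup_autInducedBy hS _,
    fun C h1 h2 hC => le_antisymm (fun α hα => by_contra fun hn => ?_) h1⟩ ?_ ?_).imp
    fun F hF => ⟨hF.1, fun e => hδC _ (isPGroup_autInducedBy hS _) (mem_autInducedBy.2
      (mor_inner_iff.1 ((mor_iff_of_hom_eq (e _) _).1 (hF.2 δ hδ))).2)⟩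
  · obtain ⟨t, ht, e | e⟩ := kI α (h2 hα) hn
    · have h3 := h1 (kA (δ⁻¹ * α) (mul_mem (inv_mem hδ) (h2 hα)) t ht (by
        rw [af_mul_apply, e, (mulOn_af _).map_mul hb (hr.Z_le (hleZ ht)), kZ _ (inv_mem hδ) t (hleZ ht),
          af_inv_of d1]))
      exact hδC C hC (by simpa using inv_mem (mul_mem h3 (inv_mem hα)))
    · have h3 := h1 (kA (δ * α) (mul_mem hδ (h2 hα)) t ht (by
        rw [af_mul_apply, e, (mulOn_af _).map_mul (mul_mem hi hb) (hr.Z_le (hleZ ht)),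
          kZ _ hδ t (hleZ ht), d4]))
      exact hδC C hC (by simpa using mul_mem h3 (inv_mem hα))
  · rintro α hα hn y hy ⟨k, hk, e⟩
    refine (hN y hy).elim id ?_
    rintro ⟨q, hq, rfl⟩
    exfalso
    have hk' : k ∈ normalizerIn S (QQ i b c) := mem_normalizerIn_of hQ hk fun x hx => by
      have := e _ (af_mem α⁻¹ hx)
      rw [af_af_inv] at this
      rw [← this]
      exact af_mem α (conj_mem_of_normalizerIn hy (af_mem α⁻¹ hx))
    rcases hN k hk' with hk | ⟨r, hr', rfl⟩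
    · obtain ⟨s, hs, e1⟩ := hr.comm_or hq (mul_mem hi hb)
      obtain ⟨s', hs', e2⟩ := hr.comm_or hk (af_mem α hb)
      have e3 := e b hb
      have e4 : q * w * b * (q * w)⁻¹ = q * (w * b * w⁻¹) * q⁻¹ := by group
      rw [e4, h.wb, e1, e2, (mulOn_af α).map_mul (mul_mem hi hb) (hr.Z_le (hleZ hs)),
        (mulOn_af α).map_mul hi hb, kZ α hα s (hleZ hs)] at e3
      exact h.ni (kZ' α hα i (noi (af_mem α hb) (hleZ hs) (hleZ hs') e3))
    · obtain ⟨s, hs, e1⟩ := hr.comm_or hq hi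
      have e3 := e i hi
      have e4 : q * w * i * (q * w)⁻¹ = q * (w * i * w⁻¹) * q⁻¹ := by group
      have e5 : w * af α i * w⁻¹ = i * af α i := by
        obtain ⟨t, ht, e | e⟩ := kI α hα hn
        · rw [e, ← mul_assoc, mul_assoc _ t, (wZ t (hleZ ht)).symm.inv_right.eq, ← mul_assoc, h.wb,
            mul_assoc]
        · rw [e, ← mul_assoc, mul_assoc _ t, (wZ t (hleZ ht)).symm.inv_right.eq, ← mul_assoc,
            ← mul_assoc, h.wi.eq, mul_assoc i w, mul_assoc i, h.wb, mul_assoc]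
      obtain ⟨s', hs', e2⟩ := hr.comm_or hr' (mul_mem hi (af_mem α hi))
      have e6 : r * w * af α i * (r * w)⁻¹ = r * (w * af α i * w⁻¹) * r⁻¹ := by group
      rw [e4, h.wi.eq, mul_inv_cancel_right, e1, e6, e5, e2,
        (mulOn_af α).map_mul hi (hr.Z_le (hleZ hs)), kZ α hα s (hleZ hs)] at e3
      exact h.ni (noi (af_mem α hi) (hleZ hs') (hleZ hs) e3.symm)
  · intro P hP
    by_contra hcon
    push Not at hcon
    have key : ∀ α ∈ Del i b c hle, ∀ x y, af α x = b → af α y = i * b → x ∈ P ∨ y ∈ P := by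
      intro α hα x y e1 e2
      have hm := (mulOn_af α).mono hP.le
      have hl : img P (af α) ≤ QQ i b c := img_le_iff.2 fun x hx => af_mem α (hP.le hx)
      have hZ : ∀ t ∈ ZZ c z, t ∈ img P (af α) := fun t ht =>
        hcon α hα ⟨hQ (hr.Z_le ht), fun u hu => (hr.ZQ ht (hl hu)).symm⟩
      have hbk : ∀ x, af α x ∈ img P (af α) → x ∈ P := fun x hx => by
        obtain ⟨u, hu, e⟩ := hm.mem_img.1 hx
        exact (af α).injective e ▸ hu
      by_contra hn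
      refine hw (hl (hcon α hα ⟨h.wS, fun u hu => ?_⟩))
      obtain ⟨t, ht, e | e | e | e⟩ := hr.nf (hl hu)
      · exact e ▸ (wZ t ht).symm
      · exact e ▸ (h.wi.mul_right (wZ t ht)).symm
      · refine (hn (Or.inl (hbk x ?_))).elim
        rw [e1.trans (eq_mul_inv_of_mul_eq e.symm)]
        exact mul_mem hu (inv_mem (hZ t ht))
      · refine (hn (Or.inr (hbk y ?_))).elim
        rw [e2.trans (eq_mul_inv_of_mul_eq e.symm)]
        exact mul_mem hu (inv_mem (hZ t ht))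
    have hcP : c ∈ P := by
      have := hcon 1 (one_mem _)
      rw [img_eq_self_of_fix fun x _ => af_one_apply x] at this
      exact this ⟨h.cS, fun u hu => (hr.cQ (hP.le hu)).symm⟩
    have k1 := key 1 (one_mem _) b (i * b) (af_one_apply _) (af_one_apply _)
    have k2 := key δ hδ i b d1 d2
    have k3 := key δ⁻¹ (inv_mem hδ) (i * b) i (af_inv_of d2) (af_inv_of d4)
    have k4 : i ∈ P ∧ b ∈ P := by
      by_cases h1 : i ∈ P
      · exact ⟨h1, k1.elim id fun h2 => (P.mul_mem_cancel_left h1).1 h2⟩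
      · have h2 := k2.resolve_left h1
        exact ⟨(P.mul_mem_cancel_right h2).1 (k3.resolve_right h1), h2⟩
    exact hP.not_ge (QQ_le k4.1 k4.2 hcP)

end H16.BC
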