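/- `H8.BC.JobCon`: a non-inner saturated fusion system on a bicyclic nonmetacyclic 2-group. -/
import Cfsg.Agent.H16.BCQ
import Cfsg.Agent.H8.BCSpec
import Cfsg.Agent.H19.Metacyclic

set_option autoImplicit false
set_option maxHeartbeats 400000

namespace H16.BC
open Cfsg Subgroup
open scoped commutatorElement

section
variable {G : Type*} [Group G]

theorem eq_one_of_odd (hG : IsPGroup 2 G) {x : G} {n : ℤ} (hn : Odd n) (h : x ^ n = 1) : x = 1 := by
  obtain ⟨k, hk⟩ := hG x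
  have hc : IsCoprime n ((2 : ℤ) ^ k) := (Int.isCoprime_two_right.2 hn).pow_right
  obtain ⟨u, v, e⟩ := hc
  have hk' : x ^ ((2 : ℤ) ^ k) = 1 := by exact_mod_cast hk
  rw [← zpow_one x, ← e, zpow_add, mul_comm u, mul_comm v, zpow_mul, zpow_mul, h, hk']
  simp

theorem inv_unique {v x y : G} (hx : x ∈ zpowers v) (hy : y ∈ zpowers v) (h1 : x * x = 1)
    (h2 : y * y = 1) (h3 : y ≠ 1) : x = 1 ∨ x = y := by
  obtain ⟨s, rfl⟩ := mem_zpowers_iff.1 hx
  obtain ⟨t, rfl⟩ := mem_zpowers_iff.1 hy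
  rw [← zpow_add, ← orderOf_dvd_iff_zpow_eq_one] at h1 h2
  obtain ⟨p, hp⟩ := h1
  obtain ⟨q, hq⟩ := h2
  rcases Int.even_or_odd' q with ⟨q, rfl | rfl⟩
  · exact (h3 (orderOf_dvd_iff_zpow_eq_one.1 ⟨q, by linarith⟩)).elim
  rcases Int.even_or_odd' p with ⟨p, rfl | rfl⟩
  · exact Or.inl (orderOf_dvd_iff_zpow_eq_one.1 ⟨p, by linarith⟩)
  · exact Or.inr (orderOf_dvd_sub_iff_zpow_eq_zpow.1 ⟨p - q, by linarith⟩)

theorem exists_inv2 : ∀ (k : ℕ) (x : G), x ^ 2 ^ k = 1 → x ≠ 1 →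
    ∃ i ∈ zpowers x, i ≠ 1 ∧ i * i = 1
  | 0, x, h, h1 => (h1 (by simpa using h)).elim
  | k + 1, x, h, h1 => by
    by_cases h2 : x * x = 1
    · exact ⟨x, mem_zpowers x, h1, h2⟩
    · obtain ⟨i, hi, h3⟩ := exists_inv2 k (x * x) (by rw [← sq, ← pow_mul, ← pow_succ', h]) h2
      exact ⟨i, zpowers_le.2 (mul_mem (mem_zpowers x) (mem_zpowers x)) hi, h3⟩

theorem comm_V {v x y : G} (hx : x ∈ zpowers v) (hy : y ∈ zpowers v) : Commute x y := by
  obtain ⟨s, rfl⟩ := mem_zpowers_iff.1 hx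
  obtain ⟨t, rfl⟩ := mem_zpowers_iff.1 hy
  exact Commute.zpow_zpow_self v s t

theorem conj_zpow_of {w v b : G} (h1 : Commute w v) (h2 : w * b * w⁻¹ = v * b) (j : ℤ) :
    w ^ j * b * (w ^ j)⁻¹ = v ^ j * b := by
  have h3 : b * w⁻¹ * b⁻¹ = w⁻¹ * v := by
    calc _ = w⁻¹ * (w * b * w⁻¹) * b⁻¹ := by group
      _ = _ := by rw [h2]; group
  calc _ = w ^ j * (b * w⁻¹ * b⁻¹) ^ j * b := by rw [conj_zpow]; group
    _ = _ := by rw [h3, h1.inv_left.mul_zpow]; group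

theorem mc_of {x y : G} (hn : (zpowers x).Normal) (h : zpowers x ⊔ zpowers y = ⊤) :
    IsMetacyclic G := by
  refine (H19.MC.mk (a := x) (b := y) hn fun g => ?_).isMetacyclic
  have h1 : g ∈ ((zpowers x ⊔ zpowers y : Subgroup G) : Set G) := by rw [h]; trivial
  rw [normal_mul] at h1
  obtain ⟨_, ⟨i, rfl⟩, _, ⟨j, rfl⟩, rfl⟩ := h1
  exact ⟨i, j, rfl⟩

/-- The structure of the group. -/
structure St (a b v c : G) : Prop where
  v1 : v ≠ 1
  der : commutator G = zpowers v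
  ab : a * b * a⁻¹ = v * b
  bV : ∀ x ∈ zpowers v, b * x * b⁻¹ = x⁻¹
  aV : ∃ k : ℤ, ∀ x ∈ zpowers v, a * x * a⁻¹ = x ^ (2 * k - 1)
  b4 : b * b * (b * b) = 1
  cd : ∃ h : ℤ, c = v ^ h * a ^ 2
  cV : ∀ x ∈ zpowers v, x ^ 8 = 1 → Commute c x
  cb : Commute c b
  ca : v ^ 4 = 1 → Commute c a
  Cb : ∀ g, Commute g b → ∃ x ∈ zpowers v, x * x = 1 ∧ ∃ m t : ℤ, g = x * c ^ m * b ^ t

theorem st_of (hG : IsPGroup 2 G) {a b : G} (htop : closure {a, b} = ⊤)
    (hcyc : IsCyclic (commutator G)) (hb : b ^ 2 ∈ zpowers (⁅a, b⁆ ^ 2)) (v1 : ⁅a, b⁆ ≠ 1) :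
    ∃ c, St a b ⁅a, b⁆ c := by
  have hn : (zpowers ⁅a, b⁆).Normal := H19.normal_of_le_cyclic (N := commutator G)
    (zpowers_le.2 (commutator_mem_commutator (mem_top a) (mem_top b)))
  have der := H19.commutator_eq_zpowers_of_pair htop
  have ab : a * b * a⁻¹ = ⁅a, b⁆ * b := by rw [commutatorElement_def]; group
  generalize ⁅a, b⁆ = v at *
  have hv := mem_zpowers v
  have nsq : ∀ y ∈ zpowers v, ∀ g, g * v * g⁻¹ ≠ y * y := fun y hy g e => by
    obtain ⟨r, hr⟩ := mem_zpowers_iff.1 (hn.conj_mem' y hy g)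
    refine v1 (eq_one_of_odd hG (n := 2 * r - 1) ⟨r - 1, by ring⟩ ?_)
    have : v = g⁻¹ * y * g * (g⁻¹ * y * g) := by
      calc v = g⁻¹ * (g * v * g⁻¹) * g := by group
        _ = _ := by rw [e]; group
    rw [zpow_sub_one, two_mul, zpow_add, hr, ← this, mul_inv_cancel]
  have ext : ∀ (g : G) (k : ℤ), g * v * g⁻¹ = v ^ k → ∀ x ∈ zpowers v, g * x * g⁻¹ = x ^ k := by
    intro g k e x hx
    obtain ⟨s, rfl⟩ := mem_zpowers_iff.1 hx
    rw [← conj_zpow, e, ← zpow_mul, ← zpow_mul, mul_comm]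
  obtain ⟨k, hk⟩ : ∃ k : ℤ, a * v * a⁻¹ = v ^ (2 * k - 1) := by
    obtain ⟨r, hr⟩ := mem_zpowers_iff.1 (hn.conj_mem v hv a)
    rcases Int.even_or_odd' r with ⟨k, rfl | rfl⟩
    · exact (nsq (v ^ k) (zpow_mem hv k) a (by rw [← hr, two_mul, zpow_add])).elim
    · exact ⟨k + 1, by rw [← hr]; congr 1; ring⟩
  have aV := ext a _ hk
  obtain ⟨j, hj⟩ := mem_zpowers_iff.1 hb
  have hβ : b * b = v ^ (2 * j) := by rw [← sq, ← hj, zpow_mul]; norm_cast
  have hβV : b * b ∈ zpowers v := hβ ▸ zpow_mem hv _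
  have e1 : b * v * b⁻¹ = v⁻¹ * (b * b) ^ (2 * (k - 1)) := by
    have h1 := aV _ hβV
    have h2 : a * (b * b) * a⁻¹ = v * (b * v * b⁻¹) * (b * b) := by
      calc _ = (a * b * a⁻¹) * (a * b * a⁻¹) := by group
        _ = _ := by rw [ab]; group
    calc _ = v⁻¹ * (v * (b * v * b⁻¹) * (b * b)) * (b * b)⁻¹ := by group
      _ = _ := by rw [← h2, h1, mul_assoc, ← zpow_sub_one]; congr 2; ring
  have b4 : b * b * (b * b) = 1 := by
    have h1 := ext b (4 * (j * (k - 1)) - 1) (by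
      rw [e1, hβ, ← zpow_mul, ← zpow_neg_one, ← zpow_add]; congr 1; ring) _ hβV
    refine eq_one_of_odd hG (n := 2 * (j * (k - 1)) - 1) ⟨j * (k - 1) - 1, by ring⟩ ?_
    have h2 : b * (b * b) * b⁻¹ = b * b := by group
    rw [h2] at h1
    rw [← zpow_two, ← zpow_mul, ← mul_left_inj (b * b), one_mul, ← zpow_add_one]
    conv_rhs => rw [h1]
    congr 1; ring
  have bV : ∀ x ∈ zpowers v, b * x * b⁻¹ = x⁻¹ := fun x hx => by
    rw [ext b (-1) (by rw [e1, zpow_mul, zpow_two, b4]; simp) x hx, zpow_neg_one]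
  have hbx : ∀ x ∈ zpowers v, x * b * x⁻¹ = x * x * b := fun x hx => by
    calc _ = x * (b * x⁻¹ * b⁻¹) * b := by group
      _ = _ := by rw [bV _ (inv_mem hx), inv_inv]
  obtain ⟨n, hn'⟩ : ∃ n, k * (k - 1) = n + n := by
    have := Int.even_mul_succ_self (k - 1)
    rw [sub_add_cancel, mul_comm] at this
    exact this
  have cb : Commute (v ^ (-k) * a ^ 2) b := by
    have h1 : a ^ 2 * b * (a ^ 2)⁻¹ = v ^ k * b * (v ^ k)⁻¹ := by
      calc _ = a * (a * b * a⁻¹) * a⁻¹ := by rw [sq]; group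
        _ = (a * v * a⁻¹) * (a * b * a⁻¹) := by conv_lhs => rw [ab]
                                                group
        _ = _ := by
          rw [hk, ab, hbx _ (zpow_mem hv k), ← mul_assoc, ← zpow_add_one, ← zpow_add]
          congr 2; ring
    calc _ = v ^ (-k) * (a ^ 2 * b * (a ^ 2)⁻¹) * a ^ 2 := by group
      _ = _ := by rw [h1]; group
  refine ⟨v ^ (-k) * a ^ 2, v1, der, ab, bV, ⟨k, aV⟩, b4, ⟨-k, rfl⟩, fun x hx h8 => ?_, cb,
    fun h4 => ?_, fun g hg => ?_⟩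
  · refine (comm_V (zpow_mem hv _) hx).mul_left ?_
    have h8' : x ^ (8 : ℤ) = 1 := by exact_mod_cast h8
    have h1 : a ^ 2 * x * (a ^ 2)⁻¹ = x := by
      calc _ = a * (a * x * a⁻¹) * a⁻¹ := by rw [sq]; group
        _ = x ^ (8 * n + 1) := by
          rw [aV x hx, aV _ (zpow_mem hx _), ← zpow_mul]; congr 1; linarith
        _ = x := by rw [zpow_add_one, zpow_mul, h8']; simp
    exact mul_inv_eq_iff_eq_mul.1 h1
  · refine Commute.mul_left ?_ (Commute.pow_left (Commute.refl a) 2)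
    have h4' : v ^ (4 : ℤ) = 1 := by exact_mod_cast h4
    have h1 : a * v ^ (-k) * a⁻¹ = v ^ (-k) := by
      rw [aV _ (zpow_mem hv _), ← zpow_mul,
        show -k * (2 * k - 1) = 4 * (-n) + -k by linarith, zpow_add, zpow_mul, h4']
      simp
    exact (mul_inv_eq_iff_eq_mul.1 h1).symm
  · set c := v ^ (-k) * a ^ 2 with hc
    have ker : ∀ x : G, Abelianization.of x = 1 ↔ x ∈ zpowers v := fun x => by
      rw [← der, ← Abelianization.ker_of, MonoidHom.mem_ker]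
    have h1 : Abelianization.of g ∈ closure {Abelianization.of a, Abelianization.of b} := by
      rw [← Set.image_pair, ← MonoidHom.map_closure, htop]
      exact mem_map_of_mem _ (mem_top g)
    obtain ⟨s, t, h2⟩ := mem_closure_pair.1 h1
    have h3 : Abelianization.of c = Abelianization.of a ^ (2 : ℤ) := by
      rw [hc, map_mul, (ker _).2 (zpow_mem hv _), one_mul, map_pow]; norm_cast
    rcases Int.even_or_odd' s with ⟨m, rfl | rfl⟩
    · have h4 : g * (c ^ m * b ^ t)⁻¹ ∈ zpowers v := (ker _).1 (by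
        rw [map_mul, map_inv, map_mul, map_zpow, map_zpow, h3, ← zpow_mul, h2, mul_inv_cancel])
      refine ⟨_, h4, ?_, m, t, by group⟩
      have h5 : Commute (g * (c ^ m * b ^ t)⁻¹) b :=
        hg.mul_left ((cb.zpow_left m).mul_left ((Commute.refl b).zpow_left t)).inv_left
      have h6 := hbx _ h4
      rw [h5.eq, mul_inv_cancel_right] at h6
      simpa using h6.symm
    · have h4 : g * (c ^ m * a * b ^ t)⁻¹ ∈ zpowers v := (ker _).1 (by
        rw [map_mul, map_inv, map_mul, map_mul, map_zpow, map_zpow, h3, ← zpow_mul, ← zpow_add_one,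
          h2, mul_inv_cancel])
      obtain ⟨x, hx, rfl⟩ : ∃ x ∈ zpowers v, g = x * (c ^ m * a * b ^ t) := ⟨_, h4, by group⟩
      exfalso
      refine nsq x⁻¹ (inv_mem hx) (c ^ m) ?_
      have h5 : x * (c ^ m * a) * b * (x * (c ^ m * a))⁻¹ = b := by
        calc _ = x * (c ^ m * a * b ^ t) * b * (x * (c ^ m * a * b ^ t))⁻¹ := by group
          _ = b := by rw [hg.eq, mul_inv_cancel_right]
      have h6 : c ^ m * b * (c ^ m)⁻¹ = b := by rw [(cb.zpow_left m).eq, mul_inv_cancel_right]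
      calc _ = c ^ m * (v * b) * (c ^ m)⁻¹ * (c ^ m * b * (c ^ m)⁻¹)⁻¹ := by group
        _ = x⁻¹ * (x * (c ^ m * a) * b * (x * (c ^ m * a))⁻¹) * x⁻¹⁻¹ * b⁻¹ := by
          rw [← ab, h6]; group
        _ = _ := by rw [h5, hbx _ (inv_mem hx), mul_inv_cancel_right]

theorem St.key (hG : IsPGroup 2 G) {a b v c : G} (h : St a b v c) {i d : G} (hi : i ∈ zpowers v)
    (i1 : i ≠ 1) (ii : i * i = b * b) (hcd : c ∈ QQ i b d)
    (dV : ∀ x ∈ zpowers v, x ^ 8 = 1 → Commute d x) (db : Commute d b)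
    (da : v ^ 4 = 1 → Commute d a) (ni : i ∉ ZZ d (b * b)) (nb : b ∉ ZZ d (b * b))
    (nib : i * b ∉ ZZ d (b * b)) : ∃ w, Dat ⊤ i b d (b * b) w := by
  have hv := mem_zpowers v
  have i4 : i ^ 4 = 1 := by
    rw [show i ^ 4 = i * i * (i * i) by simp only [pow_succ, pow_zero, one_mul, mul_assoc], ii, h.b4]
  have hbx : ∀ x ∈ zpowers v, x * b * x⁻¹ = x * x * b := fun x hx => by
    calc _ = x * (b * x⁻¹ * b⁻¹) * b := by group
      _ = _ := by rw [h.bV _ (inv_mem hx), inv_inv]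
  have hr : Rel i b d (b * b) := ⟨ii, rfl, h.b4, by
    have h1 : i⁻¹ = i * (b * b) := by rw [inv_eq_iff_mul_eq_one, ← mul_assoc, ii, h.b4]
    rw [mul_inv_eq_iff_eq_mul.1 (h.bV i hi), h1]; group,
    dV i hi (by rw [show 8 = 4 * 2 by norm_num, pow_mul, i4, one_pow]), db⟩
  obtain ⟨w, wd, wi, wb⟩ : ∃ w, Commute w d ∧ Commute w i ∧ w * b * w⁻¹ = i * b := by
    obtain ⟨j, rfl⟩ := mem_zpowers_iff.1 hi
    rcases Int.even_or_odd j with ⟨j, rfl⟩ | hj
    · refine ⟨v ^ j, (dV _ (zpow_mem hv j) ?_).symm, comm_V (zpow_mem hv j) hi, ?_⟩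
      · rw [← i4, zpow_add, ← sq, ← pow_mul]
      · rw [hbx _ (zpow_mem hv j), zpow_add]
    · have v4 : v ^ 4 = 1 := eq_one_of_odd hG hj (by
        rw [← i4, ← zpow_natCast, ← zpow_natCast, ← zpow_mul, ← zpow_mul, mul_comm])
      have v4' : v ^ (4 : ℤ) = 1 := by exact_mod_cast v4
      obtain ⟨u, ud, uv, ub⟩ : ∃ u, Commute u d ∧ Commute u v ∧ u * b * u⁻¹ = v * b := by
        obtain ⟨k, hk⟩ := h.aV
        rcases Int.even_or_odd' k with ⟨k, rfl | rfl⟩
        · refine ⟨a * b, (da v4).symm.mul_left db.symm, mul_inv_eq_iff_eq_mul.1 ?_, by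
            rw [← h.ab]; group⟩
          calc _ = a * (b * v * b⁻¹) * a⁻¹ := by group
            _ = v := by
              rw [h.bV v hv, hk _ (inv_mem hv), inv_zpow',
                show -(2 * (2 * k) - 1) = 4 * (-k) + 1 by ring, zpow_add_one, zpow_mul, v4']
              simp
        · refine ⟨a, (da v4).symm, mul_inv_eq_iff_eq_mul.1 ?_, h.ab⟩
          rw [hk v hv, show 2 * (2 * k + 1) - 1 = 4 * k + 1 by ring, zpow_add_one, zpow_mul, v4']
          simp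
      exact ⟨u ^ j, ud.zpow_left j, uv.zpow_zpow j j, conj_zpow_of uv ub j⟩
  have om : ∀ x ∈ zpowers v, x * x = 1 → x ∈ zpowers i := fun x hx e => by
    by_cases h1 : i * i = 1
    · rcases inv_unique hx hi e h1 i1 with rfl | rfl
      exacts [one_mem _, mem_zpowers _]
    · rcases inv_unique hx (mul_mem hi hi) e (by rw [ii, h.b4]) h1 with rfl | rfl
      exacts [one_mem _, mul_mem (mem_zpowers _) (mem_zpowers _)]
  have hiQ : zpowers i ≤ QQ i b d := zpowers_le.2 (i_mem _ _ _)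
  have hC : ∀ g, g * b * g⁻¹ = b → g ∈ QQ i b d := fun g hg => by
    obtain ⟨x, hx, e, m, t, rfl⟩ := h.Cb g (mul_inv_eq_iff_eq_mul.1 hg)
    exact mul_mem (mul_mem (hiQ (om x hx e)) (zpow_mem hcd m)) (zpow_mem (b_mem _ _ _) t)
  refine ⟨w, hr, mem_top _, mem_top _, mem_top _, mem_top _, wd, wi, wb, ni, nb, nib, fun y _ hy => ?_⟩
  have hx : y * b * y⁻¹ * b⁻¹ ∈ zpowers v :=
    h.der ▸ commutator_mem_commutator (mem_top y) (mem_top b)
  obtain ⟨n, hn⟩ : y * b * y⁻¹ * b⁻¹ ∈ zpowers i := by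
    have hxQ := mul_mem hy (inv_mem (b_mem i b d))
    generalize y * b * y⁻¹ * b⁻¹ = x at hx hxQ
    obtain ⟨s, hs, e⟩ := hr.comm_or hxQ (b_mem _ _ _)
    rw [hbx x hx] at e
    rcases hr.Z_one hs with rfl | rfl
    · exact om x hx (by simpa using e)
    · have e2 : x * x = i * i := by rw [ii]; exact mul_right_cancel (e.trans (mul_assoc _ _ _).symm)
      have := om (x * i⁻¹) (mul_mem hx (inv_mem hi)) (by
        rw [mul_assoc, (comm_V (inv_mem hi) hx).left_comm, ← mul_assoc, e2]; group)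
      exact (mul_mem_cancel_right (inv_mem (mem_zpowers i))).1 this
  have h1 : (w ^ n)⁻¹ * y ∈ QQ i b d := hC _ (by
    calc _ = (w ^ n)⁻¹ * (y * b * y⁻¹ * b⁻¹ * b) * w ^ n := by group
      _ = (w ^ n)⁻¹ * (w ^ n * b * (w ^ n)⁻¹) * w ^ n := by rw [← hn, conj_zpow_of wi wb n]
      _ = b := by group)
  have h2 : w ^ (2 : ℤ) ∈ QQ i b d := by
    refine (mul_mem_cancel_left (inv_mem (i_mem i b d))).1 (hC _ ?_)
    calc _ = i⁻¹ * (w ^ (2 : ℤ) * b * (w ^ (2 : ℤ))⁻¹) * i := by group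
      _ = i⁻¹ * (i * b * i⁻¹) * i := by rw [conj_zpow_of wi wb 2, hbx i hi, zpow_two i]
      _ = b := by group
  rcases Int.even_or_odd' n with ⟨m, rfl | rfl⟩
  · refine Or.inl ((mul_mem_cancel_left (inv_mem ?_)).1 h1)
    rw [zpow_mul]; exact zpow_mem h2 m
  · have h3 : w * ((w ^ (2 * m + 1))⁻¹ * y) * w⁻¹ ∈ QQ i b d :=
      QQ_le (K := (QQ i b d).comap (MulAut.conj w).toMonoidHom)
        (show w * i * w⁻¹ ∈ QQ i b d by rw [wi.eq, mul_inv_cancel_right]; exact i_mem _ _ _)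
        (show w * b * w⁻¹ ∈ QQ i b d by rw [wb]; exact mul_mem (i_mem _ _ _) (b_mem _ _ _))
        (show w * d * w⁻¹ ∈ QQ i b d by rw [wd.eq, mul_inv_cancel_right]; exact c_mem _ _ _) h1
    have h4 := mul_mem (zpow_mem h2 m) h3
    rw [← zpow_mul] at h4
    refine Or.inr ?_
    convert h4 using 1
    group

theorem caseQ (hG : IsPGroup 2 G) {a b : G} (htop : closure {a, b} = ⊤)
    (hcyc : IsCyclic (commutator G)) (hb : b ^ 2 ∈ zpowers (⁅a, b⁆ ^ 2)) (hb1 : b ^ 2 ≠ 1) :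
    ∃ i c z w, Dat (⊤ : Subgroup G) i b c z w := by
  obtain ⟨c, h⟩ := st_of hG htop hcyc hb fun e => hb1 (by simpa [e] using hb)
  obtain ⟨j, hj⟩ := mem_zpowers_iff.1 hb
  generalize ⁅a, b⁆ = v at *
  have hi : v ^ j ∈ zpowers v := zpow_mem (mem_zpowers v) j
  have ii : v ^ j * v ^ j = b * b := by
    rw [← sq b, ← hj, sq, (Commute.refl v).mul_zpow]
  have nc : ¬ Commute (v ^ j) b := fun e => hb1 (by
    have := h.bV _ hi
    rw [← e.eq, mul_inv_cancel_right] at this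
    rw [sq, ← ii]; nth_rw 2 [this]; exact mul_inv_cancel _)
  have ci : Commute c (v ^ j) := h.cV _ hi (by
    rw [show 8 = 2 * 2 * 2 by norm_num, pow_mul, pow_mul, sq (v ^ j), ii, sq (b * b), h.b4, one_pow])
  have zb : ∀ t ∈ ZZ c (b * b), Commute b t := fun t ht =>
    comm_ZZ h.cb.symm ((Commute.refl b).mul_right (Commute.refl b)) ht
  obtain ⟨w, hw⟩ := h.key hG hi (fun e => nc (e ▸ Commute.one_left b)) ii (c_mem _ _ _) h.cV h.cb h.ca
    (fun e => nc (zb _ e).symm)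
    (fun e => nc (comm_ZZ ci.symm (ii ▸ (Commute.refl _).mul_right (Commute.refl _)) e))
    (fun e => nc (by simpa using ((zb _ e).mul_right (Commute.refl b).inv_right).symm))
  exact ⟨_, _, _, w, hw⟩

theorem exists_dat [Finite G] (hG : IsPGroup 2 G) {a b : G} (htop : closure {a, b} = ⊤)
    (hcyc : IsCyclic (commutator G)) (hb : b ^ 2 ∈ zpowers (⁅a, b⁆ ^ 2)) (hm : ¬ IsMetacyclic G) :
    ∃ i b c z w, Dat (⊤ : Subgroup G) i b c z w := by
  by_cases hb1 : b ^ 2 = 1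
  swap
  · obtain ⟨i, h⟩ := caseQ hG htop hcyc hb hb1
    exact ⟨i, b, h⟩
  have hn : (zpowers ⁅a, b⁆).Normal := H19.normal_of_le_cyclic (N := commutator G)
    (zpowers_le.2 (commutator_mem_commutator (mem_top a) (mem_top b)))
  have der := H19.commutator_eq_zpowers_of_pair htop
  have gen : ∀ K : Subgroup G, a ∈ K → b ∈ K → K = ⊤ := fun K h1 h2 =>
    top_le_iff.1 (htop ▸ (closure_le K).2 (by rintro x (rfl | rfl) <;> assumption))
  have va : ⁅a, b⁆ ∉ zpowers a := fun e => hm (mc_of (y := b)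
    (Normal.of_commutator_le G (der ▸ zpowers_le.2 e))
    (gen _ (mem_sup_left (mem_zpowers a)) (mem_sup_right (mem_zpowers b))))
  obtain ⟨c, h⟩ := st_of hG htop hcyc hb fun e => va (e ▸ one_mem _)
  clear hb
  generalize ⁅a, b⁆ = v at *
  have hv := mem_zpowers v
  have bb : b * b = 1 := by rwa [sq] at hb1
  obtain ⟨r, hc⟩ := h.cd
  have cK : ∀ K : Subgroup G, v ∈ K → a ∈ K → c ∈ K := fun K h1 h2 =>
    hc ▸ mul_mem (zpow_mem h1 r) (pow_mem h2 2)
  obtain ⟨i, hi, i1, ii⟩ := (hG v).elim fun k hk => exists_inv2 k v hk h.v1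
  have hK : zpowers c ≤ zpowers v ⊔ zpowers a :=
    zpowers_le.2 (cK _ (mem_sup_left hv) (mem_sup_right (mem_zpowers a)))
  have nb : b ∉ zpowers v ⊔ zpowers a := fun e =>
    hm (mc_of hn (gen _ (mem_sup_right (mem_zpowers a)) e))
  have nb1 : b ∉ zpowers c := fun e => nb (hK e)
  have nb2 : i * b ∉ zpowers c := fun e => nb ((mul_mem_cancel_left (mem_sup_left hi)).1 (hK e))
  have hZ : ZZ c (b * b) ≤ zpowers c := ZZ_le (mem_zpowers c) (bb ▸ one_mem _)
  by_cases hic : i ∈ zpowers c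
  swap
  · obtain ⟨w, hw⟩ := h.key hG hi i1 (ii.trans bb.symm) (c_mem _ _ _) h.cV h.cb h.ca
      (fun e => hic (hZ e)) (fun e => nb1 (hZ e)) (fun e => nb2 (hZ e))
    exact ⟨_, _, _, _, w, hw⟩
  obtain ⟨m, hm'⟩ := mem_zpowers_iff.1 hic
  rcases Int.even_or_odd' m with ⟨m, rfl | rfl⟩
  swap
  · have cc : c ^ (2 : ℤ) = 1 := eq_one_of_odd hG (n := 2 * m + 1) ⟨m, rfl⟩ (by
      rw [← zpow_mul, mul_comm, zpow_mul, hm', zpow_two, ii])
    rw [zpow_add_one, zpow_mul, cc, one_zpow, one_mul] at hm'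
    have hZ1 : ZZ 1 (b * b) ≤ ⊥ := ZZ_le (one_mem _) (bb ▸ one_mem _)
    obtain ⟨w, hw⟩ := h.key (d := 1) hG hi i1 (ii.trans bb.symm) (hm' ▸ i_mem _ _ _)
      (fun _ _ _ => Commute.one_left _) (Commute.one_left _) (fun _ => Commute.one_left _)
      (fun e => i1 (hZ1 e)) (fun e => nb1 (bot_le (a := zpowers c) (hZ1 e)))
      (fun e => nb2 (bot_le (a := zpowers c) (hZ1 e)))
    exact ⟨_, _, _, _, w, hw⟩
  obtain ⟨j, hj⟩ := mem_zpowers_iff.1 hi
  rcases Int.even_or_odd j with ⟨j, rfl⟩ | hodd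
  swap
  · exfalso
    have vv : v ^ (2 : ℤ) = 1 := eq_one_of_odd hG hodd (by
      rw [← zpow_mul, mul_comm, zpow_mul, hj, zpow_two, ii])
    obtain ⟨k, hk⟩ := h.aV
    have av : Commute v a := (mul_inv_eq_iff_eq_mul.1 (by
      rw [hk v hv, show 2 * k - 1 = 2 * (k - 1) + 1 by ring, zpow_add_one, zpow_mul, vv]
      simp) : a * v = v * a).symm
    rcases inv_unique hv hi (by rwa [zpow_two] at vv) ii i1 with e | e
    · exact h.v1 e
    · refine va ?_
      rw [e, ← hm', hc, ((av.zpow_left r).pow_right 2).mul_zpow, ← zpow_mul,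
        show r * (2 * m) = 2 * (r * m) by ring, zpow_mul, vv, one_zpow, one_mul]
      exact zpow_mem (pow_mem (mem_zpowers a) 2) _
  have : Fact (Nat.Prime 2) := ⟨Nat.prime_two⟩
  have := hG.isNilpotent
  have htop' : closure {a, b * c ^ m} = ⊤ := by
    refine H19.eq_top_of_sup_commutator (gen _ (mem_sup_left (subset_closure (by simp))) ?_)
    refine (mul_mem_cancel_right (zpow_mem (cK _ (mem_sup_right (h.der ▸ hv))
      (mem_sup_left (subset_closure (by simp)))) m)).1 (mem_sup_left (subset_closure (by simp)))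
  have hsq : (b * c ^ m) ^ 2 = i := by
    rw [(h.cb.zpow_left m).symm.mul_pow, hb1, one_mul, ← hm', sq, ← zpow_add, two_mul]
  have hn' : (zpowers ⁅a, b * c ^ m⁆).Normal := H19.normal_of_le_cyclic (N := commutator G)
    (zpowers_le.2 (commutator_mem_commutator (mem_top _) (mem_top _)))
  have der' := H19.commutator_eq_zpowers_of_pair htop'
  obtain ⟨s, hs⟩ := mem_zpowers_iff.1 (der' ▸ h.der ▸ hv : v ∈ zpowers ⁅a, b * c ^ m⁆)
  obtain ⟨i', h'⟩ := caseQ hG htop' hcyc (mem_zpowers_iff.2 ⟨s * j, by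
    rw [hsq, ← hj, ← hs, ← zpow_natCast, ← zpow_mul, ← zpow_mul]; congr 1; push_cast; ring⟩)
    (hsq ▸ i1)
  exact ⟨i', _, h'⟩

theorem Dat.map {Ω : Type*} [Group Ω] {S : Subgroup Ω} {i b c z w : S}
    (h : Dat (⊤ : Subgroup S) i b c z w) : Dat S (i : Ω) b c z w := by
  have hQ : ∀ x : S, (x : Ω) ∈ QQ (i : Ω) b c ↔ x ∈ QQ i b c := fun x => by
    rw [← mem_map_iff_mem (f := S.subtype) S.subtype_injective, QQ, QQ, MonoidHom.map_closure,
      Set.image_insert_eq, Set.image_pair]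
    rfl
  have hZ : ∀ x : S, (x : Ω) ∈ ZZ (c : Ω) z → x ∈ ZZ c z := fun x hx => by
    rw [← mem_map_iff_mem (f := S.subtype) S.subtype_injective, ZZ, MonoidHom.map_closure,
      Set.image_pair]
    exact hx
  exact ⟨⟨congrArg Subtype.val h.ii, congrArg Subtype.val h.bb, congrArg Subtype.val h.zz,
      congrArg Subtype.val h.bi, congrArg Subtype.val h.ci.eq, congrArg Subtype.val h.cb.eq⟩,
    i.2, b.2, c.2, w.2, congrArg Subtype.val h.wc.eq, congrArg Subtype.val h.wi.eq,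
    congrArg Subtype.val h.wb, fun e => h.ni (hZ _ e), fun e => h.nb (hZ _ e),
    fun e => h.nib (hZ (i * b) e), fun y hy e =>
      (h.hN ⟨y, hy⟩ (mem_top _) ((hQ _).1 e)).imp (hQ _).2 (hQ (⟨y, hy⟩ * w⁻¹)).2⟩

end

universe u

theorem jobCon : H8.BC.JobCon.{u} := by
  intro Ω _ S _ hS a b htop hcyc hb hm
  obtain ⟨i, b, c, z, w, h⟩ := exists_dat hS htop hcyc hb hm
  exact h.map.exists_sat hS

end H16.BC
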