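import Cfsg.Agent.H16.CoreM
import Cfsg.Agent.H86.Model
import Cfsg.Agent.H98.PReduced
import Cfsg.Agent.H51.GoldHub
import Cfsg.Agent.H88.SE

/-! A group with Sylow `2`-subgroup `E₄ ≀ 2` has a subgroup of index two; a simple group with an abelian
Sylow `2`-subgroup of order `16` has one class of involutions. -/

set_option autoImplicit false
set_option maxRecDepth 100000
set_option maxHeartbeats 400000

namespace H16.Core

open H31 (TB TBD)
open Cfsg Subgroup H98 H1.Gold H31.S2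

universe u

def d32 : TBD := ⟨32, 0x102030405060708090a0b0c0d0e0f101112131415161718191a1b1c1d1e1f04050607000102030c0d0e0f08090a0b111013121514171619181b1a1d1c1f1e08090a0b0c0d0e0f000102030405060712131011161714151a1b18191e1f1c1d0c0d0e0f08090a0b040506070001020313121110171615141b1a19181f1e1d1c010003020504070609080b0a0d0c0f0e14151617101112131c1d1e1f18191a1b05040706010003020d0c0f0e09080b0a15141716111013121d1c1f1e19181b1a09080b0a0d0c0f0e010003020504070616171415121310111e1f1c1d1a1b18190d0c0f0e09080b0a050407060100030217161514131211101f1e1d1c1b1a191802030001060704050a0b08090e0f0c0d18191a1b1c1d1e1f101112131415161706070405020300010e0f0c0d0a0b080919181b1a1d1c1f1e11101312151417160a0b08090e0f0c0d02030001060704051a1b18191e1f1c1d12131011161714150e0f0c0d0a0b080906070405020300011b1a19181f1e1d1c131211101716151403020100070605040b0a09080f0e0d0c1c1d1e1f18191a1b141516171011121307060504030201000f0e0d0c0b0a09081d1c1f1e19181b1a15141716111013120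b0a09080f0e0d0c03020100070605041e1f1c1d1a1b181916171415121310110f0e0d0c0b0a090807060504030201001f1e1d1c1b1a19181716151413121110101112131415161718191a1b1c1d1e1f000102030405060708090a0b0c0d0e0f14151617101112131c1d1e1f18191a1b010003020504070609080b0a0d0c0f0e18191a1b1c1d1e1f101112131415161702030001060704050a0b08090e0f0c0d1c1d1e1f18191a1b141516171011121303020100070605040b0a09080f0e0d0c111013121514171619181b1a1d1c1f1e04050607000102030c0d0e0f08090a0b15141716111013121d1c1f1e19181b1a05040706010003020d0c0f0e09080b0a19181b1a1d1c1f1e111013121514171606070405020300010e0f0c0d0a0b08091d1c1f1e19181b1a151417161110131207060504030201000f0e0d0c0b0a090812131011161714151a1b18191e1f1c1d08090a0b0c0d0e0f000102030405060716171415121310111e1f1c1d1a1b181909080b0a0d0c0f0e01000302050407061a1b18191e1f1c1d12131011161714150a0b08090e0f0c0d02030001060704051e1f1c1d1a1b181916171415121310110b0a09080f0e0d0c030201000706050413121110171615141b1a19181f1e1d1c0c0d0e0f08090a0b040506070001020317161514131211101f1e1d1c1b1a19180d0c0f0e09080b0a05040706010003021b1a19181f1e1d1c13121110171615140e0f0c0d0a0b080906070405020300011f1e1d1c1b1a191817161514131211100f0e0d0c0b0a09080706050403020100,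
  0x1f1b17131e1a16121d1915111c1814100f0e0d0c0b0a09080706050403020100, [16, 8, 4, 2, 1]⟩

theorem ok32 : d32.OK := d32.ok_of (by decide +kernel)

/-- `E₄ ≀ 2`: the element with binary digits `i j k l m` is `s^i a₁^j a₂^k b₁^l b₂^m` -/
abbrev M32 : Type := TB d32 ok32

namespace M32

def s : M32 := TB.el 16
def d₁ : M32 := TB.el 10
def d₂ : M32 := TB.el 5

/-- the elementary abelian subgroup of order `16` -/
def E : Subgroup M32 := TB.sub (fun m => Nat.blt m.num 16) (by decide +kernel)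

theorem mem_E {m : M32} : m ∈ E ↔ m.num < 16 := Nat.blt_eq.to_iff

theorem card_E : Nat.card E = 16 := by rw [E, TB.card_sub]; decide +kernel

theorem E_comm : ∀ m : M32, m.num < 16 → ∀ n : M32, n.num < 16 → m * n = n * m := by decide +kernel

theorem card_cen1 {j : M32} (h1 : ¬ j.num < 16) (h2 : j * j = 1) : Nat.card (cen1 j) = 8 := by
  have : ∀ j : M32, ¬ j.num < 16 → j * j = 1 →
      (Finset.univ.filter fun m => m * j = j * m).card = 8 := by decide +kernel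
  rw [← this j h1 h2, ← Nat.card_eq_finsetCard]
  exact Nat.card_congr (Equiv.subtypeEquivRight fun m => by
    simp only [Finset.mem_filter, Finset.mem_univ, true_and, mem_cen1])

theorem gen {c j v : M32} (h : ∀ f : M32, f * s = s * f → ∃ a b e : Fin 2, f = c ^ a.1 * j ^ b.1 * v ^ e.1)
    {Z : Subgroup M32} (h1 : c ∈ Z) (h2 : j ∈ Z) (h3 : v ∈ Z) : cen1 s ≤ Z := fun f hf => by
  obtain ⟨a, b, e, rfl⟩ := h f (mem_cen1.1 hf)
  exact mul_mem (mul_mem (pow_mem h1 _) (pow_mem h2 _)) (pow_mem h3 _)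

theorem F_sq : ∀ f : M32, f * s = s * f → f * f = 1 := by decide +kernel

theorem F_comm : ∀ f : M32, f * s = s * f → ∀ f' : M32, f' * s = s * f' → f * f' = f' * f := by
  decide +kernel

variable {G : Type u} [Group G] [Finite G] {ψ : M32 →* G}

theorem range_le_nor (ψ : M32 →* G) : ψ.range ≤ nor ((cen1 s).map ψ) := by
  have : ∀ m f : M32, f * s = s * f → m * f * m⁻¹ * s = s * (m * f * m⁻¹) := by decide +kernel
  rintro _ ⟨m, rfl⟩
  refine mem_normalizer_of_cj_le ?_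
  rintro _ ⟨_, ⟨f, hf, rfl⟩, rfl⟩
  exact ⟨_, mem_cen1.2 (this m f (mem_cen1.1 hf)), (map_conj ψ m f).symm⟩

omit [Finite G] in
theorem F_le_cen (ψ : M32 →* G) : (cen1 s).map ψ ≤ cen ((cen1 s).map ψ) := by
  rintro _ ⟨f, hf, rfl⟩ _ ⟨f', hf', rfl⟩
  rw [← map_mul, ← map_mul, F_comm f' (mem_cen1.1 hf') f (mem_cen1.1 hf)]

/-- no element acts on `C(s)` as an automorphism of order four -/
theorem no_four (hψ : Function.Injective ψ) (hS : IsSyl 2 ψ.range ⊤) {c j v : M32}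
    (h : ∀ f : M32, f * s = s * f → ∃ a b e : Fin 2, f = c ^ a.1 * j ^ b.1 * v ^ e.1)
    (hc : c ∈ cen1 s) (hj : j ∈ cen1 s) (hv : v ∈ cen1 s) (c1 : c ≠ 1) {k : G}
    (k1 : k * ψ c * k⁻¹ = ψ c) (k2 : k * ψ j * k⁻¹ = ψ (j * c)) (k3 : k * ψ v * k⁻¹ = ψ (v * j)) :
    False := by
  have : Fact (Nat.Prime 2) := ⟨Nat.prime_two⟩
  have cc := F_sq c (mem_cen1.1 hc)
  have jj := F_sq j (mem_cen1.1 hj)
  have hk : k ∈ nor ((cen1 s).map ψ) := by
    refine mem_normalizer_of_cj_le ?_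
    rintro _ ⟨_, ⟨f, hf, rfl⟩, rfl⟩
    exact gen h (Z := ((cen1 s).map ψ).comap ((MulAut.conj k).toMonoidHom.comp ψ))
      ⟨_, hc, k1.symm⟩ ⟨_, mul_mem hj hc, k2.symm⟩ ⟨_, mul_mem hv hj, k3.symm⟩ hf
  have e : ∀ y : G, k ^ 2 * y * (k ^ 2)⁻¹ = k * (k * y * k⁻¹) * k⁻¹ := fun y => by
    rw [pow_two]; group
  have l1 : k ^ 2 * ψ c * (k ^ 2)⁻¹ = ψ c := by rw [e, k1, k1]
  have l2 : k ^ 2 * ψ j * (k ^ 2)⁻¹ = ψ j := by
    rw [e, k2, map_mul, ← conj_mul, k2, k1, ← map_mul, mul_assoc, cc, mul_one]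
  have l3 : k ^ 2 * ψ v * (k ^ 2)⁻¹ = ψ (v * c) := by
    rw [e, k3, map_mul, ← conj_mul, k2, k3, ← map_mul, mul_assoc, ← mul_assoc j, jj, one_mul]
  have e' : ∀ y : G, k ^ 4 * y * (k ^ 4)⁻¹ = k ^ 2 * (k ^ 2 * y * (k ^ 2)⁻¹) * (k ^ 2)⁻¹ :=
    fun y => by group
  have m : ∀ {y : M32}, k ^ 4 * ψ y * (k ^ 4)⁻¹ = ψ y → y ∈ (cen1 (k ^ 4)).comap ψ := fun h =>
    mem_cen1.2 (mul_inv_eq_iff_eq_mul.1 h).symm
  have h4 : k ^ 4 ∈ cen ((cen1 s).map ψ) := by
    rintro _ ⟨f, hf, rfl⟩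
    exact mem_cen1.1 (gen h (m (by rw [e', l1, l1])) (m (by rw [e', l2, l2])) (m (by
      rw [e', l3, map_mul, ← conj_mul, l3, l1, ← map_mul, mul_assoc, cc, mul_one])) hf)
  have h2 := sq_mem_cen (F_le_cen ψ) (fun y hy y2 => ?_) hk h4 _ (mem_map_of_mem ψ hv)
  · rw [← h2, mul_inv_cancel_right] at l3
    exact c1 (left_eq_mul.1 (hψ l3))
  obtain ⟨n, hn, hle⟩ := (hS.of_le (range_le_nor ψ) le_top).exists_cj_le y2 (zpowers_le.2 hy)
  obtain ⟨a, ha⟩ := hle (H98.conj_mem_cj (mem_zpowers y))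
  have sq : ∀ a : M32, a * a * s = s * (a * a) := by decide +kernel
  rw [← H98.conj_mem_cj_iff (g := n), H98.cj_eq_self hn, ← conj_mul, ← ha, ← map_mul]
  exact mem_map_of_mem ψ (mem_cen1.2 (sq a))

theorem w32 (hG : ∀ H : Subgroup G, H.index ≠ 2) (hψ : Function.Injective ψ)
    (hS : IsSyl 2 ψ.range ⊤) : False := by
  have : Fact (Nat.Prime 2) := ⟨Nat.prime_two⟩
  have ss : s * s = 1 := by decide +kernel
  have hs : s ∈ cen1 s := mem_cen1.2 rfl
  have pE : IsPGroup 2 (E.map ψ) := hS.isPGroup.to_le (map_le_range _ _)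
  have cE : ∀ g : G, Nat.card (H98.cj g (E.map ψ)) = 16 := fun g => by
    rw [H98.card_cj, card_map_of_injective hψ, card_E]
  obtain ⟨e, he, hc⟩ := H86.thompson_model ψ hψ (odd_index_of_syl hS) hG (fun m => m.num < 16)
    (by decide +kernel) (a := s) (by decide +kernel) (t := ψ s) (by rw [← map_mul, ss, map_one])
  obtain ⟨g, -, -, h1, h2⟩ := exists_ext hS (x := ψ s) ⟨s, rfl⟩
  obtain ⟨α, hα⟩ := exists_pull_cen1 hψ h1
  rw [hα.eq s hs] at h2
  have cc : ∀ j : M32, Nat.card ↥(ψ.range ⊓ cen1 (ψ j)) ≤ Nat.card (cen1 j) := fun j => by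
    rw [← card_map_of_injective hψ (K := cen1 j)]
    refine card_le_of_le ?_
    rintro _ ⟨⟨m, rfl⟩, hm⟩
    exact ⟨m, mem_cen1.2 (hψ (by rw [map_mul, map_mul]; exact mem_cen1.1 hm)), rfl⟩
  have jE : (α s).num < 16 := by
    by_contra hj
    obtain ⟨c, hc⟩ := isConj_iff.1 (hc.symm.trans (isConj_iff.2 ⟨g, hα.eq s hs⟩))
    have := (h2.card_le (H98.isPGroup_cj c pE) (le_inf le_top ?_)).trans (cc _)
    · rw [cE, card_cen1 hj (hα.sq hs ss)] at this
      omega
    rw [← hc, ← cj_cen1]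
    refine H98.cj_mono c ?_
    rintro _ ⟨m, hm, rfl⟩
    exact mem_cen1.2 (by rw [← map_mul, ← map_mul, E_comm m (mem_E.1 hm) e he])
  have key : ∀ c v : M32, (c * s = s * c ∧ v * s = s * v ∧ c ≠ 1 ∧ c ≠ s ∧
      ∃ y : M32, y * s * y⁻¹ = s * c ∧ y * c * y⁻¹ = c ∧ y * v * y⁻¹ = v) →
      (α c).num < 16 → ¬ (α v).num < 16 → False := by
    rintro c v ⟨hc, hv, c1, cs, y, y1, y2, y3⟩ cE vE
    have hc' := mem_cen1.2 hc
    have hv' := mem_cen1.2 hv
    have A : ∀ v : M32, ¬ v.num < 16 → v * v = 1 → ∀ u : M32, u * v = v * u → u * s = s * u := by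
      decide +kernel
    have inF : ∀ f ∈ cen1 s, α f * s = s * α f := fun f hf =>
      A _ vE (hα.sq hv' (F_sq v hv)) _ (hα.comm hf hv' (F_comm f (mem_cen1.1 hf) v hv))
    have B : ∀ c : M32, c.num < 16 → c * s = s * c → c ≠ 1 → ∀ j : M32, j.num < 16 → j * s = s * j →
        j ≠ 1 → c ≠ j → ∀ v : M32, ¬ v.num < 16 → v * s = s * v →
        (∀ f : M32, f * s = s * f → ∃ a b e : Fin 2, f = c ^ a.1 * j ^ b.1 * v ^ e.1) ∧
        ∃ z : M32, z * c * z⁻¹ = c ∧ z * (j * c) * z⁻¹ = j * c ∧ z * v * z⁻¹ = v * j := by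
      decide +kernel
    have n1 : α c ≠ 1 := fun e => c1 (hα.eq_one hc' e)
    obtain ⟨b1, z, z1, z2, z3⟩ := B _ cE (inF c hc') n1 _ jE (inF s hs)
      (fun e => absurd (hα.eq_one hs e) (by decide +kernel)) (fun e => cs (hα.inj hc' hs e)) _ vE
      (inF v hv')
    have act : ∀ f ∈ cen1 s, ∀ f' ∈ cen1 s, y * f * y⁻¹ = f' →
        ψ z * (g * ψ y * g⁻¹) * ψ (α f) * (ψ z * (g * ψ y * g⁻¹))⁻¹ = ψ (z * α f' * z⁻¹) := by
      intro f hf f' hf' e
      rw [← map_conj, ← hα.eq f hf, ← hα.eq f' hf', ← e, ← map_conj]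
      group
    exact no_four hψ hS b1 (mem_cen1.2 (inF c hc')) (mem_cen1.2 (inF s hs)) (mem_cen1.2 (inF v hv')) n1
      (by rw [act c hc' c hc' y2, z1]) (by rw [act s hs _ (mul_mem hs hc') y1, hα.mul hs hc', z2])
      (by rw [act v hv' v hv' y3, z3])
  have m1 : d₁ ∈ cen1 s := mem_cen1.2 (by decide +kernel)
  have m2 : d₂ ∈ cen1 s := mem_cen1.2 (by decide +kernel)
  by_cases e1 : (α d₁).num < 16 <;> by_cases e2 : (α d₂).num < 16
  · have hle : H98.cj g ((cen1 s).map ψ) ≤ E.map ψ := by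
      rintro _ ⟨_, ⟨f, hf, rfl⟩, rfl⟩
      exact gen (c := d₁) (j := d₂) (v := s) (by decide +kernel)
        (Z := (E.map ψ).comap ((MulAut.conj g).toMonoidHom.comp ψ))
        ⟨_, mem_E.2 e1, (hα.eq _ m1).symm⟩ ⟨_, mem_E.2 e2, (hα.eq _ m2).symm⟩
        ⟨_, mem_E.2 jE, (hα.eq _ hs).symm⟩ hf
    have := (hS.inf_centralizer (range_le_nor ψ)).card_le (H98.isPGroup_cj g⁻¹ pE) (le_inf le_top (by
      rw [H98.cj_le_iff, inv_inv, H98.cj_centralizer]
      rintro _ ⟨m, hm, rfl⟩ y hy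
      obtain ⟨n, hn, rfl⟩ := hle hy
      rw [← map_mul, ← map_mul, E_comm m (mem_E.1 hm) n (mem_E.1 hn)]))
    have := this.trans ((card_le_of_le (inf_le_inf_left _ fun y hy =>
      mem_cen1.2 (hy _ (mem_map_of_mem ψ hs)).symm)).trans (cc s))
    rw [cE, card_cen1 (by decide +kernel) ss] at this
    omega
  · exact key d₁ d₂ (by decide +kernel) e1 e2
  · exact key d₂ d₁ (by decide +kernel) e2 e1
  · have : ∀ u v : M32, ¬ u.num < 16 → ¬ v.num < 16 → (u * v).num < 16 := by decide +kernel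
    exact key (d₁ * d₂) d₁ (by decide +kernel) (hα.mul m1 m2 ▸ this _ _ e1 e2) e1

end M32

theorem isConj_of_ab16 {G : Type u} [Group G] [Finite G] [IsSimpleGroup G] (hn : ¬ IsMulCommutative G)
    {T : Subgroup G} (hT : IsSyl 2 T ⊤) (hc : IsMulCommutative T) (h16 : Nat.card T = 16) {y z : G}
    (hy : orderOf y = 2) (hz : orderOf z = 2) : IsConj y z := by
  have : Fact (Nat.Prime 2) := ⟨Nat.prime_two⟩
  rcases H51.thmG _ G hn (Nat.lt_succ_self _) T
    ⟨hT.isPGroup, fun P hP h _ _ _ hg => hT.eq_of_le hP h le_top ▸ hg⟩ hc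
    (fun e => by simp [e] at h16) with ⟨M, hM⟩ | ⟨T', h1, -, h2⟩
  · exact H88.se_isConj hM hy hz
  · rw [h1.card_eq, ← hT.card_eq] at h2
    omega

end H16.Core
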