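import Cfsg.Agent.H16.HN3K
import Cfsg.Agent.H16.HN3A1
import Cfsg.Agent.H16.HNH

/-! §5 of `HN3L.md`: the subgroup `A₁₂`. -/

set_option autoImplicit false
open Subgroup Equiv H16.HN3 H42.MC
open H47.MC (V Mat Acts Coord)
open scoped Matrix

namespace H16.HN3A

universe u

attribute [local instance high] List.decidableBAll List.decidableBEx

variable {G : Type*} [Group G]

section chart
variable {y : G} {α : A9 →* G} (Y : YA y α) (y3 : y ^ 3 = 1)
include Y y3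

theorem mem1 {g h : G} (hg : Commute g y) (hh : Commute h y) (e : h * g * h⁻¹ = g⁻¹) :
    ∃ a, α a = g := by
  obtain ⟨i, a, rfl⟩ := Y.dec g hg
  obtain ⟨j, b, rfl⟩ := Y.dec h hh
  have c : ∀ (n : ℕ) (x : A9), Commute (y ^ n) (α x) := fun n x => (Y.le x).symm.pow_left n
  have e1 : y ^ j * α b * (y ^ i * α a) * (y ^ j * α b)⁻¹ = y ^ i * α (b * a * b⁻¹) := by
    have h1 : Commute (y ^ j) (y ^ i * α (b * a * b⁻¹)) :=
      ((Commute.refl y).pow_pow j i).mul_right (c _ _)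
    rw [← mul_inv_eq_iff_eq_mul.2 h1.eq, map_mul, map_mul, map_inv, ← mul_assoc (y ^ i),
      ← mul_assoc (y ^ i), (c i b).eq]
    group
  have e2 : α (b * a * b⁻¹ * a) = (y ^ (2 * i))⁻¹ := by
    rw [e1, eq_inv_iff_mul_eq_one, (c i a).eq, mul_assoc, ← mul_assoc (α _), ← map_mul,
      mul_eq_one_comm, mul_assoc, ← pow_add] at e
    rw [eq_inv_iff_mul_eq_one, two_mul, e]
  have e3 : b * a * b⁻¹ * a = 1 := by
    rw [← Subgroup.mem_bot, ← alternatingGroup.center_eq_bot (by simp), mem_center_iff]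
    intro x
    apply Y.inj
    rw [map_mul α x, map_mul α _ x, e2]
    exact (c _ x).inv_left.symm.eq
  rw [e3, map_one, eq_comm, inv_eq_one] at e2
  have : y ^ i = 1 := by
    have : y ^ (3 * i) = 1 := by rw [pow_mul, y3, one_pow]
    rwa [show 3 * i = 2 * i + i by ring, pow_add, e2, one_mul] at this
  exact ⟨a, by rw [this, one_mul]⟩

theorem key {m : G} (h1 : m * y * m⁻¹ = α E3) (h3 : m * α E3 * m⁻¹ = y⁻¹) (ha : Commute m (α a9))
    (h2 : Commute m (α E2)) (h4 : Commute m (α E4)) : Commute m (α (U 3)) := by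
  have cm : ∀ {x : G}, Commute m x → m * x * m⁻¹ = x := fun h => mul_inv_eq_iff_eq_mul.2 h.eq
  have c1 : Commute (m * α (U 3) * m⁻¹) y := by
    have := ((show Commute (U 3) E3 from (by decide +kernel : U 3 * E3 = E3 * U 3)).map α).conj m
    rwa [h3, Commute.inv_right_iff] at this
  have c2 : α a9 * (m * α (U 3) * m⁻¹) * (α a9)⁻¹ = (m * α (U 3) * m⁻¹)⁻¹ := by
    rw [← cm ha, conj_inv, conj_mul, conj_mul, conj_inv, ← map_inv, ← map_inv, ← map_mul,
      ← map_mul, show a9 * U 3 * a9⁻¹ = (U 3)⁻¹ by decide +kernel]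
  obtain ⟨π, e⟩ := mem1 Y y3 c1 (Y.le _) c2
  have : π = U 3 := by
    refine fin9 (Commute.of_map Y.inj ?_) (Y.inj ?_) (Y.inj ?_) (Y.inj ?_) fun h => ?_
    · rw [e, ← h1]; exact (Y.le _).conj m
    · rw [map_pow, e, conj_pow, ← map_pow, show U 3 ^ 3 = 1 by decide +kernel]; simp
    · rw [map_mul, map_mul, map_inv, map_inv, e, c2]
    · rw [map_pow, map_mul, e, ← cm h4, conj_mul, conj_pow, ← map_mul, ← map_pow,
        show (U 3 * E4) ^ 2 = 1 by decide +kernel]; simp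
    · have := h.map α
      rw [e, ← cm h2, Commute.conj_iff] at this
      exact absurd (Commute.of_map Y.inj this).eq (by decide +kernel)
  exact mul_inv_eq_iff_eq_mul.1 (this ▸ e).symm

end chart

def mA : Mat := !![1, 0, 0, 0; 0, -1, 0, 0; 0, 0, 1, 0; 0, 0, 0, -1]
def m23 : Mat := !![1, 0, 0, 0; 0, 0, -1, 0; 0, 1, 0, 0; 0, 0, 0, 1]
def m24 : Mat := !![1, 0, 0, 0; 0, 0, 0, -1; 0, 0, 1, 0; 0, 1, 0, 0]
def m12 : Mat := !![0, -1, 0, 0; 1, 0, 0, 0; 0, 0, 1, 0; 0, 0, 0, 1]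
def m13 : Mat := !![0, 0, -1, 0; 0, 1, 0, 0; 1, 0, 0, 0; 0, 0, 0, 1]

/-- `g` is the lift of `M` -/
def Lf (v : V → G) (ι g : G) (M : Mat) : Prop := Commute g ι ∧ Acts v g M

theorem Lf.mul {v : V → G} {ι g k : G} {M N : Mat} (a : Lf v ι g M) (b : Lf v ι k N) :
    Lf v ι (g * k) (M * N) := ⟨a.1.mul_left b.1, acts_mul a.2 b.2⟩

theorem Lf.pow {v : V → G} {ι g : G} {M : Mat} (a : Lf v ι g M) (n : ℕ) :
    Lf v ι (g ^ n) (M ^ n) := ⟨a.1.pow_left n, acts_pow a.2 n⟩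

theorem Lf.one {v : V → G} {ι : G} : Lf v ι 1 1 := ⟨Commute.one_left _, acts_one⟩

section
variable {v : V → G} {S J Q L : Subgroup G} {n ι : G} {π : H56.L3.Ce (v wz) →* H90.SL5}
  (H : Lc v S J Q L n π ι)
include H

theorem un {g k : G} {M N : Mat} (a : Lf v ι g M) (b : Lf v ι k N)
    (e : M = N := by decide +kernel) : g = k := H.uniq _ _ _ a.1 b.1 a.2 (e ▸ b.2)

omit H in
theorem ac {g : G} {M : Mat} (a : Lf v ι g M) (x x' : V) (e : M *ᵥ x = x' := by decide +kernel) :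
    g * v x * g⁻¹ = v x' := e ▸ a.2 x

theorem an {g : G} {M : Mat} (a : Lf v ι g M) (x x' : V) (e : M *ᵥ x = -x' := by decide +kernel) :
    g * v x * g⁻¹ = (v x')⁻¹ := v_neg H.toCoord x' ▸ ac a x _ e

omit H in
theorem af {g : G} {M : Mat} (a : Lf v ι g M) (x : V) (e : M *ᵥ x = x := by decide +kernel) :
    Commute g (v x) := mul_inv_eq_iff_eq_mul.1 (ac a x x e)

theorem chart {α : A9 →* G} (Y : YA (v ve1) α) : ∃ φ, YA (v ve1) φ ∧ φ E2 = v ve2 ∧
    φ E4 = v ve4 ∧ Lf v ι (φ a9) mA ∧ Lf v ι (φ w9) m23 := by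
  have C := H.toCoord
  have y3 := v_cube C ve1
  obtain ⟨a, ha⟩ : ∃ g, Lf v ι g mA := H.real _ (by decide +kernel)
  obtain ⟨w, hw⟩ : ∃ g, Lf v ι g m23 := H.real _ (by decide +kernel)
  obtain ⟨k, hk⟩ : ∃ g, Lf v ι g m24 := H.real _ (by decide +kernel)
  have ay := af ha ve1
  have aa : a * a = 1 := un H (ha.mul ha) Lf.one
  obtain ⟨p, hp⟩ := mem1 Y y3 (v_comm C ve2 ve1) ay (an H ha ve2 ve2)
  obtain ⟨q, hq⟩ := mem1 Y y3 (v_comm C ve4 ve1) ay (an H ha ve4 ve4)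
  obtain ⟨a, rfl⟩ := mem1 Y y3 ay ay (by rw [mul_inv_cancel_right, eq_inv_iff_mul_eq_one, aa])
  obtain ⟨w, rfl⟩ := mem1 Y y3 (af hw ve1) ay (by
    rw [inv_eq_of_mul_eq_one_right aa, eq_inv_iff_mul_eq_one]
    exact un H (((ha.mul hw).mul ha).mul hw) Lf.one)
  obtain ⟨i, k, rfl⟩ := Y.dec k (af hk ve1)
  have r : α (w * p * w⁻¹) = v ve3 := by rw [map_mul, map_mul, map_inv, hp, ac hw ve2 ve3]
  have up : ∀ {x y : A9}, α x = α y → x.1 = y.1 := fun e => congrArg Subtype.val (Y.inj e)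
  have uc : ∀ {x y : A9}, Commute (α x) (α y) → Commute x.1 y.1 := fun e =>
    (Commute.of_map Y.inj e).map (alternatingGroup (Fin 9)).subtype
  have wq := uc (hq ▸ af hw ve4)
  have w4 : w.1 ^ 4 = 1 := up (x := w ^ 4) (y := 1) (by
    rw [map_pow, map_one]; exact un H (hw.pow 4) Lf.one)
  have w2 : w.1 * w.1 * p.1 * (w.1 * w.1)⁻¹ = p.1⁻¹ := up (x := w * w * p * (w * w)⁻¹) (y := p⁻¹) (by
    simp only [map_mul, map_inv, hp]; exact an H (hw.mul hw) ve2 ve2)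
  have tq : q.1.IsThreeCycle := three (up (x := q ^ 3) (y := 1) (by rw [map_pow, hq, v_cube C, map_one]))
    (fun e => absurd ((v_eq_one C).1 (by rw [← hq, show q = 1 from Subtype.ext e, map_one])) (by decide))
    wq.symm w4 fun e => by
      have : α (w * w) = 1 := by rw [show w * w = 1 from Subtype.ext ((pow_two _).symm.trans e), map_one]
      have h := ac (hw.mul hw) ve2 (-ve2)
      rw [← map_mul, this, one_mul, inv_one, mul_one] at h
      exact absurd (C.inj h) (by decide)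
  have tp : p.1.IsThreeCycle := by
    have : k.1 * p.1 * k.1⁻¹ = q.1 := up (x := k * p * k⁻¹) (by
      have h1 := ac hk ve2 ve4
      have h2 : Commute (v ve1 ^ i) (α (k * p * k⁻¹)) := (Y.le _).symm.pow_left i
      rw [hq, ← h1, ← mul_inv_eq_iff_eq_mul.2 h2.eq, map_mul, map_mul, map_inv, hp]
      group)
    rwa [← this, Perm.IsThreeCycle, Perm.cycleType_conj] at tq
  obtain ⟨g, g1, g2, g3, g4⟩ := nf tp tq (uc (by rw [hp, hq]; exact v_comm C _ _))
    (uc (y := w * p * w⁻¹) (by rw [hp, r]; exact v_comm C _ _)) wq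
    (up (x := a ^ 4) (y := 1) (by rw [map_pow, map_one]; exact un H (ha.pow 4) Lf.one)) w4
    (up (x := a * p * a⁻¹) (y := p⁻¹) (by simp only [map_mul, map_inv, hp]; exact an H ha ve2 ve2))
    (up (x := a * q * a⁻¹) (y := q⁻¹) (by simp only [map_mul, map_inv, hq]; exact an H ha ve4 ve4))
    (uc (y := w * p * w⁻¹) (by rw [r]; exact af ha ve3)) w2
    (up (x := (a * (w * w)) ^ 4) (y := 1) (by
      simp only [map_pow, map_mul, map_one]; exact un H ((ha.mul (hw.mul hw)).pow 4) Lf.one))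
  have t : ∀ {x x' : A9}, g * x.1 * g⁻¹ = x'.1 →
      (α.comp (MulAut.conjNormal g : A9 ≃* A9).toMonoidHom) x = α x' := fun e =>
    congrArg α (Subtype.ext e)
  refine ⟨α.comp (MulAut.conjNormal g : A9 ≃* A9).toMonoidHom,
    ⟨Y.inj.comp (MulEquiv.injective _), fun _ => Y.le _, fun x hx => ?_⟩,
    (t g1).trans hp, (t g2).trans hq, t g3 ▸ ha, t g4 ▸ hw⟩
  obtain ⟨i, b, rfl⟩ := Y.dec x hx
  exact ⟨i, (MulAut.conjNormal g : A9 ≃* A9).symm b, by simp⟩

end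

def u (i : Fin 12) : A :=
  if h : i ≠ 4 ∧ i ≠ 5 then ⟨H57.cyc 4 5 i, Perm.mem_alternatingGroup.2 (H57.sign_cyc h)⟩ else 1
def sg : Fin 12 → Fin 9 := ![3, 7, 5, 0, 1, 2, 3, 4, 5, 6, 7, 8]

def aa : A := mk (swap 8 10 * swap 4 5)
def ww : A := mk (swap 6 7 * swap 8 11 * swap 8 10 * swap 8 9)

theorem jobA : JobA.{u} := by
  intro G _ _ v S J Q L n π ι α H Y
  have C := H.toCoord
  have y3 := v_cube C ve1
  obtain ⟨φ, Y, p2, p4, ha, hw⟩ := chart H Y
  obtain ⟨g, hg⟩ : ∃ g, Lf v ι g m12 := H.real _ (by decide +kernel)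
  obtain ⟨m, hm⟩ : ∃ g, Lf v ι g m13 := H.real _ (by decide +kernel)
  have cj : ∀ (k a b : A9), k * a * k⁻¹ = b → φ k * φ a * (φ k)⁻¹ = φ b := fun k a b e => by
    rw [← e, map_mul, map_mul, map_inv]
  have p3 : φ E3 = v ve3 := by rw [← cj w9 E2 E3 (by decide +kernel), p2, ac hw ve2 ve3]
  have cm : ∀ {x y : G}, Commute x y → x * y * x⁻¹ = y := fun h => mul_inv_eq_iff_eq_mul.2 h.eq
  have m2 : Commute m (φ E2) := p2 ▸ af hm ve2
  have m3 : Commute m (φ (U 3)) := key Y y3 (p3 ▸ ac hm ve1 ve3) (p3 ▸ an H hm ve3 ve1)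
    (un H (hm.mul ha) (ha.mul hm)) m2 (p4 ▸ af hm ve4)
  have cc : ∀ {x a b : G}, Commute x a → Commute x b → Commute x (a * b * a⁻¹) := fun h1 h2 =>
    (h1.mul_right h2).mul_right h1.inv_right
  have m5 : Commute m (φ (U 5)) := cj E2 (U 3) (U 5) (by decide +kernel) ▸ cc m2 m3
  have m7 : Commute m (φ (U 7)) := cj E2 (U 5) (U 7) (by decide +kernel) ▸ cc m2 m5
  have e1' : g = φ w9 * m⁻¹ * (φ w9)⁻¹ := by
    rw [eq_mul_inv_iff_mul_eq, eq_mul_inv_iff_mul_eq]; exact un H ((hg.mul hw).mul hm) hw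
  have e2' : φ w9 = g * m * g⁻¹ := by
    rw [eq_mul_inv_iff_mul_eq]; exact un H (hw.mul hg) (hg.mul hm)
  let y : Fin 12 → G := fun i => if i.val < 3 then g * φ (U (sg i)) * g⁻¹ else φ (U (sg i))
  have hy : ∀ j ∈ [0, 1, 2, 3, 7, 9, 11], y j = g * φ (U (sg j)) * g⁻¹ := by
    simp only [List.forall_mem_cons, List.not_mem_nil, false_imp_iff, implies_true, and_true]
    refine ⟨rfl, rfl, rfl, (cm ?_).symm, (cm ?_).symm, (cm ?_).symm, (cm ?_).symm⟩
    · show Commute g (φ (U 0))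
      exact (congrArg φ (by decide +kernel : E4 = U 0)) ▸ p4 ▸ af hg ve4
    · show Commute g (φ (U 4))
      exact cj w9 (U 3) (U 4) (by decide +kernel) ▸ e1' ▸ m3.inv_left.conj _
    · show Commute g (φ (U 6))
      exact cj w9 (U 5) (U 6) (by decide +kernel) ▸ e1' ▸ m5.inv_left.conj _
    · show Commute g (φ (U 8))
      exact cj w9 (U 7) (U 8) (by decide +kernel) ▸ e1' ▸ m7.inv_left.conj _
  have sq : ∀ i ∈ [0, 1, 2, 3, 7, 9, 11], ∀ j ∈ [0, 1, 2, 3, 7, 9, 11], i ≠ j →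
      (y i * y j) ^ 2 = 1 := fun i hi j hj e => by
    rw [hy i hi, hy j hj, conj_mul, conj_pow, ← map_mul, ← map_pow,
      show (U (sg i) * U (sg j)) ^ 2 = 1 by revert i j; decide +kernel]; simp
  have wy : ∀ i ∈ [0, 1, 2], φ w9 * y i * (φ w9)⁻¹ = y i := by
    simp only [List.forall_mem_cons, List.not_mem_nil, false_imp_iff, implies_true, and_true]
    exact ⟨cm (e2' ▸ m3.conj g), cm (e2' ▸ m7.conj g), cm (e2' ▸ m5.conj g)⟩
  obtain ⟨ψ, hψ⟩ := H16.HNH.exists_psi (y := y) (fun i hi => by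
      have : φ (U (sg i)) ^ 3 = 1 := by
        rw [← map_pow, show U (sg i) ^ 3 = 1 by revert i; decide +kernel, map_one]
      simp only [y]; split_ifs
      · rw [conj_pow, this]; simp
      · exact this)
    (fun i j hi hj e => by
      by_cases h : i.val < 3
      · have h1 : i ∈ [0, 1, 2] := by clear e; revert i; decide
        have h2 : i ∈ [0, 1, 2, 3, 7, 9, 11] := by clear e; revert i; decide
        by_cases h3 : j ∈ [0, 1, 2, 3, 7, 9, 11]
        · exact sq i h2 j h3 e.ne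
        · have h4 : ¬ j.val < 3 ∧ ¬ (j + 1).val < 3 ∧ j + 1 ∈ [0, 1, 2, 3, 7, 9, 11] ∧
              w9 * U (sg j) * w9⁻¹ = U (sg (j + 1)) := by clear e; revert j; decide +kernel
          have := sq i h2 _ h4.2.2.1 (by rintro rfl; exact h4.2.1 h)
          rw [← wy i h1, show y (j + 1) = _ from if_neg h4.2.1, ← cj _ _ _ h4.2.2.2, conj_mul,
            conj_pow, conj_eq_one_iff] at this
          rwa [show y j = _ from if_neg h4.1]
      · simp only [y, if_neg h, if_neg (show ¬ j.val < 3 by omega)]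
        rw [← map_mul, ← map_pow, show (U (sg i) * U (sg j)) ^ 2 = 1 by revert i j; decide +kernel,
          map_one])
  have hu : ∀ i, i ≠ 4 ∧ i ≠ 5 → ψ (u i) = y i := fun i hi => by
    obtain ⟨h, e⟩ := hψ i hi
    rw [u, dif_pos hi]; exact e
  have w1 : ∀ (l : List (Fin 12)) (a : A) (b : A9), (∀ i ∈ l, (i ≠ 4 ∧ i ≠ 5) ∧ ¬ i.val < 3) ∧
      (l.map u).prod = a ∧ (l.map (U ∘ sg)).prod = b → ψ a = φ b := by
    rintro l _ _ ⟨h, rfl, rfl⟩
    rw [map_list_prod, map_list_prod, List.map_map, List.map_map]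
    exact congrArg _ (List.map_congr_left fun i hi => (hu i (h i hi).1).trans (if_neg (h i hi).2))
  have w2 : ∀ (l : List (Fin 12)) (a : A) (b : A9), (∀ i ∈ l, i.val < 3) ∧
      (l.map u).prod = a ∧ (l.map (U ∘ sg)).prod = b → ψ a = g * φ b * g⁻¹ := by
    rintro l _ _ ⟨h, rfl, rfl⟩
    show _ = (MulAut.conj g).toMonoidHom.comp φ _
    rw [map_list_prod, map_list_prod, List.map_map, List.map_map]
    exact congrArg _ (List.map_congr_left fun i hi =>
      (hu i ((by decide : ∀ i : Fin 12, i.val < 3 → i ≠ 4 ∧ i ≠ 5) i (h i hi))).trans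
        (if_pos (h i hi)))
  have q1 : ψ e1 = v ve1 := by
    rw [w2 [0, 1, 2, 0, 1] e1 E2⁻¹ (by decide +kernel), map_inv, ← conj_inv, p2, an H hg ve2 ve1,
      inv_inv]
  have qa := w1 [8, 10, 10, 8] aa a9 (by decide +kernel)
  have qw := w1 [6, 8, 7, 11, 6, 10, 9, 9, 8] ww w9 (by decide +kernel)
  refine ⟨ψ, ?_, fun x hx => ?_, q1, p2 ▸ w1 [6, 8, 10, 6, 8] _ _ (by decide +kernel),
    p3 ▸ w1 [7, 9, 11, 7, 9] _ _ (by decide +kernel), p4 ▸ w1 [3] _ _ (by decide +kernel), ?_, ?_⟩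
  · have := alternatingGroup.isSimpleGroup (α := Fin 12) (by simp)
    rw [← MonoidHom.ker_eq_bot_iff]
    refine (this.eq_bot_or_eq_top_of_normal ψ.ker inferInstance).resolve_right fun e => ?_
    have : e1 ∈ ψ.ker := e ▸ mem_top _
    rw [MonoidHom.mem_ker, q1, v_eq_one C] at this
    exact absurd this (by decide)
  · obtain ⟨i, a, rfl⟩ := Y.dec x (q1 ▸ hx)
    refine mul_mem (pow_mem (show _ ∈ ψ.range from ⟨e1, q1⟩) i) ?_
    have h1 := H57.mem_closure_cyc (α := (1 : Fin 9)) (β := 2) (by decide) {0, 3, 4, 5, 6, 7, 8}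
      (by decide) (Perm.mem_alternatingGroup.1 a.2) (fun y hy => absurd hy (by revert y; decide))
    have h2 : Subgroup.closure (H57.cyc (1 : Fin 9) 2 '' ({0, 3, 4, 5, 6, 7, 8} : Finset (Fin 9))) ≤
        (ψ.range.comap φ).map (alternatingGroup (Fin 9)).subtype := by
      rw [closure_le]
      rintro _ ⟨j, hj, rfl⟩
      obtain ⟨i, hi, rfl⟩ : ∃ i, ((i ≠ 4 ∧ i ≠ 5) ∧ ¬ i.val < 3 ∧ (U (sg i)).1 = H57.cyc 1 2 (sg i)) ∧
          sg i = j := by
        rw [Finset.mem_coe] at hj; revert j; decide +kernel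
      exact ⟨U (sg i), ⟨u i, (hu i hi.1).trans (if_neg hi.2.1)⟩, hi.2.2⟩
    obtain ⟨b, hb, e⟩ := h2 h1
    exact (Subtype.ext e : b = a) ▸ hb
  · rw [show s = aa * ww by decide +kernel, map_mul, qa, qw]
    exact un H (ha.mul hw) (Lf.mul ⟨H.nI, H.aN⟩ ⟨H.nI, H.aN⟩)
  · rw [show io = r * (ww * ww) by decide +kernel, map_mul, map_mul, qw,
      w2 [1, 2, 2, 1] r a9 (by decide +kernel)]
    exact un H (((hg.mul ha).mul ⟨hg.1.inv_left, acts_inv (N := m12 ^ 3) hg.2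
        (by decide +kernel)⟩).mul (hw.mul hw)) ⟨Commute.refl _, H.aI⟩

end H16.HN3A
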