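import Cfsg.Agent.H16.HN3Spec

/-! Kit for `HN3L.md`: fast kernel computation with elements of `A₁₂` through numerical codes. -/

set_option autoImplicit false
open Subgroup Equiv
open H47.MC (V Mat)

namespace H16.HN3

attribute [local instance high] List.decidableBAll List.decidableBEx

instance (M : Mat) : Decidable (InG M) := by unfold InG; infer_instance

/-- the `i`-th hexadecimal digit -/
def dg (n i : ℕ) : ℕ := Nat.mod (Nat.shiftRight n (Nat.mul 4 i)) 16
/-- the number with the twelve digits `f 0, …, f 11` -/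
def pk (f : ℕ → ℕ) : ℕ :=
  Nat.add (f 0) (Nat.mul 16 (Nat.add (f 1) (Nat.mul 16 (Nat.add (f 2) (Nat.mul 16 (Nat.add (f 3)
  (Nat.mul 16 (Nat.add (f 4) (Nat.mul 16 (Nat.add (f 5) (Nat.mul 16 (Nat.add (f 6) (Nat.mul 16
  (Nat.add (f 7) (Nat.mul 16 (Nat.add (f 8) (Nat.mul 16 (Nat.add (f 9) (Nat.mul 16 (Nat.add (f 10)
  (Nat.mul 16 (f 11))))))))))))))))))))))
def code (a : A) : ℕ := pk fun i => (a.1 (Fin.ofNat 12 i)).val
def mulC (x y : ℕ) : ℕ := pk fun i => dg x (dg y i)
def fnd (x i : ℕ) : ℕ := (List.range 12).foldr (fun j acc => bif Nat.beq (dg x j) i then j else acc) 0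
def invC (x : ℕ) : ℕ := pk (fnd x)
def oneC : ℕ := 0xba9876543210

theorem dg_pk {f : ℕ → ℕ} (h : ∀ i < 12, f i < 16) (i : ℕ) (hi : i < 12) : dg (pk f) i = f i := by
  have h0 := h 0 (by decide); have h1 := h 1 (by decide); have h2 := h 2 (by decide)
  have h3 := h 3 (by decide); have h4 := h 4 (by decide); have h5 := h 5 (by decide)
  have h6 := h 6 (by decide); have h7 := h 7 (by decide); have h8 := h 8 (by decide)
  have h9 := h 9 (by decide); have h10 := h 10 (by decide); have h11 := h 11 (by decide)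
  have e : ∀ a b, Nat.mod a b = a % b := fun _ _ => rfl
  simp only [dg, pk, Nat.add_eq, Nat.mul_eq, Nat.shiftRight_eq, Nat.shiftRight_eq_div_pow, e]
  interval_cases i <;> omega

theorem pk_congr {f g : ℕ → ℕ} (h : ∀ i < 12, f i = g i) : pk f = pk g := by
  simp only [pk, h 0 (by decide), h 1 (by decide), h 2 (by decide), h 3 (by decide),
    h 4 (by decide), h 5 (by decide), h 6 (by decide), h 7 (by decide), h 8 (by decide),
    h 9 (by decide), h 10 (by decide), h 11 (by decide)]

theorem ofNat_val (i : Fin 12) : Fin.ofNat 12 i.val = i := Fin.ext (Nat.mod_eq_of_lt i.2)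

theorem dg_code (a : A) (i : Fin 12) : dg (code a) i = (a.1 i).val := by
  rw [code, dg_pk (fun j _ => (a.1 _).2.trans (by decide)) _ i.2, ofNat_val]

theorem code_inj : Function.Injective code := fun a b h =>
  Subtype.ext (Equiv.ext fun i => Fin.ext (by rw [← dg_code, h, dg_code]))

theorem code_eq {a b : A} : a = b ↔ code a = code b := code_inj.eq_iff.symm

theorem code_mul (a b : A) : code (a * b) = mulC (code a) (code b) := pk_congr fun i hi => by
  have := dg_code b ⟨i, hi⟩
  rw [show dg (code b) i = _ from this, dg_code]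
  exact congrArg (fun x => (a.1 (b.1 x)).val) (ofNat_val ⟨i, hi⟩)

theorem code_one : code 1 = oneC := by decide +kernel

theorem code_inv (a : A) : code a⁻¹ = invC (code a) := pk_congr fun i hi => by
  have key : ∀ (l : List ℕ) (P : ℕ → Bool) (j : ℕ), j ∈ l → (∀ k ∈ l, P k = true ↔ k = j) →
      l.foldr (fun j acc => bif P j then j else acc) 0 = j := by
    intro l P j
    induction l with
    | nil => simp
    | cons k l ih =>
      intro h1 h2
      rw [List.foldr_cons]
      cases e : P k
      · refine ih ((List.mem_cons.1 h1).resolve_left fun e' => ?_)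
          fun m hm => h2 m (List.mem_cons_of_mem _ hm)
        rw [(h2 k List.mem_cons_self).2 e'.symm] at e
        exact absurd e (by decide)
      · exact (h2 k List.mem_cons_self).1 e
  refine (key _ _ _ (List.mem_range.2 (Fin.is_lt _)) fun k hk => ?_).symm
  have h1 := dg_code a ⟨k, List.mem_range.1 hk⟩
  rw [Nat.beq_eq, show dg (code a) k = _ from h1, show Fin.ofNat 12 i = ⟨i, hi⟩ from ofNat_val ⟨i, hi⟩]
  constructor
  · intro e
    have : a.1 ⟨k, List.mem_range.1 hk⟩ = ⟨i, hi⟩ := Fin.ext e
    rw [← this]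
    simp
  · intro e
    have : (⟨k, List.mem_range.1 hk⟩ : Fin 12) = (a⁻¹).1 ⟨i, hi⟩ := Fin.ext e
    rw [this]
    simp

theorem code_pow (a : A) (n : ℕ) : code (a ^ n) = (mulC (code a))^[n] oneC := by
  induction n with
  | zero => exact code_one
  | succ n ih => rw [pow_succ', code_mul, ih, Function.iterate_succ_apply']

theorem mem_code {l : List A} {a : A} : a ∈ l ↔ code a ∈ l.map code :=
  (List.mem_map_of_injective code_inj).symm

theorem code_t : code t = 0xba9876542301 := by decide +kernel
theorem code_c : code c = 0xba9876541032 := by decide +kernel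
theorem code_e1 : code e1 = 0xba9876543021 := by decide +kernel
theorem code_e2 : code e2 = 0xb69a78543210 := by decide +kernel
theorem code_e3 : code e3 = 0x7ab896543210 := by decide +kernel
theorem code_e4 : code e4 = 0xba9876354210 := by decide +kernel
theorem code_p : code p = 0x76ba98543210 := by decide +kernel
theorem code_z : code z = 0x76ba98543021 := by decide +kernel
theorem code_d : code d = 0x9876ba543021 := by decide +kernel
theorem code_s : code s = 0xab8967453210 := by decide +kernel
theorem code_io : code io = 0x98ba76453120 := by decide +kernel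
theorem code_r : code r = 0xba9876453120 := by decide +kernel
theorem code_r' : code r' = 0x98ba76543210 := by decide +kernel
theorem code_t' : code t' = 0xba8967543210 := by decide +kernel
theorem code_c' : code c' = 0xab9867543210 := by decide +kernel
theorem code_x1 : code x1 = 0x98ba54763210 := by decide +kernel
theorem code_x2 : code x2 = 0x7654ba983210 := by decide +kernel
theorem code_x3 : code x3 = 0x547698ba3210 := by decide +kernel
theorem code_th : code th = 0x9b57a8643210 := by decide +kernel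
def cV : List ℕ := [0xba9876543210, 0xba9876542301, 0xba9876541032, 0xba9876540123]
theorem code_lV : lV.map code = cV := by decide +kernel
def cF : List ℕ := [0xba9876543210, 0xab8967453210, 0x98ba54763210, 0x89ab45673210, 0x7654ba983210, 0x6745ab893210, 0x547698ba3210, 0x456789ab3210]
theorem code_lF : lF.map code = cF := by decide +kernel
def cE : List ℕ := [0xba9876543210, 0xba8967543210, 0xab9867543210, 0xab8976543210, 0xab8967453210, 0xab9876453210, 0xba8976453210, 0xba9867453210, 0x98ba54763210, 0x98ab45763210, 0x89ba45763210, 0x89ab54763210, 0x89ab45673210, 0x89ba54673210, 0x98ab54673210, 0x98ba45673210, 0x7654ba983210, 0x7645ab983210, 0x6754ab983210, 0x6745ba983210, 0x6745ab893210, 0x6754ba893210, 0x7645ba893210, 0x7654ab893210, 0x547698ba3210, 0x546789ba3210, 0x457689ba3210, 0x456798ba3210, 0x456789ab3210, 0x457698ab3210, 0x546798ab3210, 0x547689ab3210]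
theorem code_lE : lE.map code = cE := by decide +kernel

theorem mem_lV {a : A} : a ∈ lV ↔ code a ∈ cV := code_lV ▸ mem_code
theorem mem_lF {a : A} : a ∈ lF ↔ code a ∈ cF := code_lF ▸ mem_code
theorem mem_lE {a : A} : a ∈ lE ↔ code a ∈ cE := code_lE ▸ mem_code

/-- `a ∈ lE ↔ …`, `code` of products: after `simp only [hn3]`-like rewriting use `decide +kernel`. -/
macro "to_code" : tactic => `(tactic| simp only [Commute, SemiconjBy, code_eq, Ne, mem_lV, mem_lF,
  mem_lE, code_mul, code_inv, code_one, code_pow, commutatorElement_def, code_t, code_c, code_e1,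
  code_e2, code_e3, code_e4, code_p, code_z, code_d, code_s, code_io, code_r, code_r', code_t',
  code_c', code_x1, code_x2, code_x3, code_th])

/-- the subgroup with the elements of a list -/
def sub (l : List A) (c : List ℕ) (e : ∀ {a}, a ∈ l ↔ code a ∈ c) (h1 : oneC ∈ c)
    (h2 : ∀ x ∈ c, invC x ∈ c ∧ ∀ y ∈ c, mulC x y ∈ c) : Subgroup A where
  carrier := {a | a ∈ l}
  one_mem' := e.2 (code_one ▸ h1)
  mul_mem' ha hb := e.2 (code_mul _ _ ▸ (h2 _ (e.1 ha)).2 _ (e.1 hb))
  inv_mem' ha := e.2 (code_inv _ ▸ (h2 _ (e.1 ha)).1)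

def sV : Subgroup A := sub lV cV mem_lV (by decide +kernel) (by decide +kernel)
def sF : Subgroup A := sub lF cF mem_lF (by decide +kernel) (by decide +kernel)
def sE : Subgroup A := sub lE cE mem_lE (by decide +kernel) (by decide +kernel)
theorem mem_sV {a : A} : a ∈ sV ↔ a ∈ lV := Iff.rfl
theorem mem_sF {a : A} : a ∈ sF ↔ a ∈ lF := Iff.rfl
theorem mem_sE {a : A} : a ∈ sE ↔ a ∈ lE := Iff.rfl

/-- Example of use: generalise the codes, then decide. -/
theorem lE_comm {a b : A} (ha : a ∈ lE) (hb : b ∈ lE) : a * b = b * a ∨ a * b = b * a * s := by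
  revert ha hb
  to_code
  generalize code a = x, code b = y
  intro hx hy
  revert y; revert x
  decide +kernel

def k2 : A := mk (swap 0 6 * swap 1 8 * swap 2 10 * swap 4 5)
def k3 : A := mk (swap 0 7 * swap 1 9 * swap 2 11 * swap 4 5)
def k4 : A := mk (swap 0 3 * swap 1 4 * swap 2 5 * swap 6 7)
theorem e2_eq : e2 = k2 * e1 * k2⁻¹ := by decide +kernel
theorem e3_eq : e3 = k3 * e1 * k3⁻¹ := by decide +kernel
theorem e4_eq : e4 = k4 * e1 * k4⁻¹ := by decide +kernel

namespace St
variable {G : Type*} [Group G] {ψ : A →* G} {n : G} {L : Subgroup G} (h : St ψ n L)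
include h

theorem ninv : n⁻¹ = n * ψ s := by
  rw [← h.nn, eq_comm, ← mul_eq_one_iff_eq_inv, mul_assoc, mul_assoc, ← mul_assoc n n (n * n),
    h.nn, ← map_mul, show s * s = 1 by decide +kernel, map_one]

theorem ns : Commute n (ψ s) := h.nn ▸ (Commute.refl n).mul_right (Commute.refl n)

/-- `n (n x n⁻¹) n⁻¹ = s x s⁻¹` -/
theorem nn_conj (a : A) : n * (n * ψ a * n⁻¹) * n⁻¹ = ψ (s * a * s⁻¹) := by
  rw [map_mul, map_mul, map_inv, ← h.nn]; group

theorem np : n * ψ p * n⁻¹ = ψ e1 := by
  rw [← h.n1, h.nn_conj]; exact congrArg ψ (by decide +kernel)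

theorem cen_conj (k : A) {g : G} (hg : Commute g (ψ (k * e1 * k⁻¹))) : g ∈ ψ.range := by
  have := h.cen ((ψ k)⁻¹ * g * ψ k) (by
    simpa [mul_assoc] using hg.conj (ψ k)⁻¹)
  simpa [mul_assoc] using mul_mem (mul_mem (⟨k, rfl⟩ : ψ k ∈ ψ.range) this)
    (inv_mem (⟨k, rfl⟩ : ψ k ∈ ψ.range))

theorem cen2 {g : G} (hg : Commute g (ψ e2)) : g ∈ ψ.range :=
  h.cen_conj k2 (e2_eq ▸ hg)

theorem cen3 {g : G} (hg : Commute g (ψ e3)) : g ∈ ψ.range :=
  h.cen_conj k3 (e3_eq ▸ hg)

theorem cen4 {g : G} (hg : Commute g (ψ e4)) : g ∈ ψ.range :=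
  h.cen_conj k4 (e4_eq ▸ hg)

end St

end H16.HN3
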