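import Cfsg.Agent.H21.McC
import Cfsg.Agent.H42.McK
import Cfsg.Agent.H32.HSU
import Cfsg.Prelude.Def_SporadicB
import Cfsg.Prelude.Def_Spor_Conway

/-! Interface of the blueprint `HN3L.md`: the Harada–Norton group from the centraliser of an
element of order three (S3340). -/

set_option autoImplicit false
open Cfsg Subgroup H98 H42.L3 Equiv
open H56.L3 (Nz)
open H47.MC (V Mat Acts Coord)
open H90 (SL5)
open scoped commutatorElement Matrix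

namespace H16.HN3

universe u

local notation "Ce" => H56.L3.Ce

/-! ### Coordinates on `J = 3⁴` (basis `e₁, e₂, e₃, e₄`, form `x ⬝ᵥ x`) -/

def ve1 : V := ![1, 0, 0, 0]
def ve2 : V := ![0, 1, 0, 0]
def ve3 : V := ![0, 0, 1, 0]
def ve4 : V := ![0, 0, 0, 1]
def wz : V := ![1, 1, 1, 0]
def wd : V := ![1, -1, -1, 0]
/-- a singular vector orthogonal to `wz` and `wd` -/
def wa : V := ![0, 1, -1, 1]
/-- `e₁ ↦ e₂ + e₃`, `e₂ ↦ -e₁ + e₄`, `e₃ ↦ -e₁ - e₄`, `e₄ ↦ e₂ - e₃` -/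
def mN : Mat := !![0, -1, -1, 0; 1, 0, 0, 1; 1, 0, 0, -1; 0, 1, -1, 0]
/-- the Siegel map `x ↦ x + (x·a) u - (x·u) a + (a·a) (x·u) u` -/
def sieg (u a : V) : Mat :=
  Matrix.of fun i j => (if i = j then 1 else 0) + u i * a j - a i * u j + (a ⬝ᵥ a) * (u i * u j)
/-- the group `Γ` of order `1152` -/
def InG (M : Mat) : Prop := Mᵀ * M = M.det • (1 : Mat) ∧ M.det ≠ 0

/-! ### Elements of `A₁₂` -/

abbrev P := Perm (Fin 12)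
abbrev A := alternatingGroup (Fin 12)
/-- the 3-cycle `i ↦ j ↦ k ↦ i` -/
def cy (i j k : Fin 12) : P := swap i k * swap i j
def mk (σ : P) (h : Perm.sign σ = 1 := by decide +kernel) : A :=
  ⟨σ, Perm.mem_alternatingGroup.2 h⟩
def t : A := mk (swap 0 1 * swap 2 3)
def c : A := mk (swap 0 2 * swap 1 3)
def e1 : A := mk (cy 0 1 2)
def e2 : A := mk (cy 6 8 10)
def e3 : A := mk (cy 7 9 11)
def e4 : A := mk (cy 3 4 5)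
def p : A := e2 * e3
def z : A := e1 * p
def d : A := e1 * p⁻¹
def s : A := mk (swap 4 5 * swap 6 7 * swap 8 9 * swap 10 11)
def io : A := mk (swap 1 2 * swap 4 5 * swap 8 10 * swap 9 11)
def r : A := mk (swap 1 2 * swap 4 5)
def r' : A := mk (swap 8 10 * swap 9 11)
def t' : A := mk (swap 6 7 * swap 8 9)
def c' : A := mk (swap 6 7 * swap 10 11)
def x1 : A := mk (swap 4 6 * swap 5 7 * swap 8 10 * swap 9 11)
def x2 : A := mk (swap 4 8 * swap 5 9 * swap 6 10 * swap 7 11)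
def x3 : A := x1 * x2
/-- the 7-cycle `(5 6 8 7 10 11 9)`: `s ↦ x₁ ↦ x₂ ↦ s x₁` -/
def th : A := mk (swap 5 9 * swap 5 11 * swap 5 10 * swap 5 7 * swap 5 8 * swap 5 6)
/-- `F = 2³`, regular on `4, …, 11` -/
def lF : List A := [1, s, x1, s * x1, x2, s * x2, x3, s * x3]
def lV : List A := [1, t, c, t * c]
/-- `E₁ = 2¹⁺⁴₊ = F ⟨t', c'⟩` -/
def lE : List A := lF.flatMap fun f => [f, f * t', f * c', f * (t' * c')]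

section defs
variable {G : Type*} [Group G]

/-- §1: the structure of `C(z)`; `s = n²`. -/
structure Pre0 (S J Q L : Subgroup G) (z d n : G) (π : Ce z →* SL5) : Prop where
  bas : H21.MC.Bas S Q (Ce z) z π
  JS : J ≤ S
  Jc : J ≤ cn J
  J81 : Nat.card J = 81
  J3 : ∀ j ∈ J, j ^ 3 = 1
  dJ : d ∈ J
  dQ : d ∉ Q
  dL : d ∈ L
  nL : n ∈ L
  nd : n * d * n⁻¹ = d⁻¹
  nJ : n ∈ nr J
  ss : n * n * (n * n) = 1
  sinv : ∀ q ∈ Q, n * n * q * (n * n)⁻¹ * q ∈ zpowers z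
  Lle : L ≤ Ce z ⊓ Ce (n * n)
  Liso : Nonempty (L ≃* SL5)
  Lnor : Nz z ⊓ Ce (n * n) ≤ nr L
  czs : ∀ g ∈ Ce z ⊓ Ce (n * n), ∃ i : ℕ, ∃ l ∈ L, g = z ^ i * l
  dec : ∀ g ∈ Ce z, ∃ q ∈ Q, ∃ l ∈ L, g = q * l
  NS : ∀ g ∈ nr J ⊓ Ce z, ∃ q ∈ Q, ∃ j ∈ J, ∃ i : ℕ, g = q * j * n ^ i
  fx : ∀ q ∈ Q, ⁅d, q⁆ ∈ zpowers z ↔ q ∈ J
  nwc : ∃ g : G, g * z * g⁻¹ ∈ Q ∧ g * z * g⁻¹ ∉ zpowers z

/-- §2: coordinates. -/
structure Pre (v : V → G) (S J Q L : Subgroup G) (n : G) (π : Ce (v wz) →* SL5) : Prop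
    extends Pre0 S J Q L (v wz) (v wd) n π, Coord v J where
  aN : Acts v n mN
  vQ : ∀ x, v x ∈ Q ↔ x ⬝ᵥ wz = 0
  qact : ∀ q ∈ Q, ∃ b, b ⬝ᵥ wz = 0 ∧ Acts v q (sieg wz b)
  qreal : ∀ b, b ⬝ᵥ wz = 0 → ∃ q ∈ Q, Acts v q (sieg wz b)
  singA : ∀ x, x ⬝ᵥ wz = 0 → IsConj (v wz) (v x) → x ⬝ᵥ x = 0
  exA : IsConj (v wz) (v wa)

/-- §3: `N(J) = J : Γ`, `Γ` lifted to `C(ι)`. -/
structure Lc (v : V → G) (S J Q L : Subgroup G) (n : G) (π : Ce (v wz) →* SL5) (ι : G) : Prop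
    extends Pre v S J Q L n π where
  aI : Acts v ι (-1)
  ii : ι * ι = 1
  nI : Commute n ι
  act : ∀ g ∈ nr J, ∃ M, InG M ∧ Acts v g M
  real : ∀ M, InG M → ∃ g, Commute g ι ∧ Acts v g M
  uniq : ∀ g g' M, Commute g ι → Commute g' ι → Acts v g M → Acts v g' M → g = g'
  sing : ∀ x, IsConj (v wz) (v x) → x ⬝ᵥ x = 0
  orb0 : ∀ x, x ≠ 0 → x ⬝ᵥ x = 0 → ∃ g ∈ nr J, g * v wz * g⁻¹ = v x
  orb1 : ∀ x, x ⬝ᵥ x ≠ 0 → ∃ g ∈ nr J, g * v ve1 * g⁻¹ = v x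
  sig : ∀ R : Subgroup G, (Nat.card R).Coprime 3 → J ≤ nr R → R = ⊥

/-- §4: `C(y) = ⟨y⟩ × A₉`. -/
structure YA (y : G) (α : alternatingGroup (Fin 9) →* G) : Prop where
  inj : Function.Injective α
  le : ∀ a, Commute (α a) y
  dec : ∀ g, Commute g y → ∃ i : ℕ, ∃ a, g = y ^ i * α a

/-- §5: `ψ` is compatible with the coordinates. -/
structure Cp (v : V → G) (n ι : G) (ψ : A →* G) : Prop where
  inj : Function.Injective ψ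
  cen : ∀ g, Commute g (ψ e1) → g ∈ ψ.range
  p1 : ψ e1 = v ve1
  p2 : ψ e2 = v ve2
  p3 : ψ e3 = v ve3
  p4 : ψ e4 = v ve4
  ps : ψ s = n * n
  pi : ψ io = ι

/-- The data used in §§7–13. -/
structure St (ψ : A →* G) (n : G) (L : Subgroup G) : Prop where
  inj : Function.Injective ψ
  cen : ∀ g, Commute g (ψ e1) → g ∈ ψ.range
  n1 : n * ψ e1 * n⁻¹ = ψ p
  n2 : n * ψ e2 * n⁻¹ = ψ (e1⁻¹ * e4)
  n3 : n * ψ e3 * n⁻¹ = ψ (e1⁻¹ * e4⁻¹)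
  n4 : n * ψ e4 * n⁻¹ = ψ (e2 * e3⁻¹)
  nn : n * n = ψ s
  ni : Commute n (ψ io)
  zy : ¬ IsConj (ψ z) (ψ e1)
  Lle : L ≤ Ce (ψ z) ⊓ Ce (ψ s)
  Liso : Nonempty (L ≃* SL5)
  nL : n ∈ L
  dL : ψ d ∈ L
  czs : ∀ g ∈ Ce (ψ z) ⊓ Ce (ψ s), ∃ i : ℕ, ∃ l ∈ L, g = ψ z ^ i * l

/-- §7: the action of `n` on involutions. -/
structure B1 (ψ : A →* G) (n : G) : Prop where
  nt : n * ψ t * n⁻¹ = ψ t'
  nc : n * ψ c * n⁻¹ = ψ c'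
  nr : n * ψ r * n⁻¹ = ψ r'
  ts : ¬ IsConj (ψ t) (ψ s)

/-- §8: `C(V₀) ≤ A₁₂`. -/
def B2 (ψ : A →* G) : Prop := ∀ g, Commute g (ψ t) → Commute g (ψ c) → g ∈ ψ.range

/-- §9: `E₁` commutes with `E₂ = n E₁ n⁻¹`. -/
def EE (ψ : A →* G) (n : G) : Prop := ∀ a ∈ lE, ∀ b ∈ lE, Commute (ψ a) (n * ψ b * n⁻¹)

/-- `g ∈ F` -/
def InF (ψ : A →* G) (g : G) : Prop := ∃ f ∈ lF, g = ψ f

/-- `g ∈ C(F)` -/
def CF (ψ : A →* G) (g : G) : Prop := Commute g (ψ s) ∧ Commute g (ψ x1) ∧ Commute g (ψ x2)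

/-- `g ∈ C₁` -/
def C1 (ψ : A →* G) (g : G) : Prop := CF ψ g ∧ InF ψ ⁅g, ψ t⁆ ∧ InF ψ ⁅g, ψ c⁆

/-- §10: the group `C₁ = 2³⁺²⁺⁶`. -/
structure Cf (ψ : A →* G) (n : G) : Prop where
  mul : ∀ g h, C1 ψ g → C1 ψ h → C1 ψ (g * h)
  inv : ∀ g, C1 ψ g → C1 ψ g⁻¹
  /-- `δ` is a homomorphism -/
  hom : ∀ g h, C1 ψ g → C1 ψ h → ∀ w ∈ lV, ⁅g * h, ψ w⁆ = ⁅g, ψ w⁆ * ⁅h, ψ w⁆
  nor : ∀ a ∈ [e1, p, r', th, t', c', x1, x2], ∀ g, C1 ψ g → C1 ψ (ψ a * g * (ψ a)⁻¹)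
  E2 : ∀ a ∈ lE, C1 ψ (n * ψ a * n⁻¹)
  real : ∀ f ∈ lF, ∀ f' ∈ lF, ∃ g, C1 ψ g ∧ ⁅g, ψ t⁆ = ψ f ∧ ⁅g, ψ c⁆ = ψ f'
  ker : ∀ g, CF ψ g → Commute g (ψ t) → Commute g (ψ c) → ∃ w ∈ lV, ∃ f ∈ lF, g = ψ (w * f)
  /-- `δ⁻¹ (Hom (V₀, ⟨s⟩)) = E₂ F` -/
  rk : ∀ g, C1 ψ g → ⁅g, ψ t⁆ ∈ zpowers (ψ s) → ⁅g, ψ c⁆ ∈ zpowers (ψ s) →
    ∃ a ∈ lE, ∃ f ∈ lF, g = n * ψ a * n⁻¹ * ψ f
  comm : ∀ g h, C1 ψ g → C1 ψ h → InF ψ ⁅g, h⁆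
  sq : ∀ g, C1 ψ g → InF ψ (g * g)
  /-- Lemma R2 -/
  r2 : ∀ a ∈ lE, Commute (n * ψ a * n⁻¹) (ψ t) → ¬ Commute (n * ψ a * n⁻¹) (ψ c) →
    ∀ g, C1 ψ g → ⁅g, ψ t⁆ = ψ x1 → Commute g (ψ c) →
      ∃ f ∈ [x2, s * x2, x3, s * x3], ⁅n * ψ a * n⁻¹, g⁆ = ψ f

/-- §11: `C(F) ∩ C(t) ≤ C₁`. -/
def Full (ψ : A →* G) : Prop := ∀ g, CF ψ g → Commute g (ψ t) → C1 ψ g

/-- `g ∈ A = 2 × 4³` -/
def InA (ψ : A →* G) (g : G) : Prop := C1 ψ g ∧ Commute g (ψ t) ∧ g * g = ⁅g, ψ c⁆ ∧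
  (g * g = 1 → ∃ f ∈ lF, g = ψ f ∨ g = ψ (t * f))

/-- §12: `A` is abelian of index two in `C₁ ∩ C(t)`. -/
structure Ab (ψ : A →* G) : Prop where
  ab : ∀ g h, InA ψ g → InA ψ h → Commute g h
  alt : ∀ g, C1 ψ g → Commute g (ψ t) → InA ψ g ∨ InA ψ (g * ψ c)

/-- §13: generators of `A` on which `y = c'` and `a = r'` act, modulo `t`, as in `H32.HS.U`. -/
structure Md (ψ : A →* G) (P Q R : G) : Prop where
  aP : InA ψ P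
  aQ : InA ψ Q
  aR : InA ψ R
  PQ : Commute P Q
  PR : Commute P R
  QR : Commute Q R
  PP : P * P = ψ s
  QQ : Q * Q = ψ x2
  RR : R * R = ψ x3
  yP : ψ c' * P * (ψ c')⁻¹ * P⁻¹ ∈ zpowers (ψ t)
  yQ : ψ c' * Q * (ψ c')⁻¹ * Q ∈ zpowers (ψ t)
  yR : ψ c' * R * (ψ c')⁻¹ * (P ^ 3 * Q ^ 2 * R ^ 3)⁻¹ ∈ zpowers (ψ t)
  rP : ψ r' * P * (ψ r')⁻¹ * P ∈ zpowers (ψ t)
  rQ : ψ r' * Q * (ψ r')⁻¹ * R⁻¹ ∈ zpowers (ψ t)
  rR : ψ r' * R * (ψ r')⁻¹ * Q⁻¹ ∈ zpowers (ψ t)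
  span : ∀ g, C1 ψ g → Commute g (ψ t) →
    ∃ i j k : ℕ, ∃ w ∈ lV, g = P ^ i * Q ^ j * R ^ k * ψ w
  /-- `A ≤ [A, θ] ⟨t⟩` -/
  per : ∀ g ∈ [P, Q, R], ∃ h, InA ψ h ∧ g⁻¹ * ⁅ψ th, h⁆ ∈ zpowers (ψ t)

/-- `X = C(t) / ⟨t⟩` with the Sylow `2`-subgroup `φ(U) ⟨κ⟩`, `κ` the image of `c` -/
structure Sy {X : Type*} [Group X] (φ : H32.HS.U →* X) (κ : X) : Prop where
  inj : Function.Injective φ
  kk : κ * κ = 1
  kU : κ ∉ φ.range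
  kA : ∀ a ∈ [H32.HS.ei, H32.HS.gq, H32.HS.gr], κ * φ a * κ⁻¹ = (φ a)⁻¹
  kD : ∀ a ∈ [H32.HS.u2, H32.HS.ea], Commute κ (φ a)

end defs

/-- §1 -/
def JobP0 : Prop := ∀ (G : Type u) [Group G] [Finite G] (S : Sylow 3 G) (Z : Subgroup G)
  (_ : Z = (S : Subgroup G) ⊓ centralizer ((S : Subgroup G) : Set G))
  (C : Subgroup G) (_ : C = centralizer (Z : Set G))
  (Q : Subgroup G) (_ : Q = (pCore 3 C).map C.subtype)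
  (_ : IsExtraspecial 3 Q) (_ : Nat.card Q = 3 ^ 5) (_ : ∀ a ∈ Q, a ^ 3 = 1)
  (_ : centralizer (Q : Set G) ≤ Q)
  (_ : ∃ x : G, Z.map (MulAut.conj x).toMonoidHom ≤ Q ∧ Z.map (MulAut.conj x).toMonoidHom ≠ Z)
  (_ : C ⧸ pCore 3 C ≃* SL5), ∃ J L z d n π, Pre0 (S : Subgroup G) J Q L z d n π

/-- §2 -/
def JobP : Prop := ∀ (G : Type u) [Group G] [Finite G] (S J Q L : Subgroup G) (z d n : G)
  (π : Ce z →* SL5), Pre0 S J Q L z d n π → ∃ v n' π', Pre v S J Q L n' π'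

/-- §3 -/
def JobL : Prop := ∀ (G : Type u) [Group G] [Finite G] (v : V → G) (S J Q L : Subgroup G) (n : G)
  (π : Ce (v wz) →* SL5), Pre v S J Q L n π → ∃ ι, Lc v S J Q L n π ι

/-- §4a: `C(y)` does not normalise `J`. -/
def JobY1 : Prop := ∀ (G : Type u) [Group G] [Finite G] (v : V → G) (S J Q L : Subgroup G) (n : G)
  (π : Ce (v wz) →* SL5) (ι : G), Lc v S J Q L n π ι → ¬ Ce (v ve1) ≤ nr J

/-- §4b -/
def JobY2 : Prop := ∀ (G : Type u) [Group G] [Finite G] (v : V → G) (S J Q L : Subgroup G) (n : G)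
  (π : Ce (v wz) →* SL5) (ι : G), Lc v S J Q L n π ι → ¬ Ce (v ve1) ≤ nr J →
  ∃ α, YA (v ve1) α

/-- §5 -/
def JobA : Prop := ∀ (G : Type u) [Group G] [Finite G] (v : V → G) (S J Q L : Subgroup G) (n : G)
  (π : Ce (v wz) →* SL5) (ι : G) (α : alternatingGroup (Fin 9) →* G), Lc v S J Q L n π ι →
  YA (v ve1) α → ∃ ψ, Cp v n ι ψ

/-- §6 -/
def JobS : Prop := ∀ (G : Type u) [Group G] [Finite G] (v : V → G) (S J Q L : Subgroup G) (n : G)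
  (π : Ce (v wz) →* SL5) (ι : G) (ψ : A →* G), Lc v S J Q L n π ι → Cp v n ι ψ → IsSimpleGroup G

/-- §7 -/
def JobB1 : Prop := ∀ (G : Type u) [Group G] [Finite G] (ψ : A →* G) (n : G) (L : Subgroup G),
  St ψ n L → B1 ψ n

/-- §8 -/
def JobB2 : Prop := ∀ (G : Type u) [Group G] [Finite G] (ψ : A →* G) (n : G) (L : Subgroup G),
  St ψ n L → B1 ψ n → B2 ψ

/-- §9 -/
def JobE : Prop := ∀ (G : Type u) [Group G] [Finite G] (ψ : A →* G) (n : G) (L : Subgroup G),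
  St ψ n L → B1 ψ n → B2 ψ → EE ψ n

/-- §10 -/
def JobC : Prop := ∀ (G : Type u) [Group G] [Finite G] (ψ : A →* G) (n : G) (L : Subgroup G),
  St ψ n L → B1 ψ n → B2 ψ → EE ψ n → Cf ψ n

/-- §11 -/
def JobF : Prop := ∀ (G : Type u) [Group G] [Finite G] (ψ : A →* G) (n : G) (L : Subgroup G),
  St ψ n L → B1 ψ n → EE ψ n → Cf ψ n → Full ψ

/-- §12 -/
def JobQ : Prop := ∀ (G : Type u) [Group G] [Finite G] (ψ : A →* G) (n : G) (L : Subgroup G),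
  St ψ n L → B1 ψ n → EE ψ n → Cf ψ n → Ab ψ

/-- §13 -/
def JobM : Prop := ∀ (G : Type u) [Group G] [Finite G] (ψ : A →* G) (n : G),
  Function.Injective ψ → Cf ψ n → Ab ψ → ∃ P Q R, Md ψ P Q R

/-- §14a: an element normalising `φ(U) ⟨κ⟩` normalises `φ(V)`. -/
def JobT1 : Prop := ∀ (X : Type u) [Group X] [Finite X] (φ : H32.HS.U →* X) (κ : X), Sy φ κ →
  nr (φ.range ⊔ zpowers κ) ≤ nr (H32.HS.V.map φ)

/-- §14b: Thompson transfer. -/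
def JobT2 : Prop := ∀ (X : Type u) [Group X] [Finite X] (φ : H32.HS.U →* X) (κ : X), Sy φ κ →
  IsSyl 2 (φ.range ⊔ zpowers κ) ⊤ → (∀ g : X, g * κ * g⁻¹ ∉ H32.HS.V.map φ) →
  256 ∣ Nat.card (Ce κ) → ∃ N : Subgroup X, N.Normal ∧ N.index = 2 ∧ κ ∉ N

/-- the image of `g ∈ C(t)` in `C(t) / ⟨t⟩` -/
abbrev Kb {G : Type*} [Group G] (t : G) := Ce t ⧸ (zpowers t).subgroupOf (Ce t)

instance {G : Type*} [Group G] (t : G) : ((zpowers t).subgroupOf (Ce t)).Normal :=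
  ⟨fun x ⟨k, hk⟩ g => ⟨k, hk.trans (by
    have : Commute (g : G) x := (show t ^ k = x from hk) ▸
      (show Commute (g : G) t from H42.L3.mem_Ce.1 g.2).zpow_right k
    exact (mul_inv_eq_iff_eq_mul.2 this.eq).symm)⟩⟩

/-- §15: the Sylow `2`-subgroup of `C(t) / ⟨t⟩`. -/
structure Sk {G : Type*} [Group G] (ψ : A →* G) (P Q R : G) (φ : H32.HS.U →* Kb (ψ t))
    (κ : Kb (ψ t)) : Prop extends Sy φ κ where
  syl : IsSyl 2 (φ.range ⊔ zpowers κ) ⊤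
  hk : ∀ g : Ce (ψ t), (g : G) = ψ c → κ = g
  gen : ∀ x ∈ [(H32.HS.ei, P), (H32.HS.gq, Q), (H32.HS.gr, R), (H32.HS.u2, ψ c'),
    (H32.HS.ea, ψ r')], ∀ g : Ce (ψ t), (g : G) = x.2 → φ x.1 = g
  /-- `N(F̄) = Ā Λ̄ ⟨κ⟩` -/
  nV : ∀ g : Ce (ψ t), (g : Kb (ψ t)) ∈ nr (H32.HS.V.map φ) → ∃ i j k : ℕ, ∃ w ∈ lV, ∃ a : A,
    (∀ x : Fin 12, x.val < 4 → a.1 x = x) ∧ (g : G) = P ^ i * Q ^ j * R ^ k * ψ w * ψ a
  nf : ∀ g : Kb (ψ t), g * κ * g⁻¹ ∉ H32.HS.V.map φ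

/-- §15 -/
def JobU : Prop := JobT1.{u} → ∀ (G : Type u) [Group G] [Finite G] (ψ : A →* G) (n : G)
  (P Q R : G), Function.Injective ψ → B1 ψ n → Full ψ → Md ψ P Q R → ∃ φ κ, Sk ψ P Q R φ κ

/-- §16 -/
def JobK : Prop := JobT2.{u} → ∀ (G : Type u) [Group G] [Finite G] (ψ : A →* G) (n : G)
  (P Q R : G) (φ : H32.HS.U →* Kb (ψ t)) (κ : Kb (ψ t)), Function.Injective ψ → B1 ψ n → B2 ψ →
  (∀ g, Commute g (ψ e1) → g ∈ ψ.range) → Full ψ → Md ψ P Q R → Sk ψ P Q R φ κ →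
  ∃ M : Subgroup (Ce (ψ t)), M.Normal ∧ M.index = 2 ∧ centralizer (M : Set (Ce (ψ t))) ≤ M ∧
    IsNonsplitDoubleCover M Spor.HS

/-- row S1674 -/
def R1674 : Prop := ∀ (G : Type u) [Group G] [Finite G] [IsSimpleGroup G] (t : G)
  (_ : orderOf t = 2) (M : Subgroup (centralizer ({t} : Set G))) [M.Normal] (_ : M.index = 2)
  (_ : centralizer (M : Set (centralizer ({t} : Set G))) ≤ M)
  (_ : IsNonsplitDoubleCover M Spor.HS), Spor.IsoHN G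

theorem st_of {G : Type*} [Group G] {v : V → G} {S J Q L : Subgroup G} {n : G}
    {π : Ce (v wz) →* SL5} {ι : G} {ψ : A →* G} (h : Lc v S J Q L n π ι) (k : Cp v n ι ψ) :
    St ψ n L := by
  have C := h.toCoord
  have hz : ψ z = v wz := by
    rw [z, p, map_mul, map_mul, k.p1, k.p2, k.p3, ← C.add, ← C.add]
    exact congrArg v (by decide)
  have hd : ψ d = v wd := by
    rw [d, p, map_mul, map_inv, map_mul, k.p1, k.p2, k.p3, ← C.add, ← H42.MC.v_neg C, ← C.add]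
    exact congrArg v (by decide)
  refine ⟨k.inj, k.cen, ?_, ?_, ?_, ?_, k.ps.symm, k.pi ▸ h.nI, fun e => ?_, ?_, h.Liso, h.nL,
    hd ▸ h.dL, ?_⟩
  · rw [p, map_mul, k.p1, k.p2, k.p3, h.aN, ← C.add]
    exact congrArg v (by decide)
  · rw [map_mul, map_inv, k.p1, k.p2, k.p4, h.aN, ← H42.MC.v_neg C, ← C.add]
    exact congrArg v (by decide)
  · rw [map_mul, map_inv, map_inv, k.p1, k.p3, k.p4, h.aN, ← H42.MC.v_neg C, ← H42.MC.v_neg C,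
      ← C.add]
    exact congrArg v (by decide)
  · rw [map_mul, map_inv, k.p2, k.p3, k.p4, h.aN, ← H42.MC.v_neg C, ← C.add]
    exact congrArg v (by decide)
  · rw [hz, k.p1] at e
    exact absurd (h.sing _ e) (by decide)
  · rw [hz, k.ps]; exact h.Lle
  · rw [hz, k.ps]; exact h.czs

theorem main (p0 : JobP0.{u}) (p1 : JobP.{u}) (l : JobL.{u}) (y1 : JobY1.{u}) (y2 : JobY2.{u})
    (a : JobA.{u}) (sm : JobS.{u}) (b1 : JobB1.{u}) (b2 : JobB2.{u}) (e : JobE.{u})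
    (cf : JobC.{u}) (f : JobF.{u}) (q : JobQ.{u}) (m : JobM.{u}) (t1 : JobT1.{u}) (t2 : JobT2.{u})
    (ju : JobU.{u}) (k : JobK.{u}) (fin : R1674.{u})
    {G : Type u} [Group G] [Finite G] (S : Sylow 3 G) (Z : Subgroup G)
    (hZ : Z = (S : Subgroup G) ⊓ centralizer ((S : Subgroup G) : Set G))
    (C : Subgroup G) (hC : C = centralizer (Z : Set G))
    (Q : Subgroup G) (hQ : Q = (pCore 3 C).map C.subtype)
    (h1 : IsExtraspecial 3 Q) (h2 : Nat.card Q = 3 ^ 5) (h3 : ∀ a ∈ Q, a ^ 3 = 1)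
    (h4 : centralizer (Q : Set G) ≤ Q)
    (h5 : ∃ x : G, Z.map (MulAut.conj x).toMonoidHom ≤ Q ∧ Z.map (MulAut.conj x).toMonoidHom ≠ Z)
    (h6 : C ⧸ pCore 3 C ≃* SL5) : Spor.IsoHN G := by
  obtain ⟨J, L, z, d, n, π, H0⟩ := p0 G S Z hZ C hC Q hQ h1 h2 h3 h4 h5 h6
  obtain ⟨v, n, π, H1⟩ := p1 G _ _ _ _ _ _ _ _ H0
  obtain ⟨ι, H⟩ := l G _ _ _ _ _ _ _ H1
  obtain ⟨α, Y⟩ := y2 G _ _ _ _ _ _ _ _ H (y1 G _ _ _ _ _ _ _ _ H)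
  obtain ⟨ψ, K⟩ := a G _ _ _ _ _ _ _ _ _ H Y
  have := sm G _ _ _ _ _ _ _ _ _ H K
  have T := st_of H K
  have hb1 := b1 G _ _ _ T
  have hb2 := b2 G _ _ _ T hb1
  have he := e G _ _ _ T hb1 hb2
  have hc := cf G _ _ _ T hb1 hb2 he
  have hf := f G _ _ _ T hb1 he hc
  obtain ⟨P, Q', R, hm⟩ := m G _ _ T.inj hc (q G _ _ _ T hb1 he hc)
  obtain ⟨φ, κ, hs⟩ := ju t1 G _ _ _ _ _ T.inj hb1 hf hm
  obtain ⟨M, _, m2, m3, m4⟩ := k t2 G _ _ _ _ _ _ _ T.inj hb1 hb2 T.cen hf hm hs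
  refine fin G (ψ t) (orderOf_eq_prime ?_ ?_) M m2 m3 m4
  · rw [← map_pow, ← map_one ψ]
    exact congrArg ψ (by decide +kernel)
  · rw [← map_one ψ]
    exact T.inj.ne (by decide +kernel)

end H16.HN3
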