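import Cfsg.Agent.H41.ItSpec

/-! Tower IT (S3193, S3194): slot `WI`. -/

set_option autoImplicit false
set_option maxHeartbeats 200000

namespace H16.ItWI

open Subgroup MulAction

universe u

variable {G : Type*} [Group G] {A B : Subgroup G}

theorem eq_one (hi : A ⊓ B = ⊥) {x : G} (h1 : x ∈ A) (h2 : x ∈ B) : x = 1 :=
  mem_bot.1 (hi ▸ mem_inf.2 ⟨h1, h2⟩)

theorem inj (hi : A ⊓ B = ⊥) {b b' : G} (h1 : b ∈ B) (h2 : b' ∈ B)
    (h : (b : G ⧸ A) = (b' : G ⧸ A)) : b = b' :=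
  inv_mul_eq_one.1 (eq_one hi (QuotientGroup.eq.1 h) (mul_mem (inv_mem h1) h2))

theorem surj [Finite G] (hi : A ⊓ B = ⊥) (hc : Nat.card B = A.index) (x : G ⧸ A) :
    ∃ b ∈ B, (b : G ⧸ A) = x := by
  have h1 : Function.Injective fun b : B => ((b : G) : G ⧸ A) := fun b b' h =>
    Subtype.ext (inj hi b.2 b'.2 h)
  obtain ⟨b, hb⟩ := (h1.bijective_of_nat_card_le (le_of_eq hc.symm)).2 x
  exact ⟨b, b.2, hb⟩

theorem card_N [Finite G] (hi : A ⊓ B = ⊥) (hc : Nat.card B = A.index) :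
    Nat.card (normalizer (B : Set G)) =
      Nat.card ↥(normalizer (B : Set G) ⊓ A) * Nat.card B := by
  rw [mul_comm, ← Nat.card_prod]
  refine (Nat.card_eq_of_bijective (fun p : B × ↥(normalizer (B : Set G) ⊓ A) =>
    (⟨p.1 * p.2, mul_mem (le_normalizer p.1.2) p.2.2.1⟩ : normalizer (B : Set G))) ⟨?_, ?_⟩).symm
  · rintro ⟨b, e⟩ ⟨b', e'⟩ h
    have h1 : (b : G) * e = b' * e' := congrArg Subtype.val h
    have h2 : (b : G) = b' := inj hi b.2 b'.2 (by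
      rw [← QuotientGroup.mk_mul_of_mem (b : G) e.2.2, h1, QuotientGroup.mk_mul_of_mem _ e'.2.2])
    rw [h2] at h1
    exact Prod.ext (Subtype.ext h2) (Subtype.ext (mul_left_cancel h1))
  · intro n
    obtain ⟨b, hb, h⟩ := surj hi hc (n : G)
    have h1 : b⁻¹ * n ∈ normalizer (B : Set G) := mul_mem (inv_mem (le_normalizer hb)) n.2
    exact ⟨(⟨b, hb⟩, ⟨b⁻¹ * n, h1, QuotientGroup.eq.1 h⟩),
      Subtype.ext (by simp)⟩

theorem conj_mem {e b : G} (he : e ∈ normalizer (B : Set G)) (hb : b ∈ B) : e * b * e⁻¹ ∈ B :=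
  (mem_normalizer_iff.1 he b).1 hb

theorem mk_conj {e : G} (he : e ∈ A) (b : G) : ((e * b * e⁻¹ : G) : G ⧸ A) = (e * b : G) :=
  QuotientGroup.mk_mul_of_mem _ (inv_mem he)

theorem fix_one (hB : H66.IsCC B) (hi : A ⊓ B = ⊥) {e b : G} (he : e ∈ A) (hb : b ∈ B)
    (h1 : b ≠ 1) (h : e * b * e⁻¹ = b) : e = 1 :=
  eq_one hi he (hB.mem_of_commute hb h1 (mul_inv_eq_iff_eq_mul.1 h))

/-- The orbits of `A` are the orbits of `N(B) ∩ A`. -/
theorem orb [Finite G] (hB : H66.IsCC B) (hi : A ⊓ B = ⊥)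
    (ho : ∀ b : G ⧸ A, b ≠ ((1 : G) : G ⧸ A) → Nat.card (orbit (stabilizer G ((1 : G) : G ⧸ A)) b) =
      Nat.card ↥(normalizer (B : Set G) ⊓ A)) {a b : G} (ha : a ∈ A) (hb : b ∈ B) :
    ∃ e ∈ normalizer (B : Set G) ⊓ A, ((a * b : G) : G ⧸ A) = (e * b * e⁻¹ : G) := by
  by_cases h1 : b = 1
  · exact ⟨1, one_mem _, by
      rw [h1, mul_one, mul_one, inv_one, mul_one, QuotientGroup.eq]; simpa using ha⟩
  have hs : ∀ {x : G}, x ∈ A → x ∈ stabilizer G ((1 : G) : G ⧸ A) := fun h => by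
    rwa [stabilizer_quotient]
  have h2 : Function.Injective fun e : ↥(normalizer (B : Set G) ⊓ A) =>
      (⟨((e * b : G) : G ⧸ A), ⟨⟨e, hs e.2.2⟩, rfl⟩⟩ :
        orbit (stabilizer G ((1 : G) : G ⧸ A)) (b : G ⧸ A)) := fun e e' h => by
    have h3 : ((e * b : G) : G ⧸ A) = (e' * b : G) := congrArg Subtype.val h
    rw [← mk_conj e.2.2, ← mk_conj e'.2.2] at h3
    have h4 := inj hi (conj_mem e.2.1 hb) (conj_mem e'.2.1 hb) h3
    refine Subtype.ext (inv_mul_eq_one.1 (fix_one hB hi (mul_mem (inv_mem e.2.2) e'.2.2) hb h1 ?_))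
    calc (e : G)⁻¹ * e' * b * ((e : G)⁻¹ * e')⁻¹ = (e : G)⁻¹ * (e' * b * (e' : G)⁻¹) * e := by group
      _ = b := by rw [← h4]; group
  obtain ⟨e, he⟩ := (h2.bijective_of_nat_card_le
    (le_of_eq (ho _ fun h => h1 (inj hi hb (one_mem _) h)))).2 ⟨(a * b : G), ⟨⟨a, hs ha⟩, rfl⟩⟩
  exact ⟨e, e.2, by rw [mk_conj e.2.2]; exact (congrArg Subtype.val he).symm⟩

theorem step (hB : H66.IsCC B) (hi : A ⊓ B = ⊥)
    (hR : ∀ a ∈ A, ∀ b ∈ B, ∃ e ∈ normalizer (B : Set G) ⊓ A,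
      ((a * b : G) : G ⧸ A) = (e * b * e⁻¹ : G)) {s : ℕ} {a b c : G} (ha : a ∈ A) (hb : b ∈ B)
    (hc : c ∈ B) (h1 : b ^ s ≠ 1) (h2 : c ^ s = 1) (h : ((a * b : G) : G ⧸ A) = b) :
    ((a * (b * c) : G) : G ⧸ A) = (b * c : G) := by
  have h3 : b⁻¹ * (a * b) ∈ A := QuotientGroup.eq.1 h.symm
  obtain ⟨e, he, h4⟩ := hR _ h3 c hc
  obtain ⟨e', he', h5⟩ := hR a ha (b * c) (mul_mem hb hc)
  have h6 : ((a * (b * c) : G) : G ⧸ A) = (b * (e * c * e⁻¹) : G) := by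
    have := congrArg (b • ·) h4
    simp only [Quotient.smul_mk, smul_eq_mul] at this
    rw [← this]; congr 1; group
  have h7 := inj hi (conj_mem he'.1 (mul_mem hb hc)) (mul_mem hb (conj_mem he.1 hc))
    (h5.symm.trans h6)
  have h8 := congrArg (· ^ s) h7
  have c1 : Commute b c := hB.comm hc hb
  have c2 : Commute b (e * c * e⁻¹) := hB.comm (conj_mem he.1 hc) hb
  simp only [conj_pow, c1.mul_pow, c2.mul_pow, h2, mul_one, mul_inv_cancel] at h8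
  rw [h5, fix_one hB hi he'.2 (pow_mem hb s) h1 h8]; simp

theorem step2 (hB : H66.IsCC B) (hi : A ⊓ B = ⊥)
    (hR : ∀ a ∈ A, ∀ b ∈ B, ∃ e ∈ normalizer (B : Set G) ⊓ A,
      ((a * b : G) : G ⧸ A) = (e * b * e⁻¹ : G)) {s : ℕ} {a b c : G} (ha : a ∈ A) (hb : b ∈ B)
    (hc : c ∈ B) (h1 : b ^ s ≠ 1) (h2 : c ^ s = 1) (h : ((a * b : G) : G ⧸ A) = b) :
    ((a * c : G) : G ⧸ A) = c := by
  have h3 : b⁻¹ * (a * b) ∈ A := QuotientGroup.eq.1 h.symm
  have h4 := step hB hi hR h3 (inv_mem hb) hc (by simpa using h1) h2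
    (by rw [mul_assoc, mul_inv_cancel_right, QuotientGroup.mk_mul_of_mem _ ha])
  have := congrArg (b • ·) h4
  simp only [Quotient.smul_mk, smul_eq_mul] at this
  simpa [mul_assoc] using this

theorem jobWI : H41.IT.JobWI.{u} := by
  intro G _ _ _ hna A B hB hi hc hp e he ho
  have hB1 : Nat.card B ≠ 1 := hp 2 0 Nat.prime_two
  have hE : Nat.card ↥(normalizer (B : Set G) ⊓ A) = e :=
    Nat.eq_of_mul_eq_mul_right Nat.card_pos ((card_N hi hc).symm.trans he)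
  have hR := fun a (ha : a ∈ A) b (hb : b ∈ B) => orb hB hi (hE ▸ ho) ha hb
  obtain ⟨s, hs, hd⟩ := Nat.exists_prime_and_dvd hB1
  have := Fact.mk hs
  obtain ⟨c, hcs⟩ := exists_prime_orderOf_dvd_card' s hd
  have c1 : (c : G) ≠ 1 := fun h => hs.one_lt.ne' (by rw [← hcs, show c = 1 from Subtype.ext h]; simp)
  have c2 : (c : G) ^ s = 1 := by rw [← hcs]; exact_mod_cast pow_orderOf_eq_one c
  obtain ⟨b, hb, b1⟩ : ∃ b ∈ B, b ^ s ≠ 1 := by
    by_contra h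
    push Not at h
    obtain ⟨k, hk⟩ := IsPGroup.iff_card.1
      (show IsPGroup s B from fun g => ⟨1, Subtype.ext (by simpa using h g g.2)⟩)
    exact hp s k hs hk
  have hA : stabilizer G ((1 : G) : G ⧸ A) = A := stabilizer_quotient A
  have ne : ∀ x ∈ B, x ≠ 1 → (x : G ⧸ A) ≠ ((1 : G) : G ⧸ A) := fun x hx h1 h =>
    h1 (inj hi hx (one_mem _) h)
  have cd : ∀ x ∈ B, x ≠ 1 → Nat.card (stabilizer (stabilizer G ((1 : G) : G ⧸ A)) (x : G ⧸ A)) * e =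
      Nat.card (stabilizer G ((1 : G) : G ⧸ A)) := fun x hx h1 => by
    rw [← ho _ (ne x hx h1), Nat.card_coe_set_eq, ← index_stabilizer, card_mul_index]
  have e0 : 0 < e := hE ▸ Nat.card_pos
  have le : ∀ x ∈ B, x ^ s ≠ 1 → ∀ y ∈ B, y ^ s = 1 →
      stabilizer (stabilizer G ((1 : G) : G ⧸ A)) (x : G ⧸ A) ≤ stabilizer _ (y : G ⧸ A) :=
    fun x hx h1 y hy h2 a ha => step2 hB hi hR (hA.le a.2) hx hy h1 h2 ha
  have eq : ∀ x ∈ B, x ^ s ≠ 1 →
      stabilizer (stabilizer G ((1 : G) : G ⧸ A)) (x : G ⧸ A) = stabilizer _ ((c : G) : G ⧸ A) :=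
    fun x hx h1 => eq_of_le_of_card_ge (le x hx h1 c c.2 c2) (le_of_eq
      (Nat.eq_of_mul_eq_mul_right e0 ((cd c c.2 c1).trans
        (cd x hx fun h => h1 (by rw [h, one_pow])).symm)))
  have core : A.normalCore = ⊥ :=
    (IsSimpleGroup.eq_bot_or_eq_top_of_normal A.normalCore inferInstance).resolve_right fun h =>
    hB1 (by rw [hc, index_eq_one]; exact top_le_iff.1 (h ▸ A.normalCore_le))
  have K : stabilizer (stabilizer G ((1 : G) : G ⧸ A)) ((c : G) : G ⧸ A) = ⊥ := by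
    refine (eq_bot_iff_forall _).2 fun a ha => Subtype.ext (mem_bot.1 ?_)
    rw [← core, normalCore_eq_ker, MonoidHom.mem_ker]
    ext x
    obtain ⟨y, hy, rfl⟩ := surj hi hc x
    by_cases h : y ^ s = 1
    · exact le b hb b1 y hy h ((eq b hb b1).ge ha)
    · exact (eq y hy h).ge ha
  have h1 := cd c c.2 c1
  rw [K, card_bot, one_mul, hA] at h1
  have h2 : normalizer (B : Set G) = ⊤ := by
    rw [← card_eq_iff_eq_top, he, h1, hc, card_mul_index]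
  rcases IsSimpleGroup.eq_bot_or_eq_top_of_normal B (normalizer_eq_top_iff.1 h2) with h | h
  · exact hB1 (by rw [h, card_bot])
  · exact hna ⟨⟨fun x y => hB.comm (h ▸ mem_top y) (h ▸ mem_top x)⟩⟩

end H16.ItWI
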