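/- Upper bounds for the Schur multiplier of `M21 = L3(4)`. -/
import Cfsg.Agent.H81.R24
import Cfsg.Agent.H72.Lin
set_option maxRecDepth 1000000
set_option Elab.async false
namespace H16
theorem allIn21 {gs : List ℕ}
    (h : gs.all (fun s => H72.inM24 s && H72.fixes [1, 0, 23] s) = true) :
    H72.AllIn (H72.pstab Cfsg.M24 [1, 0, 23]) gs := fun s hs => by
  have := List.all_eq_true.1 h s hs
  rw [Bool.and_eq_true] at this
  exact ⟨(H72.inM24_spec this.1).1, H72.mem_pstab_of_fixes (H72.inM24_spec this.1).1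
    (H72.inM24_spec this.1).2 (by decide) this.2⟩
end H16
namespace H16.M21P2
open H71 H81
noncomputable def x2_0 : ℕ := 0xf0a
noncomputable def x2_1 : ℕ := 0x8
noncomputable def x2_2 : ℕ := 0x2002
noncomputable def x2_3 : ℕ := 0x9
noncomputable def x2_4 : ℕ := 0x241049
noncomputable def x2_5 : ℕ := 0x40001
noncomputable def x2_6 : ℕ := 0x820c4
noncomputable def x2_7 : ℕ := 0x35006
noncomputable def x2_8 : ℕ := 0xcaa
noncomputable def x2 : Net := .cons 12 x2_0 <| .cons 6 x2_1 <| .cons 3 x2_2 <| .cons 2 x2_3 <| .cons 1 x2_4 <| .cons 2 x2_5 <| .cons 3 x2_6 <| .cons 6 x2_7 <| .cons 12 x2_8 <| .nil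
noncomputable def x1_0 : ℕ := 0xecc
noncomputable def x1_1 : ℕ := 0x1a004
noncomputable def x1_2 : ℕ := 0x184100
noncomputable def x1_3 : ℕ := 0x40208
noncomputable def x1_4 : ℕ := 0x241208
noncomputable def x1_5 : ℕ := 0x41208
noncomputable def x1_6 : ℕ := 0x21c0
noncomputable def x1_7 : ℕ := 0xc00c
noncomputable def x1_8 : ℕ := 0xefc
noncomputable def x1 : Net := .cons 12 x1_0 <| .cons 6 x1_1 <| .cons 3 x1_2 <| .cons 2 x1_3 <| .cons 1 x1_4 <| .cons 2 x1_5 <| .cons 3 x1_6 <| .cons 6 x1_7 <| .cons 12 x1_8 <| .nil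
noncomputable def x0_0 : ℕ := 0x46c
noncomputable def x0_1 : ℕ := 0x1c038
noncomputable def x0_2 : ℕ := 0x104
noncomputable def x0_3 : ℕ := 0x9008
noncomputable def x0_4 : ℕ := 0x49048
noncomputable def x0_5 : ℕ := 0x40208
noncomputable def x0_6 : ℕ := 0x83084
noncomputable def x0_7 : ℕ := 0x8038
noncomputable def x0_8 : ℕ := 0xf8
noncomputable def x0 : Net := .cons 12 x0_0 <| .cons 6 x0_1 <| .cons 3 x0_2 <| .cons 2 x0_3 <| .cons 1 x0_4 <| .cons 2 x0_5 <| .cons 3 x0_6 <| .cons 6 x0_7 <| .cons 12 x0_8 <| .nil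
noncomputable def g6_0 : ℕ := 0x968
noncomputable def g6_1 : ℕ := 0x1c030
noncomputable def g6_2 : ℕ := 0x2000
noncomputable def g6_3 : ℕ := 0x41200
noncomputable def g6_4 : ℕ := 0x49208
noncomputable def g6_5 : ℕ := 0x41200
noncomputable def g6_6 : ℕ := 0x2000
noncomputable def g6_7 : ℕ := 0x3d034
noncomputable def g6_8 : ℕ := 0x968
noncomputable def g6 : Net := .cons 12 g6_0 <| .cons 6 g6_1 <| .cons 3 g6_2 <| .cons 2 g6_3 <| .cons 1 g6_4 <| .cons 2 g6_5 <| .cons 3 g6_6 <| .cons 6 g6_7 <| .cons 12 g6_8 <| .nil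
noncomputable def g5_0 : ℕ := 0x938
noncomputable def g5_1 : ℕ := 0x38
noncomputable def g5_2 : ℕ := 0x2004
noncomputable def g5_3 : ℕ := 0x8008
noncomputable def g5_4 : ℕ := 0x9008
noncomputable def g5_5 : ℕ := 0x208248
noncomputable def g5_6 : ℕ := 0x82144
noncomputable def g5_7 : ℕ := 0x4038
noncomputable def g5_8 : ℕ := 0x938
noncomputable def g5 : Net := .cons 12 g5_0 <| .cons 6 g5_1 <| .cons 3 g5_2 <| .cons 2 g5_3 <| .cons 1 g5_4 <| .cons 2 g5_5 <| .cons 3 g5_6 <| .cons 6 g5_7 <| .cons 12 g5_8 <| .nil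
noncomputable def g4_0 : ℕ := 0xd02
noncomputable def g4_1 : ℕ := 0x20018
noncomputable def g4_2 : ℕ := 0x84004
noncomputable def g4_3 : ℕ := 0x1
noncomputable def g4_4 : ℕ := 0x48241
noncomputable def g4_5 : ℕ := 0x201001
noncomputable def g4_6 : ℕ := 0xc50c4
noncomputable def g4_7 : ℕ := 0x1901c
noncomputable def g4_8 : ℕ := 0xd02
noncomputable def g4 : Net := .cons 12 g4_0 <| .cons 6 g4_1 <| .cons 3 g4_2 <| .cons 2 g4_3 <| .cons 1 g4_4 <| .cons 2 g4_5 <| .cons 3 g4_6 <| .cons 6 g4_7 <| .cons 12 g4_8 <| .nil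
noncomputable def g3_0 : ℕ := 0x454
noncomputable def g3_1 : ℕ := 0x22000
noncomputable def g3_2 : ℕ := 0x6000
noncomputable def g3_3 : ℕ := 0x40000
noncomputable def g3_4 : ℕ := 0x241048
noncomputable def g3_5 : ℕ := 0x208000
noncomputable def g3_6 : ℕ := 0x1c6000
noncomputable def g3_7 : ℕ := 0x22020
noncomputable def g3_8 : ℕ := 0x454
noncomputable def g3 : Net := .cons 12 g3_0 <| .cons 6 g3_1 <| .cons 3 g3_2 <| .cons 2 g3_3 <| .cons 1 g3_4 <| .cons 2 g3_5 <| .cons 3 g3_6 <| .cons 6 g3_7 <| .cons 12 g3_8 <| .nil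
noncomputable def g2_0 : ℕ := 0x40
noncomputable def g2_1 : ℕ := 0xe020
noncomputable def g2_2 : ℕ := 0x100
noncomputable def g2_3 : ℕ := 0x1208
noncomputable def g2_4 : ℕ := 0x241208
noncomputable def g2_5 : ℕ := 0x1208
noncomputable def g2_6 : ℕ := 0x1100
noncomputable def g2_7 : ℕ := 0xe020
noncomputable def g2_8 : ℕ := 0x64
noncomputable def g2 : Net := .cons 12 g2_0 <| .cons 6 g2_1 <| .cons 3 g2_2 <| .cons 2 g2_3 <| .cons 1 g2_4 <| .cons 2 g2_5 <| .cons 3 g2_6 <| .cons 6 g2_7 <| .cons 12 g2_8 <| .nil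
noncomputable def g1_0 : ℕ := 0xec2
noncomputable def g1_1 : ℕ := 0x1803c
noncomputable def g1_2 : ℕ := 0x2004
noncomputable def g1_3 : ℕ := 0x240
noncomputable def g1_4 : ℕ := 0x1240
noncomputable def g1_5 : ℕ := 0x248
noncomputable def g1_6 : ℕ := 0x146186
noncomputable def g1_7 : ℕ := 0x3c03c
noncomputable def g1_8 : ℕ := 0xec2
noncomputable def g1 : Net := .cons 12 g1_0 <| .cons 6 g1_1 <| .cons 3 g1_2 <| .cons 2 g1_3 <| .cons 1 g1_4 <| .cons 2 g1_5 <| .cons 3 g1_6 <| .cons 6 g1_7 <| .cons 12 g1_8 <| .nil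
noncomputable def cs : List ℕ := [0xbb50274172351ea2d4ec4d8911cc20, 0xbba4bb3d82acc643b528a1a1151420, 0xb88a4a41078aaae5b12f959b319820, 0xba1a27489054ea62bd363b1711d020, 0xbcd6fb48d0a20a4a892e3c5ac1a820, 0xbd9629c192538b1abd28191a63d020, 0xbd9aa99cc313aa42d1289456c83c20, 0xbbd93a48b0b08d52212a3b62b1b820, 0xbb5112ca9032eca731353be6219020]
noncomputable def L : List Net := [x2, x1, x0, g6, g5, g4, g3, g2, g1]
theorem good : Good 24 (rho24 (H72.pstab Cfsg.M24 [1, 0, 23])).range L := good24 (cs := cs) (H16.allIn21 (by decide +kernel)) (by decide +kernel)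
noncomputable def T : ℕ := 0x302800605000c0a0018140030280060500000000000000000000000000000000000000000000000000000000000000000000000000000000000000000000000000000000000000000000000000000000000000000000000000000000000000505000a0a001414002828005050000000000000000000000000000000000000000000000000000000000000000000000000000000000000000000000000000000000000000000000000000000000000000000000000000000000000000000080a0310280520500040500000000000000000000000000000000000000000000000000000000000000000000000000000000000000000000000000000000000000000000000000000000000000000000000000000000000000000000000628c3c06185000305000000000000000000000000000000000000000000000000000000000000000000000000000000000000000000000000000000000000000000000000000000000000000000000000000000000000000000000000000000010280020500000000000000000000000000000000000000000000000000000000000000000000000000000000000000000000000000000000000000000000000000000000000000000000000000000000000000000000000000000000000001050000000000000000000000000000000000000000000000000000000000000000000000000000000000000000000000000000000000000000000000000000000000000000000000000000000000000000000000000000000000000000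
noncomputable def QT : List ℕ := [0x800000, 0xa00001000001800000, 0xa00000800000800000]
noncomputable def UT : List ℕ := [0x51000000, 0x18600020c00002000000, 0x314200000800020800000]
noncomputable def I : ℕ := 0x102ffffffffffffffffffffffffffffffffffffffffffffffffff030405060708ff
noncomputable def E0 : List (ℕ × ℕ × ℕ × List ℕ) := [(0, 0x2, 65, [4162]),
  (0, 0x5, 161, [10306]),
  (0, 0x3, 97, [6210,12481,12673]),
  (0, 0x3, 33, [6238,12383,12703]),
  (0, 0x4, 129, [8258,10497,10561]),
  (0, 0x4, 33, [8286,10335,10591]),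
  (0, 0x4, 130, [8322,12545,12673]),
  (0, 0x4, 66, [8350,12447,12703]),
  (0, 0x3, 98, [6274,10433,10561,12481,12609,12673]),
  (0, 0x3, 66, [6302,10399,10591,12447,12639,12703]),
  (0, 0x5, 97, [12639]),
  (0, 0x4, 65, [10369,12383,12609]),
  (2, 0x21, 0, [6337,8479,67678]),
  (0, 0x3, 65, [10335,12383,12417,12639]),
  (1, 0x21, 0, [2113,4255,10399,10591,65630]),
  (2, 0x42, 0, [6367,8415,67742]),
  (3, 0x21, 0, [4191,4255,69726]),
  (2, 0x23, 0x61, [8385,10433,12575]),
  (3, 0x43, 0x62, [4161,12447])]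
noncomputable def E : List (ℕ × ℕ × ℕ × List ℕ) := (E0 ++ [])
noncomputable def Y : List (List ℕ) := [[2136,4183,4255,6289,8351,65631,69727],
  [4183,4247,69727],
  [6359,67743],
  [8471,67679,67743],
  [8257],
  [6209]]
noncomputable def CL : List (List ℕ × ℕ × ℕ) := [([4161], 2, 0x1f), ([6239,6273,8287], 4, 0x38000001001241201000e01e01f012), ([6239,8321], 2, 0x1f00000004005f0400407c0780000042)]
noncomputable def CF : List (List ℕ) := [[],
  [0x3c03c00003d100f000000000211000],
  [0x1f000, 0x3c0000000000000000000000211000],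
  [0, 0x7c0, 0xf00f00001145144f3c000f3c0000000],
  [0, 0x1f, 0x1f00000000104105f7c001f7c0000000, 0xf00f0003d145144f3c000f3c0000000],
  [0x10007c000100001f000000002, 0x100078100001f01f000000080, 0x10007807c101f01f040000082, 0x10007c000101f7df000000002, 0x1f00004001f00100100000001e],
  [0x10017c100001f01f000000080, 0x10017c100101f01e000000082, 0x10017c100001f01e7c0000080, 0x10017c10007df01e000000082, 0x40000000000000000000, 0x1f01f05f000001002000000780]]
noncomputable def C : List (ℕ × ℕ) := [(0xa1, 0x58c504),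
  (0x62, 0x108404),
  (0xa3, 0x88),
  (0xa4, 0x8),
  (0xc5, 0x100004),
  (0x6, 0x4)]
theorem e0 : allM (chkEq (slot T 23 0x800000) 32 1 32 1120 (hmask 1120) (fun f => slot (nthD QT 0 f) 23 0x800000) (fun f => slot (nthD UT 0 f) 23 0x800000)) E0 = true := by decide +kernel
theorem r0 : relChk L I (planes 5 24 5) (slot T 23 0x800000) 1 0 7 = true := by decide +kernel
theorem f0 : fusChk L I (planes 5 24 5) (fun f => slot (nthD QT 0 f) 23 0x800000) (fun f => slot (nthD UT 0 f) 23 0x800000) 0 3 = true := by decide +kernel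
theorem h0 : finChk (slot T 23 0x800000) 1 32 1120 (hmask 1120) 188 (E.map fun e => e.2.2.2) Y CL CF 0 7 = true := by decide +kernel
theorem c0 : chn L I 6 C = true := by decide +kernel
theorem main : NoStem (↥(H72.pstab Cfsg.M24 [1, 0, 23])) (2 ^ 5) :=
  noStem_of_nets (rho24 (H72.pstab Cfsg.M24 [1, 0, 23])) (rho24_inj _) good (tests_planes (m := 5) (by norm_num) _) (by norm_num) (H72.card_M21)
    (n := 6) (K := 32) (REP := 1) (q := 32) (T := T) (W := 23) (PW := 0x800000) (QT := QT) (UT := UT) (I := I) (M := 1120) (S := 188) (C := C)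
    (by decide +kernel) ((Cov.zero _).step r0)
    ((Cov.zero _).step f0) c0 (E := E) (allM_app e0 (fun _ h => absurd h List.not_mem_nil))
    (Y := Y) (CL := CL) (CF := CF) ((Cov.zero _).step h0)
end H16.M21P2
namespace H16.M21P3
open H71 H81
noncomputable def x0_0 : ℕ := 0x18
noncomputable def x0_1 : ℕ := 0x10020
noncomputable def x0_2 : ℕ := 0x86000
noncomputable def x0_3 : ℕ := 0x41000
noncomputable def x0_4 : ℕ := 0x249000
noncomputable def x0_5 : ℕ := 0x41200
noncomputable def x0_6 : ℕ := 0x86080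
noncomputable def x0_7 : ℕ := 0x1b024
noncomputable def x0_8 : ℕ := 0x18
noncomputable def x0 : Net := .cons 12 x0_0 <| .cons 6 x0_1 <| .cons 3 x0_2 <| .cons 2 x0_3 <| .cons 1 x0_4 <| .cons 2 x0_5 <| .cons 3 x0_6 <| .cons 6 x0_7 <| .cons 12 x0_8 <| .nil
noncomputable def g2_0 : ℕ := 0x180
noncomputable def g2_1 : ℕ := 0xc02c
noncomputable def g2_2 : ℕ := 0x100000
noncomputable def g2_3 : ℕ := 0x40
noncomputable def g2_4 : ℕ := 0x200240
noncomputable def g2_5 : ℕ := 0x200048
noncomputable def g2_6 : ℕ := 0x184080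
noncomputable def g2_7 : ℕ := 0xd01c
noncomputable def g2_8 : ℕ := 0x4cc
noncomputable def g2 : Net := .cons 12 g2_0 <| .cons 6 g2_1 <| .cons 3 g2_2 <| .cons 2 g2_3 <| .cons 1 g2_4 <| .cons 2 g2_5 <| .cons 3 g2_6 <| .cons 6 g2_7 <| .cons 12 g2_8 <| .nil
noncomputable def g1_0 : ℕ := 0x858
noncomputable def g1_1 : ℕ := 0x30
noncomputable def g1_2 : ℕ := 0x104000
noncomputable def g1_3 : ℕ := 0x40200
noncomputable def g1_4 : ℕ := 0x248200
noncomputable def g1_5 : ℕ := 0x248000
noncomputable def g1_6 : ℕ := 0x86100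
noncomputable def g1_7 : ℕ := 0x27034
noncomputable def g1_8 : ℕ := 0xb08
noncomputable def g1 : Net := .cons 12 g1_0 <| .cons 6 g1_1 <| .cons 3 g1_2 <| .cons 2 g1_3 <| .cons 1 g1_4 <| .cons 2 g1_5 <| .cons 3 g1_6 <| .cons 6 g1_7 <| .cons 12 g1_8 <| .nil
noncomputable def cs : List ℕ := [0xbc5a41b2d07bab259ca2519349a020, 0xb8aa87329038da64bcb15497699020, 0xbc5a97197578e12b28453b0889d020]
noncomputable def L : List Net := [x0, g2, g1]
theorem good : Good 24 (rho24 (H72.pstab Cfsg.M24 [1, 0, 23])).range L := good24 (cs := cs) (H16.allIn21 (by decide +kernel)) (by decide +kernel)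
noncomputable def T : ℕ := 0x8140205000000000000000000000000000000000000000000000000000000000000000000000000000000000000000000000000000000000000000000000000000000000000000000000105000000000000000000000000000000000000000000000000000000000000000000000000000000000000000000000000000000000000000000000000000000000000000000000000
noncomputable def QT : List ℕ := [0x2000040000]
noncomputable def UT : List ℕ := [0x42000840000]
noncomputable def I : ℕ := 0xffffffffffffffffffffffffffffffffffffffffffffffffffffffffff0102ff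
noncomputable def E0 : List (ℕ × ℕ × ℕ × List ℕ) := [(0, 0x42, 65, [4163]),
  (1, 0x421, 0, [2120,65606]),
  (1, 0x842, 0, [4232,65670])]
noncomputable def E : List (ℕ × ℕ × ℕ × List ℕ) := (E0 ++ [])
noncomputable def Y : List (List ℕ) := [[65607],
  [65671]]
noncomputable def CL : List (List ℕ × ℕ × ℕ) := [([4161], 3, 0x8)]
noncomputable def CF : List (List ℕ) := [[],
  [0x1000],
  [0x8, 0x40000]]
noncomputable def C : List (ℕ × ℕ) := [(0x841, 0x400014),
  (0x2, 0x4)]
theorem e0 : allM (chkEq (slot T 18 0x40000) 1024 33 9 1056 (hmask 1056) (fun f => slot (nthD QT 0 f) 18 0x40000) (fun f => slot (nthD UT 0 f) 18 0x40000)) E0 = true := by decide +kernel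
theorem r0 : relChk L I (planes 5 24 5) (slot T 18 0x40000) 33 0 3 = true := by decide +kernel
theorem f0 : fusChk L I (planes 5 24 5) (fun f => slot (nthD QT 0 f) 18 0x40000) (fun f => slot (nthD UT 0 f) 18 0x40000) 0 1 = true := by decide +kernel
theorem h0 : finChk (slot T 18 0x40000) 33 9 1056 (hmask 1056) 14 (E.map fun e => e.2.2.2) Y CL CF 0 3 = true := by decide +kernel
theorem c0 : chn L I 2 C = true := by decide +kernel
theorem main : NoStem (↥(H72.pstab Cfsg.M24 [1, 0, 23])) (3 ^ 2) :=
  noStem_of_nets (rho24 (H72.pstab Cfsg.M24 [1, 0, 23])) (rho24_inj _) good (tests_planes (m := 5) (by norm_num) _) (by norm_num) (H72.card_M21)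
    (n := 2) (K := 1024) (REP := 33) (q := 9) (T := T) (W := 18) (PW := 0x40000) (QT := QT) (UT := UT) (I := I) (M := 1056) (S := 14) (C := C)
    (by decide +kernel) ((Cov.zero _).step r0)
    ((Cov.zero _).step f0) c0 (E := E) (allM_app e0 (fun _ h => absurd h List.not_mem_nil))
    (Y := Y) (CL := CL) (CF := CF) ((Cov.zero _).step h0)
end H16.M21P3
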