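import Cfsg.Agent.H8.PSSpec
import Cfsg.Agent.S5293
import Cfsg.Agent.S5097
import Cfsg.Agent.S5132
import Cfsg.Agent.S5134
import Cfsg.Agent.S5308
import Cfsg.Agent.S5309
import Cfsg.Agent.H93.FC1
import Cfsg.Agent.H87.ReeRegA
import Cfsg.Agent.H54.P4Gen
import Cfsg.Agent.H57.SLGen
import Cfsg.Agent.H55.WCmod
import Cfsg.Agent.H61.PSLMin
import Cfsg.Agent.H89.AlmostSimple
import Cfsg.Agent.H25.ClBase
import Cfsg.Agent.H87.Simple
import Cfsg.Agent.H98.PReduced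

/-! A normal subsystem with trivial centralizer over a `2`-group without automorphisms of odd order is
the whole `2`-fusion system of a perfect group. -/

set_option autoImplicit false
set_option maxHeartbeats 400000

namespace H16.PS

open Cfsg Subgroup H14 H98
open Cfsg.FusionSystem (centralizerIn preimageAlong imageAlong)
open scoped commutatorElement

universe u v

variable {G : Type*} [Group G] {S T P : Subgroup G} {g x : G}

theorem conj_hom (hP : P ≤ S) (h : P ≤ S.comap (MulAut.conj g).toMonoidHom) :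
    conjHom P g ∈ (groupFusionSystem S).Hom P := ⟨hP, fun y => h y.2, g, fun _ => rfl⟩

theorem sc_mem (h : (groupFusionSystem S).StronglyClosed T) (hx : x ∈ T) (hg : g * x * g⁻¹ ∈ S) :
    g * x * g⁻¹ ∈ T :=
  h.2 _ (zpowers_le.2 hx) _ (conj_hom (zpowers_le.2 (h.1 hx)) (zpowers_le.2 hg)) ⟨x, mem_zpowers x⟩

variable [Finite G]

theorem le_nor (h : (groupFusionSystem S).StronglyClosed T) : S ≤ normalizer (T : Set G) :=
  fun s hs => mem_normalizer_of_cj_le (by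
    rintro _ ⟨t, ht, rfl⟩
    exact sc_mem h ht (mul_mem (mul_mem hs (h.1 ht)) (inv_mem hs)))

theorem nor_dec (hS : IsSyl 2 S ⊤) (h : S ≤ normalizer (T : Set G))
    (hA : ∀ α : MulAut T, Odd (orderOf α) → α = 1) (hg : g ∈ normalizer (T : Set G)) :
    ∃ s ∈ S, s⁻¹ * g ∈ centralizer (T : Set G) := by
  have : Fact (Nat.Prime 2) := ⟨Nat.prime_two⟩
  have hP : IsPGroup 2 (MulAut T) := fun α => by
    obtain ⟨k, m, hm, e⟩ := Nat.exists_eq_two_pow_mul_odd (orderOf_pos α).ne'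
    refine ⟨k, hA _ ?_⟩
    rwa [orderOf_pow_of_dvd (by positivity) ⟨m, e⟩, e, Nat.mul_div_cancel_left _ (by positivity)]
  have e := ((hS.of_le h le_top).subgroupOf_top.map T.normalizerMonoidHom).eq_of_isPGroup
    (hP.to_subgroup _)
  obtain ⟨s, hs, e⟩ := e.ge (mem_map_of_mem _ (mem_top ⟨g, hg⟩))
  have : s⁻¹ * ⟨g, hg⟩ ∈ T.normalizerMonoidHom.ker := by
    rw [MonoidHom.mem_ker, map_mul, map_inv, e, inv_mul_cancel]
  rw [normalizerMonoidHom_ker] at this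
  exact ⟨s, hs, this⟩

/-- `N(T)` controls fusion modulo the strongly closed subgroup `T` -/
theorem ctrl (S : Sylow 2 G) (h : (groupFusionSystem (S : Subgroup G)).StronglyClosed T)
    (hx : x ∈ (S : Subgroup G)) (hg : g * x * g⁻¹ ∈ (S : Subgroup G)) :
    ∃ n ∈ normalizer (T : Set G), n * x * n⁻¹ ∈ (S : Subgroup G) ∧
      (n * x * n⁻¹)⁻¹ * (g * x * g⁻¹) ∈ T := by
  have : Fact (Nat.Prime 2) := ⟨Nat.prime_two⟩
  have : (T.subgroupOf S).Normal := (normal_subgroupOf_iff_le_normalizer h.1).2 (le_nor h)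
  obtain ⟨E, hE⟩ := Cfsg.Agent.S5132.result 2 S.isPGroup' _ T h
  obtain ⟨φ', hφ', hP, hφ, hP', e⟩ := (Cfsg.Agent.S5134.result 2 S.isPGroup' _ (H94.isSaturated_group S)
    T h _ E hE).1.2 _ _ (conj_hom (zpowers_le.2 hx) (zpowers_le.2 hg))
  obtain ⟨-, φ₁, ⟨h1, h2, n, hn⟩, hQ, hφ₁, hQ', e₁⟩ := (hE.2.2.2 _ φ').1 hφ'
  have hxQ : x ∈ preimageAlong (QuotientGroup.mk' (T.subgroupOf S))
      (imageAlong (QuotientGroup.mk' (T.subgroupOf S)) (zpowers x)) :=
    ⟨⟨x, hx⟩, ⟨⟨x, hx⟩, mem_zpowers x, rfl⟩, rfl⟩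
  refine ⟨n, mem_normalizer_of_cj_le ?_, hn ⟨x, hxQ⟩ ▸ h2 _, ?_⟩
  · rintro _ ⟨t, ht, rfl⟩
    refine sc_mem h ht (hn ⟨t, ⟨t, h.1 ht⟩, ?_, rfl⟩ ▸ h2 _)
    have : QuotientGroup.mk' (T.subgroupOf S) ⟨t, h.1 ht⟩ = 1 := (QuotientGroup.eq_one_iff _).2 ht
    rw [SetLike.mem_coe, mem_comap, this]
    exact one_mem _
  · have := QuotientGroup.eq.1 ((e₁ ⟨x, hxQ⟩).symm.trans (e ⟨x, mem_zpowers x⟩))
    rw [← hn ⟨x, hxQ⟩]
    exact this

theorem cen_fix (S : Sylow 2 G) (E : FusionSystem T)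
    (hE : E.IsNormalIn (groupFusionSystem (S : Subgroup G)) 2)
    (hC : ∀ Y : Subgroup G, Y ≤ centralizerIn (S : Subgroup G) T →
      (∀ P : Subgroup G, E.Hom P ⊆ (groupFusionSystem (S : Subgroup G)).centralizerHom Y P) → Y = ⊥)
    (hg : g ∈ centralizer (T : Set G)) (hx : x ∈ centralizerIn (S : Subgroup G) T)
    (h : g * x * g⁻¹ ∈ (S : Subgroup G)) : g * x * g⁻¹ = x := by
  have : Fact (Nat.Prime 2) := ⟨Nat.prime_two⟩
  have hT := hE.1.2.2.2.1.1
  obtain ⟨D, hD⟩ := Cfsg.Agent.S5097.result (groupFusionSystem (S : Subgroup G)) T hT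
  have k := (Cfsg.Agent.S5293.result 2 S.isPGroup' _ hE.1.2.1 E hE _ rfl D hD).trans
    (sSup_le (a := ⊥) fun Y hY => (hC Y hY.1 hY.2).le)
  have f : ∀ t ∈ T, g * t * g⁻¹ = t := fun t ht => by rw [← hg t ht, mul_inv_cancel_right]
  have m : conjHom (zpowers x) g ∈ D.Hom (zpowers x) := by
    rw [hD]
    refine ⟨conj_hom (zpowers_le.2 hx.1) (zpowers_le.2 h), zpowers_le.2 hx, fun y => ?_,
      conjHom _ g, conj_hom (sup_le (zpowers_le.2 hx.1) hT) (sup_le (zpowers_le.2 h) fun t ht => ?_),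
      fun _ => rfl, fun t => f t t.2⟩
    · exact (zpowers_le (H := (centralizerIn S T).comap (MulAut.conj g).toMonoidHom)).2
        ⟨h, (centralizer _).mul_mem (mul_mem hg hx.2) (inv_mem hg)⟩ y.2
    · exact show g * t * g⁻¹ ∈ (S : Subgroup G) from (f t ht).symm ▸ hT ht
  exact (inv_mul_eq_one.1 (mem_bot.1 (k (subset_closure ⟨_, _, ⟨x, mem_zpowers x⟩, m, rfl⟩)))).symm

theorem eq_sylow (hG : commutator G = ⊤) (S : Sylow 2 G) (E : FusionSystem T)
    (hE : E.IsNormalIn (groupFusionSystem (S : Subgroup G)) 2)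
    (hA : ∀ α : MulAut T, Odd (orderOf α) → α = 1)
    (hC : ∀ Y : Subgroup G, Y ≤ centralizerIn (S : Subgroup G) T →
      (∀ P : Subgroup G, E.Hom P ⊆ (groupFusionSystem (S : Subgroup G)).centralizerHom Y P) → Y = ⊥) :
    T = S := by
  have : Fact (Nat.Prime 2) := ⟨Nat.prime_two⟩
  have sc := hE.1.2.2.2.1
  have hN := le_nor sc
  have hS := isSyl_sylow S
  have h1 := hS.inf_centralizer hN
  rw [top_inf_eq] at h1
  have h2 := (H87.burnside_dec h1 fun c hc y hy => by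
    have := cen_fix S E hE hC hc.1 hy (conj_mem_of_mem_normalizer hc.2 hy).1
    exact (mul_inv_eq_iff_eq_mul.1 this).symm).2 (S ⊔ opp 2 (centralizer (T : Set G)))
    (inf_le_left.trans le_sup_left) le_sup_right
  have hO : (S : Subgroup G) ≤ normalizer (opp 2 (centralizer (T : Set G)) : Set G) :=
    (le_normalizer_centralizer hN).trans (normalizer_le_normalizer_opp _)
  refine le_antisymm sc.1 (H54.P4.le_of_le_sup_der S.isPGroup' sc.1 ?_)
  conv_lhs => rw [← top_inf_eq (S : Subgroup G), ← hG, commutator_inf_eq_focalSubgroup]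
  refine (closure_le _).2 ?_
  rintro _ ⟨hm, x, hx, g, rfl⟩
  have hx' := inv_mem hx
  obtain ⟨n, hn, n1, n2⟩ := ctrl S sc hx' (g := g) (by
    simpa [commutatorElement_def, mul_assoc] using mul_mem hx' hm)
  obtain ⟨s, hs, e⟩ := nor_dec hS hN hA hn
  obtain ⟨s', hs', o, ho, e'⟩ := (mem_sup_left_norm hO).1
    (show n ∈ _ from (mul_mem_cancel_left (mem_sup_left (inv_mem hs))).1 (h2 e))
  subst e'
  have k : o * x⁻¹ * o⁻¹ * x⁻¹⁻¹ = 1 := H55.W.eq_one_of_mem_opp S.isPGroup' (mul_mem (by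
      simpa [mul_assoc] using mul_mem (mul_mem (inv_mem hs') n1) hs') (inv_mem hx'))
    (by rw [mul_assoc, mul_assoc, ← mul_assoc x⁻¹]
        exact mul_mem ho (conj_mem_of_mem_normalizer (hO hx') (inv_mem ho)))
  have e2 : ⁅x, g⁆ = ⁅x, s'⁆ * ((s' * o * x⁻¹ * (s' * o)⁻¹)⁻¹ * (g * x⁻¹ * g⁻¹)) := by
    rw [show s' * o * x⁻¹ * (s' * o)⁻¹ = s' * (o * x⁻¹ * o⁻¹ * x⁻¹⁻¹) * x⁻¹ * s'⁻¹ by group, k]
    simp only [commutatorElement_def]
    group
  rw [e2]
  exact mul_mem (mem_sup_right (commutator_mem_commutator hx hs')) (mem_sup_left n2)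

theorem realized (hG : commutator G = ⊤) (S : Sylow 2 G) (E : FusionSystem T)
    (hE : E.IsNormalIn (groupFusionSystem (S : Subgroup G)) 2) {H : Type*} [Group H] {ι : T →* H}
    (hι : E.IsRealizedBy ι) (T' : Sylow 2 H) (hT' : (T' : Subgroup H) = ι.range)
    (hA : ∀ α : MulAut (T' : Subgroup H), Odd (orderOf α) → α = 1)
    (hC : ∀ Y : Subgroup G, Y ≤ centralizerIn (S : Subgroup G) T →
      (∀ P : Subgroup G, E.Hom P ⊆ (groupFusionSystem (S : Subgroup G)).centralizerHom Y P) → Y = ⊥) :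
    ∃ ι : (S : Subgroup G) →* H, (groupFusionSystem (S : Subgroup G)).IsRealizedBy ι ∧
      ∃ T' : Sylow 2 H, (T' : Subgroup H) = ι.range := by
  have hA' : ∀ α : MulAut T, Odd (orderOf α) → α = 1 := fun α hα => by
    let e := MulAut.congr ((MonoidHom.ofInjective hι.1).trans (MulEquiv.subgroupCongr hT'.symm))
    exact e.injective ((hA _ (by rwa [MulEquiv.orderOf_eq])).trans (map_one e).symm)
  obtain rfl := eq_sylow hG S E hE hA' hC
  refine ⟨ι, ⟨hι.1, fun P hP φ hφ => Iff.trans ⟨fun h => ?_, fun h => hE.1.2.2.1 P h⟩ (hι.2 P hP φ hφ)⟩,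
    T', hT'⟩
  obtain ⟨α, hα, φ₀, h0, e⟩ := hE.1.2.2.2.2.2 P hP φ h
  obtain ⟨g, hg, rfl⟩ := H93.exists_cAut_of_mem_group le_rfl hα
  obtain ⟨s, hs, e'⟩ := nor_dec (isSyl_sylow S) le_normalizer hA' hg
  have m := (E.le_of_mem h0).2
  convert E.comp_mem h0 (E.conj_mem le_rfl hs) m using 1
  ext y
  rw [e y (m y)]
  change g * φ₀ y * g⁻¹ = s * φ₀ y * s⁻¹
  rw [show g * φ₀ y * g⁻¹ = s * (s⁻¹ * g * φ₀ y) * (s⁻¹ * g)⁻¹ * s⁻¹ by group, ← e' _ (m y)]
  group

/-- the centre of the `2`-fusion system of a nonabelian simple group is trivial -/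
theorem center_bot (hT : IsPGroup 2 T) (E : FusionSystem T) {H : Type*} [Group H] [Finite H]
    [IsSimpleGroup H] (hH : ¬ IsMulCommutative H) {ι : T →* H} (hι : E.IsRealizedBy ι) (T' : Sylow 2 H)
    (hT' : (T' : Subgroup H) = ι.range) : E.center = ⊥ := by
  have : Fact (Nat.Prime 2) := ⟨Nat.prime_two⟩
  refine le_bot_iff.1 (sSup_le fun Q hQ => le_bot_iff.2 ?_)
  by_contra hne
  obtain ⟨k, hk⟩ := (hT.to_le hQ.1).exists_card_eq
  obtain ⟨⟨a, ha⟩, a2⟩ := exists_prime_orderOf_dvd_card' (G := Q) 2 (by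
    rw [hk]
    exact dvd_pow_self 2 fun e => hne (card_eq_one.1 (by rw [hk, e, pow_zero])))
  let a' : T := ⟨a, hQ.1 ha⟩
  have o : orderOf (ι a') = 2 := by
    rw [orderOf_injective ι hι.1, ← Subgroup.orderOf_coe, ← a2, ← Subgroup.orderOf_coe]
  obtain ⟨g, g1, g2⟩ := H25.Cl.exists_conj_comm hH o
  have hS : IsSyl 2 ι.range (centralizer {ι a'}) := (hT' ▸ isSyl_sylow T').of_le (by
    rintro _ ⟨t, rfl⟩
    rw [mem_centralizer_singleton_iff, ← map_mul, ← map_mul]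
    exact congrArg ι (Subtype.ext (E.center_le_centralizer (le_sSup (s := {Q | E.IsCentral Q}) hQ ha)
      t t.2))) le_top
  obtain ⟨c, hc, hle⟩ := hS.exists_cj_le (Q := zpowers (g * ι a' * g⁻¹)) (isPGroup_zpowers (k := 1) (by
    rw [conj_pow, pow_one, ← o, pow_orderOf_eq_one]; simp))
    (zpowers_le.2 (mem_centralizer_singleton_iff.2 g1.eq.symm))
  have hP : zpowers a ≤ T := zpowers_le.2 a'.2
  let χ : zpowers a →* H := (MulAut.conj (c * g)).toMonoidHom.comp (ι.comp (inclusion hP))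
  have r : ∀ y, χ y ∈ ι.range := by
    rintro ⟨_, j, rfl⟩
    have : χ ⟨a, mem_zpowers a⟩ ∈ ι.range := by
      convert hle (conj_mem_cj (mem_zpowers _)) using 1
      change c * g * ι a' * (c * g)⁻¹ = _
      group
    exact (map_zpow χ ⟨a, mem_zpowers a⟩ j).symm ▸ zpow_mem this j
  let φ : zpowers a →* T := (MonoidHom.ofInjective hι.1).symm.toMonoidHom.comp (χ.codRestrict _ r)
  have e : ∀ y, ι (φ y) = χ y := fun y => MonoidHom.apply_ofInjective_symm hι.1 _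
  obtain ⟨ψ, -, p1, p2⟩ := hQ.2 _ _ ((hι.2 _ hP (T.subtype.comp φ) fun y => (φ y).2).2 ⟨c * g, e⟩)
  have e2 : φ ⟨a, mem_zpowers a⟩ = a' := Subtype.ext ((p1 ⟨a, mem_zpowers a⟩).symm.trans (p2 ⟨a, ha⟩))
  have e3 : ι a' = c * g * ι a' * (c * g)⁻¹ := (congrArg ι e2).symm.trans (e ⟨a, mem_zpowers a⟩)
  refine g2 ?_
  rw [show g * ι a' * g⁻¹ = c⁻¹ * (c * g * ι a' * (c * g)⁻¹) * c by group, ← e3, mul_assoc,
    ← mem_centralizer_singleton_iff.1 hc, inv_mul_cancel_left]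

theorem s5174 (h : H8.PS.Star.{v}) {G : Type u} [Group G] [Finite G] [IsSimpleGroup G] (hG : ¬ IsMulCommutative G) (S : Sylow 2 G) (n : ℕ) (hn : 2 ≤ n) {F : Type v} [Field F] [Fintype F] (q : ℕ) (hFq : Fintype.card F = q) (hq : Odd q) (h2 : n = 2 → q % 8 = 1 ∨ q % 8 = 7) {T : Subgroup G} (E : Cfsg.FusionSystem T) (hE : E.IsNormalIn (Cfsg.groupFusionSystem (S : Subgroup G)) 2) (hiso : ∃ ι : T →* Matrix.ProjectiveSpecialLinearGroup (Fin n) F, E.IsRealizedBy ι ∧ ∃ T' : Sylow 2 (Matrix.ProjectiveSpecialLinearGroup (Fin n) F), (T' : Subgroup (Matrix.ProjectiveSpecialLinearGroup (Fin n) F)) = ι.range) (hC : ∀ Y : Subgroup G, Y ≤ Cfsg.FusionSystem.centralizerIn (S : Subgroup G) T → (∀ P : Subgroup G, E.Hom P ⊆ (Cfsg.groupFusionSystem (S : Subgroup G)).centralizerHom Y P) → Y = ⊥) : ∃ ι : ↥(S : Subgroup G) →* Matrix.ProjectiveSpecialLinearGroup (Fin n) F, (Cfsg.groupFusionSystem (S : Subgroup G)).IsRealizedBy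 ι ∧ ∃ T' : Sylow 2 (Matrix.ProjectiveSpecialLinearGroup (Fin n) F), (T' : Subgroup (Matrix.ProjectiveSpecialLinearGroup (Fin n) F)) = ι.range := by
  obtain ⟨ι, hι, T', hT'⟩ := hiso
  subst hFq
  exact realized (H87.commutator_eq_top hG) S E hE hι T' hT' (h n hn F hq h2 T') hC

theorem s5313 (h : H8.PS.Star.{v}) {G : Type u} [Group G] [Finite G]
    [IsSimpleGroup G] (hG : ¬ IsMulCommutative G) (S : Sylow 2 G) (n : ℕ) (hn : 2 ≤ n) {F : Type v} [Field F] [Fintype F]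
    (q : ℕ) (hFq : Fintype.card F = q) (hq : Odd q) (h2 : n = 2 → q % 8 = 1 ∨ q % 8 = 7)
    {U : Subgroup G} (D : Cfsg.FusionSystem U) (hD : D.IsGeneralizedFittingOf (Cfsg.groupFusionSystem (S : Subgroup G)) 2)
    (hiso : ∃ ι : ↥U →* Matrix.ProjectiveSpecialLinearGroup (Fin n) F, D.IsRealizedBy ι ∧
      ∃ T' : Sylow 2 (Matrix.ProjectiveSpecialLinearGroup (Fin n) F), (T' : Subgroup (Matrix.ProjectiveSpecialLinearGroup (Fin n) F)) = ι.range) :
    ∃ ι : ↥(S : Subgroup G) →* Matrix.ProjectiveSpecialLinearGroup (Fin n) F,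
      (Cfsg.groupFusionSystem (S : Subgroup G)).IsRealizedBy ι ∧
        ∃ T' : Sylow 2 (Matrix.ProjectiveSpecialLinearGroup (Fin n) F), (T' : Subgroup (Matrix.ProjectiveSpecialLinearGroup (Fin n) F)) = ι.range := by
  have : Fact (Nat.Prime 2) := ⟨Nat.prime_two⟩
  have sat := H94.isSaturated_group S
  have hN := (Cfsg.Agent.S5308.result 2 S.isPGroup' _ sat).2 U D hD
  refine s5174 h hG S n hn q hFq hq h2 D hN hiso fun Y h1 h3 => le_bot_iff.1 ?_
  obtain ⟨ι, hι, T', hT'⟩ := hiso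
  have := H57.psl_fin_isSimpleGroup (F := F) hn fun e => by
    have := h2 e
    have := Fintype.one_lt_card (α := F)
    omega
  refine ((Cfsg.Agent.S5309.result 2 S.isPGroup' _ sat D hD).2 Y h1 h3).trans
    (center_bot (S.isPGroup'.to_le hN.1.2.2.2.1.1) D ?_ hι T' hT').le
  rcases hn.eq_or_lt with rfl | hn
  exacts [H61.not_isMulCommutative_psl, H89.psl_not_isMulCommutative hn]

end H16.PS
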