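import Cfsg.Agent.H25.SQExt

/-! Tower SQ, slot DE: the endgame facts lift along a central extension with odd kernel. -/

set_option autoImplicit false
set_option linter.unusedSectionVars false

namespace H16.SQDE

open H64.SG H25.SQ Subgroup
open H25.SQ.Ext (up)
open H67.SA (cm)

variable {X Y : Type} [Group X] [Group Y] {p : X →* Y} (h : H25.SQ.Ext p) {A : Subgroup X}
  {P Q S : Subgroup Y}
include h

theorem up_le (hP : IsPGroup 2 P) (c : P ≤ A.map p) : up p P ≤ A := fun _ hx =>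
  have k := (h.mem_up hP).1 hx
  h.mem_of_is2 k.1 (c k.2)

theorem up_le_ivs (hP : IsPGroup 2 P) (c : P ≤ ivs Q) : up p P ≤ ivs (Q.comap p) :=
  up_le h hP (c.trans (h.map_ivs Q).ge)

theorem sc_up (hP : IsPGroup 2 P) (c : SC P) : SC (up p P) := fun β hβ => by
  obtain ⟨u, hu, e⟩ := c _ ((h.up_le_fx hP).1 hβ)
  obtain ⟨u, k, rfl⟩ := (h.map_up hP).ge hu
  exact ⟨u, k, h.bar_eq_conj.1 e⟩

theorem lnk_up (hS : IsPGroup 2 S) (c : Lnk S P) : Lnk (up p S) (up p P) := by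
  induction c with
  | top => exact .top
  | step a b c ih =>
    refine .step (Ext.up_mono a) ?_ ih
    rw [h.Ns_up (hS.to_le (a.trans c.le))]
    exact up_le_ivs h (hS.to_le c.le) b

theorem syl_up (c : Syl S ⊤) : Syl (up p S) ⊤ := by
  have := h.fin
  have := h.finY
  refine ⟨le_top, h.isPGroup_up c.2.1, ?_⟩
  have c1 := (up p S).card_mul_index
  have c2 := S.card_mul_index
  have c3 := p.ker.card_mul_index
  rw [index_ker, MonoidHom.range_eq_top.2 h.surj, card_top, h.ker, ← c2, ← c1, h.card_up c.2.1,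
    mul_left_comm] at c3
  have c4 := c.2.2
  rw [relIndex_top_right] at c4 ⊢
  rw [← Nat.eq_of_mul_eq_mul_left Nat.card_pos c3]
  exact h.zo.mul c4

theorem O2_le (A : Subgroup X) : O2 (A.map p) ≤ (O2 A).map p := (closure_le _).2 (by
  rintro _ ⟨⟨a, ha, rfl⟩, k⟩
  exact ⟨a, subset_closure ⟨ha, h.odd_of k⟩, rfl⟩)

theorem O2_ivs (hP : IsPGroup 2 P) : O2 (ivs (Ns P)) ≤ (O2 (ivs (Ns (up p P)))).map p := by
  rw [h.Ns_up hP, ← h.map_ivs (Ns P)]; exact O2_le h _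

theorem cI_up (hP : IsPGroup 2 P) : (cI (up p P)).map h.bar = cI P := by
  conv_rhs => rw [← h.map_up hP]
  rw [cI, cI, map_map, map_map]
  congr 1
  exact MonoidHom.ext h.bar_conj

theorem oi_up (hP : IsPGroup 2 P) (N : Subgroup (MulAut X)) (α : MulAut N)
    (c : (cN P (N.map h.bar)).map
      (MulAut.congr (N.equivMapOfInjective _ h.bar_inj) α).toMonoidHom = cN P (N.map h.bar)) :
    (cN (up p P) N).map α.toMonoidHom = cN (up p P) N := by
  have k : ∀ n : N, n ∈ cN (up p P) N ↔ N.equivMapOfInjective _ h.bar_inj n ∈ cN P (N.map h.bar) :=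
    fun n => by
      rw [mem_subgroupOf, mem_subgroupOf, ← cI_up h hP]
      exact (mem_map_iff_mem h.bar_inj).symm
  ext n
  rw [k, ← c, mem_map_equiv, mem_map_equiv, k]
  simp

theorem cjs_up (hP : IsPGroup 2 P) (g : X) : cjs g (up p P) = up p (cjs (p g) P) := by
  rw [cjs_eq, h.mp_up hP, h.bar_conj]

theorem Sy_le (hP : IsPGroup 2 P) (c : Q ≤ P) {y : X} (hy : y ∈ up p P) :
    Sy Q (p y) ≤ (Sy (up p Q) y).map p := (closure_le _).2 (by
  rintro v ⟨v1, v2, v3⟩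
  obtain ⟨v, k1, rfl⟩ := h.exists_lift (is2_of_sq v1)
  obtain ⟨w, k2, k3⟩ := (h.map_up (hP.to_le c)).ge v3
  refine ⟨v, subset_closure ⟨h.sq_of k1 v1, (h.Ns_up (hP.to_le c)).ge v2, ?_⟩, rfl⟩
  have := h.conj_eq (x := v) ((h.mem_up hP).1 hy).1
    ((h.mem_up hP).1 (mul_mem (Ext.up_mono c k2) hy)).1 (by
      rw [map_mul, k3, cm, inv_mul_cancel_right])
  rwa [cm, this, mul_inv_cancel_right])

omit h in
theorem jobDE : JobDE := by
  rintro X Y _ _ p h - ⟨z, S, U₁, U₂, H⟩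
  have hS := H.syl.2.1
  have l1 := st_Lnk H.lk1
  have l2 := st_Lnk H.lk2
  have h1 := hS.to_le l1.le
  have h2 := hS.to_le l2.le
  have h3 := h2.to_le (sqs_le U₂)
  obtain ⟨z, z2, rfl⟩ := h.exists_lift (is2_of_sq H.zI.1.1)
  refine ⟨z, up p S, up p U₁, up p U₂, (h.I_iff z2).1 H.zI, syl_up h H.syl,
    ⟨(h.mem_up hS).2 ⟨z2, H.zS.1⟩, (h.Cs_up hS).ge H.zS.2⟩, fun β c => ?_, sc_up h h1 H.sc1,
    sc_up h h2 H.sc2, lnk_up h hS l1, lnk_up h hS l2, h.eq_top (eq_top_iff.2 (H.gen.ge.trans ?_)),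
    (h.sqs_up h1).ge ((h.mem_up (h1.to_le (sqs_le _))).2 ⟨z2, H.z1⟩),
    (h.sqs_up h2).ge ((h.mem_up h3).2 ⟨z2, H.z2⟩), fun N a b α c => ?_, fun β c => ?_,
    fun x hx => ?_, ?_, fun y hy => ?_, fun y hy => ?_, fun y hy O a b c => h.le_cen ?_⟩
  · exact (H.ca _ ((h.up_le_fx hS).1 c)).imp (fun k => h.bar_inj (k.trans (map_one _).symm))
      h.bar_eq_conj.1
  · rw [Subgroup.map_sup, Subgroup.map_sup, h.map_up hS]
    exact sup_le_sup (sup_le_sup_left (O2_ivs h h1) _) (O2_ivs h h2)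
  · have := H.oi (N.map h.bar) (a.map _) ((cI_up h hS).ge.trans (map_mono b))
      (MulAut.congr (N.equivMapOfInjective _ h.bar_inj) α) (by rwa [MulEquiv.orderOf_eq])
    exact ⟨oi_up h h1 N α this.1, oi_up h h2 N α this.2⟩
  · have k : mp (h.bar β) U₂ = U₂ := H.st _ (by
      have := congrArg (Subgroup.map p) c
      rwa [show (up p S).map β.toMonoidHom = mp β (up p S) from rfl, h.map_mp, h.map_up hS] at this)
    exact (h.mp_up h2 β).trans (by rw [k])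
  · have k := (h.mem_up h3).1 ((h.sqs_up h2).le hx)
    exact h.sq_of k.1 (H.el _ k.2)
  · rw [h.sqs_up h2, h.card_up h3]; exact H.big
  · obtain ⟨g, U, a, b, c⟩ := H.ya _ (h.inv2_p hy)
    obtain ⟨g, rfl⟩ := h.surj g
    have k := hS.to_le (st_Lnk b).le
    refine ⟨g, up p U, sc_up h k a, lnk_up h hS (st_Lnk b), ?_⟩
    rw [cjs_up h k, ← h.comap_Cz (is2_of_sq hy.1)]
    exact up_le_ivs h (k.map _) c
  · obtain ⟨g, U, a, b, c⟩ := H.yb _ ((h.mem_up h2).1 hy).2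
    obtain ⟨g, rfl⟩ := h.surj g
    have k := hS.to_le (st_Lnk b).le
    refine ⟨g, up p U, sc_up h k a, lnk_up h hS (st_Lnk b), ?_⟩
    rw [cjs_up h k, h.sqs_up h2]
    exact up_le h (k.map _) (c.trans (Sy_le h h2 (sqs_le _) hy))
  · rw [h.sqs_up h2] at a c
    rw [h.Cs_up h3] at a
    have := h.fin
    exact H.zo _ ((h.mem_up h2).1 hy).2 _ (map_le_iff_le_comap.2 a)
      (b.of_dvd_nat (card_map_dvd _ _)) ((Sy_le h h2 (sqs_le _) hy).trans (Ext.map_le_Ns c))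

end H16.SQDE
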