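import Cfsg.Agent.H25.SQSpec2
import Cfsg.Agent.H25.SQB

/-! Tower SQ, slot DQ3: lifting the wreath factor from `N(O)/O`. -/

set_option autoImplicit false
set_option linter.unusedSectionVars false

namespace H16.SQDQ3

open H64.SG H25.SQ Subgroup H98
open H67.SA (cm mem_cjs conj_mem_cjs)
open scoped commutatorElement

universe u

section Abs

variable {K H : Type*} [Group K] [Group H] {π : K →* H} {C : Subgroup K}

theorem cl {L : Type*} [Group L] (A : Subgroup L) : ⁅A, A⁆ ≤ A :=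
  commutator_le.2 fun _ ha _ hb => mul_mem (mul_mem (mul_mem ha hb) (inv_mem ha)) (inv_mem hb)

theorem lift_perf (hk : ∀ k, π k = 1 → k ∈ Cs C) {B' : Subgroup H} (h1 : B' ≤ C.map π)
    (h2 : B' ≤ ⁅B', B'⁆) : ∃ B ≤ C, B.map π = B' ∧ B ≤ ⁅B, B⁆ := by
  let D := C ⊓ B'.comap π
  have d1 : D.map π = B' := le_antisymm (map_le_iff_le_comap.2 inf_le_right) fun b hb => by
    obtain ⟨c, hc, rfl⟩ := h1 hb
    exact ⟨c, ⟨hc, hb⟩, rfl⟩
  have d2 : (⁅D, D⁆ : Subgroup K).map π = B' := by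
    rw [map_commutator, d1]; exact le_antisymm (cl _) h2
  have d3 : ∀ a ∈ D, ∃ a' ∈ ⁅D, D⁆, ∃ z ∈ Cs C, a = a' * z := fun a ha => by
    obtain ⟨a', h3, h4⟩ := d2.ge ha.2
    exact ⟨a', h3, a'⁻¹ * a, hk _ (by rw [map_mul, map_inv, h4, inv_mul_cancel]), by group⟩
  refine ⟨⁅D, D⁆, (cl _).trans inf_le_left, d2, commutator_le.2 fun a ha b hb => ?_⟩
  obtain ⟨a', a1, z, z1, rfl⟩ := d3 a ha
  have e1 : ⁅a' * z, b⁆ = ⁅a', b⁆ := by
    rw [commutatorElement_def, commutatorElement_def, mul_assoc a' z, ← z1 b hb.1]; group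
  obtain ⟨b', b1, w, w1, rfl⟩ := d3 b hb
  have e2 : ⁅a', b' * w⁆ = ⁅a', b'⁆ := by
    rw [commutatorElement_def, commutatorElement_def, mul_assoc a', mul_assoc a', mul_assoc b' w,
      ← w1 _ (inv_mem (cl D a1).1)]; group
  rw [e1, e2]
  exact commutator_mem_commutator a1 b1

theorem cen_of (hk : ∀ k, π k = 1 → k ∈ Cs C) {P : Subgroup K} (h1 : P ≤ C) (h2 : P ≤ ⁅P, P⁆)
    {g : K} (hg : g ∈ C) (h3 : ∀ l ∈ P, π l * π g = π g * π l) : g ∈ Cs P := by
  have k1 : ∀ l : P, g * l * g⁻¹ * (l : K)⁻¹ ∈ Cs C := fun l => hk _ (by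
    rw [map_mul, map_mul, map_mul, ← h3 l l.2, map_inv, map_inv]; group)
  have k2 : ∀ l : P, g * l * g⁻¹ * (l : K)⁻¹ ∈ C := fun l =>
    mul_mem (mul_mem (mul_mem hg (h1 l.2)) (inv_mem hg)) (inv_mem (h1 l.2))
  let φ : P →* K := MonoidHom.mk' (fun l => g * l * g⁻¹ * (l : K)⁻¹) fun a b => by
    have := k1 b _ (inv_mem (h1 a.2))
    rw [coe_mul, mul_assoc _ (a : K)⁻¹, this]; group
  intro l hl
  have k3 : g * l * g⁻¹ * l⁻¹ = 1 := eq_one_of_perfect h2 φ (fun a b => k1 b _ (k2 a)) ⟨l, hl⟩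
  exact (mul_inv_eq_iff_eq_mul.1 (mul_inv_eq_one.1 k3)).symm

end Abs

open Classical in
/-- The cover given by an isomorphism. -/
noncomputable def covIso {X : Type} [Group X] {G : Type u} [Group G] {B : Subgroup G}
    (ψ : B ≃* X) : Cov X B where
  pi g := if h : g ∈ B then ψ ⟨g, h⟩ else 1
  ac n := if h : n ∈ Ns B then MulAut.congr ψ (B.normalizerMonoidHom ⟨n, h⟩) else 1
  pi_mul a ha b hb := by
    rw [dif_pos ha, dif_pos hb, dif_pos (mul_mem ha hb), ← map_mul]; rfl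
  ac_mul a ha b hb := by
    rw [dif_pos ha, dif_pos hb, dif_pos (mul_mem ha hb), ← map_mul, ← map_mul]; rfl
  surj g := ⟨ψ.symm g, (ψ.symm g).2, by rw [dif_pos (ψ.symm g).2]; exact ψ.apply_symm_apply g⟩
  ac_pi n hn l hl := by
    rw [dif_pos hn, dif_pos hl, dif_pos (conj_mem_of_mem_normalizer hn hl)]
    change _ = ψ (B.normalizerMonoidHom ⟨n, hn⟩ (ψ.symm (ψ ⟨l, hl⟩)))
    rw [ψ.symm_apply_apply]; rfl
  ker_cen l hl e := by
    rw [dif_pos hl, EmbeddingLike.map_eq_one_iff] at e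
    rw [show l = 1 from congrArg Subtype.val e]; exact one_mem _
  ker_odd l hl e := by
    rw [dif_pos hl, EmbeddingLike.map_eq_one_iff] at e
    rw [show l = 1 from congrArg Subtype.val e, orderOf_one]; exact odd_one
  ac_ker n hn e := by
    rw [dif_pos hn, EmbeddingLike.map_eq_one_iff, ← MonoidHom.mem_ker,
      normalizerMonoidHom_ker] at e
    exact e

theorem covIso_pi {X : Type} [Group X] {G : Type u} [Group G] {B : Subgroup G} (ψ : B ≃* X)
    (l : B) : (covIso ψ).pi l = ψ l := dif_pos l.2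

theorem jobDQ3 : JobDQ3.{u} := by
  intro X Y _ _ G _ _ p e t O hp hF hC hA hM hZ H _ _ π f hQ t' ht B' c' hW
  have b1 := hC.toB1
  have eC : ∀ x, e x ∈ Cs O := fun x o ho => ((hA.le ho).1 _ ⟨x, rfl⟩).symm
  let C : Subgroup (Ns O) := (Cs O).subgroupOf (Ns O)
  have Cn : C.Normal := ⟨fun c hc n =>
    conj_mem_of_mem_normalizer (G := G) (normalizer_le_normalizer_centralizer _ n.2) hc⟩
  have hk : ∀ k, π k = 1 → k ∈ Cs C := fun k h c hc =>
    Subtype.ext (hc _ ((hQ.ker k).1 h)).symm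
  have Cm := Cn.map π hQ.surj
  have cmm : ∀ l ∈ B', ∀ m ∈ B', π t' * m * (π t')⁻¹ * l = l * (π t' * m * (π t')⁻¹) :=
    fun l hl m hm => hW.comm hl _ (conj_mem_cjs.2 hm)
  have h1 : B' ≤ C.map π := hW.perf.trans (commutator_le.2 fun l hl m hm => by
    obtain ⟨x, hx⟩ := hp.surj (c'.pi m)
    have k1 : m * (π t' * m * (π t')⁻¹) ∈ C.map π := by
      rw [hW.diag m hm, ← hx]
      exact ⟨⟨e x, Cs_le_Ns _ (eC x)⟩, eC x, hQ.ee x _ rfl⟩
    have k2 := mul_mem (Cm.conj_mem _ k1 l) (inv_mem k1)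
    rwa [mul_assoc l, mul_assoc m, cmm _ (inv_mem hl) m hm,
      show l * (m * (l⁻¹ * (π t' * m * (π t')⁻¹))) * (m * (π t' * m * (π t')⁻¹))⁻¹ = ⁅l, m⁆ by
        rw [commutatorElement_def]; group] at k2)
  obtain ⟨B0, a1, a2, a3⟩ := lift_perf hk h1 hW.perf
  have a4 : ∀ l ∈ B0, π l ∈ B' := fun l hl => a2.le ⟨l, hl, rfl⟩
  let B : Subgroup G := B0.map (Ns O).subtype
  have perf : B ≤ ⁅B, B⁆ := map_perf _ a3
  have comm : B ≤ Cs (cjs t B) := by
    rintro _ ⟨l, hl, rfl⟩ _ ⟨_, ⟨m, hm, rfl⟩, rfl⟩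
    have := cen_of hk a1 a3 (Cn.conj_mem m (a1 hm) t') (fun l hl => by
      rw [map_mul, map_mul, map_inv]; exact (cmm _ (a4 l hl) _ (a4 m hm)).symm) l hl
    rw [← ht]
    exact (congrArg Subtype.val this).symm
  have r0 : (H25.SQ.B.dg comm).range ≤ e.range := hA.pf _ (by
      rintro _ ⟨l, rfl⟩
      refine mem_Cz.2 (mul_inv_eq_iff_eq_mul.1 ?_)
      change t * (l * (t * l * t⁻¹)) * t⁻¹ = l * (t * l * t⁻¹)
      rw [← conj_mul, H99.Wr.tt_conj b1.tt, comm l.2 _ (conj_mem_cjs.2 l.2)]) (by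
      rw [MonoidHom.range_eq_map]
      exact map_perf _ (H25.SQ.B.top_perf perf))
  let ψ : B →* X := (MonoidHom.ofInjective b1.inj).symm.toMonoidHom.comp
    ((H25.SQ.B.dg comm).codRestrict e.range fun l => r0 ⟨l, rfl⟩)
  have eψ : ∀ l : B, e (ψ l) = l * (t * l * t⁻¹) := fun l =>
    MonoidHom.apply_ofInjective_symm b1.inj _
  have pψ : ∀ l (hl : l ∈ B0), p (ψ ⟨l, l, hl, rfl⟩) = c'.pi (π l) := fun l hl => hW.inj (by
    rw [← hQ.ee _ (l * (t' * l * t'⁻¹)) (by rw [eψ, ← ht]; rfl), ← hW.diag _ (a4 l hl),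
      map_mul, map_mul, map_mul, map_inv])
  have s1 : Function.Surjective (p.comp ψ) := fun y => by
    obtain ⟨m, hm, rfl⟩ := c'.surj y
    obtain ⟨l, hl, rfl⟩ := a2.ge hm
    exact ⟨_, pψ l hl⟩
  have s2 : Function.Surjective ψ := MonoidHom.range_eq_top.1 (hF.eq_top_of_cen fun x => by
    obtain ⟨l, hl⟩ := s1 (p x)
    refine ⟨ψ l, ⟨l, rfl⟩, hp.ker.le ?_⟩
    rw [MonoidHom.mem_ker, map_mul, map_inv, ← hl]; exact inv_mul_cancel _)
  have k6 := hM B (p.comp ψ) s1 (by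
    rintro ⟨_, l, hl, rfl⟩ h
    have k1 := c'.ker_cen _ (a4 l hl) ((pψ l hl).symm.trans h)
    have k2 := cen_of hk a1 a3 (a1 hl) fun m hm => k1 _ (a4 m hm)
    refine mem_center_iff.2 ?_
    rintro ⟨_, m, hm, rfl⟩
    exact Subtype.ext (congrArg (Ns O).subtype (k2 m hm))) (le_top.trans (H25.SQ.B.top_perf perf))
  have ko : Odd (Nat.card ψ.ker) := odd_card_of_forall (by
    rintro ⟨_, l, hl, rfl⟩ h
    have k1 := c'.ker_odd _ (a4 l hl) ((pψ l hl).symm.trans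
      ((congrArg p (MonoidHom.mem_ker.1 h)).trans (map_one p)))
    have k2 := odd_orderOf_of_mem hA.odd ((hQ.ker (l ^ orderOf (π l))).1 (by
      rw [map_pow, pow_orderOf_eq_one]))
    refine (k1.mul k2).of_dvd_nat (orderOf_dvd_of_pow_eq_one (Subtype.ext ?_))
    change (l : G) ^ _ = 1
    rw [pow_mul, ← coe_pow, pow_orderOf_eq_one])
  have := hp.fin
  have : Finite Y := Finite.of_surjective _ hp.surj
  have c1 := (p.comp ψ).ker.card_mul_index
  have c2 := ψ.ker.card_mul_index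
  have c3 := p.ker.card_mul_index
  rw [index_ker, MonoidHom.range_eq_top.2 s1, card_top] at c1
  rw [index_ker, MonoidHom.range_eq_top.2 s2, card_top] at c2
  rw [index_ker, MonoidHom.range_eq_top.2 hp.surj, card_top, hp.ker] at c3
  have c4 : Nat.card (p.comp ψ).ker = Nat.card ψ.ker * Nat.card (center X) :=
    Nat.eq_of_mul_eq_mul_right (Nat.card_pos (α := Y)) (by rw [c1, mul_assoc, c3, c2])
  have c5 : Nat.card (center X) ≠ 1 := fun h => hZ (card_eq_one.1 h)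
  have c6 := Nat.le_of_dvd (by norm_num) (c4 ▸ k6)
  obtain ⟨a, ha⟩ := ko
  obtain ⟨b, hb⟩ := hp.zo
  have c7 : Nat.card ψ.ker = 1 := by
    rw [ha, hb] at c6; rw [hb] at c5; rw [ha]
    rcases a with _ | a
    · rfl
    · exfalso; rcases b with _ | b
      · exact c5 rfl
      · nlinarith
  have inj : Function.Injective ψ := (MonoidHom.ker_eq_bot_iff ψ).1 (card_eq_one.1 c7)
  refine ⟨B, covIso (MulEquiv.ofBijective ψ ⟨inj, s2⟩), comm, perf, fun l hl => ?_⟩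
  exact (eψ ⟨l, hl⟩).symm.trans (congrArg e (covIso_pi (MulEquiv.ofBijective ψ ⟨inj, s2⟩) ⟨l, hl⟩).symm)

end H16.SQDQ3
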