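import Cfsg.Agent.H25.STAut

/-! STD-S, fact `FE` for `ON`, part 1: consequences of the structure of `S` and `L = 4³`. -/

set_option autoImplicit false
set_option linter.unusedSectionVars false
set_option maxHeartbeats 400000

namespace H16.STE

open H64.SG Subgroup H25.ST
open H67.SA (cm mem_cjs conj_mem_cjs card_cjs cm_eq_one)

variable {X : Type} [Group X]

/-- `w ∈ ⟨z, a⟩` -/
def V4 (z a w : X) : Prop := w = 1 ∨ w = z ∨ w = a ∨ w = a * z

/-- The facts about `S` and `L`. -/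
structure Md (z ζ a : X) (S L : Subgroup X) : Prop where
  syl : Syl S ⊤
  LS : L ≤ S
  ab : L ≤ Cs L
  p4 : ∀ μ ∈ L, μ * μ * (μ * μ) = 1
  uq : ∀ A ≤ S, A ≤ Cs A → Nat.card A = 64 → A = L
  card : Nat.card L = 64
  ζL : ζ ∈ L
  ζz : ζ * ζ = z
  z1 : z ≠ 1
  sζ : ∀ s ∈ S, s * ζ * s⁻¹ = ζ ∨ s * ζ * s⁻¹ = ζ⁻¹
  zS : ∀ w ∈ S, w ∈ Cs S → w = 1 ∨ w = z
  ce : ∀ w, (∀ e ∈ L, e * e = 1 → e * w = w * e) → w ∈ L
  aL : a ∈ L
  aa : a * a = 1
  a1 : a ≠ 1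
  az : a ≠ z
  aP : ∀ s ∈ S, s * a * s⁻¹ = a ∨ s * a * s⁻¹ = a * z
  v1 : ∀ w ∈ L, w * w = 1 → (∀ s ∈ S, s * w * s⁻¹ = w ∨ s * w * s⁻¹ = w * z) → V4 z a w
  v2 : ∀ w ∈ L, ∀ w' ∈ L, w * w = 1 → w' * w' = 1 → V4 z a w ∨ V4 z a w' ∨ V4 z a (w * w')
  iv : S ≤ ivs S
  one : ∀ y, Inv2 y → IsConj z y
  sc : SC L

theorem fix_step {N : Type*} [Group N] (hN : IsPGroup 2 N) {α : MulAut N} (ho : Odd (orderOf α))
    {n : N} (h : α n * n⁻¹ ∈ fx α) : n ∈ fx α := by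
  have k : ∀ i : ℕ, (α ^ i) n = (α n * n⁻¹) ^ i * n := fun i => by
    induction i with
    | zero => simp
    | succ i ih =>
      rw [pow_succ', MulAut.mul_apply, ih, map_mul, map_pow, mem_fx.1 h, pow_succ]; group
  have k1 := k (orderOf α)
  rw [pow_orderOf_eq_one, MulAut.one_apply, right_eq_mul] at k1
  exact mul_inv_eq_one.1 (Is2.eq_one (hN _) (ho.of_dvd_nat (orderOf_dvd_of_pow_eq_one k1)))

namespace Md

variable {z ζ a : X} {S L : Subgroup X} (h : Md z ζ a S L)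
include h

theorem comm {μ ν : X} (h1 : μ ∈ L) (h2 : ν ∈ L) : μ * ν = ν * μ := h.ab h2 μ h1
theorem zL : z ∈ L := h.ζz ▸ mul_mem h.ζL h.ζL
theorem zz : z * z = 1 := h.ζz ▸ h.p4 ζ h.ζL
theorem ζinv : ζ⁻¹ = ζ * z :=
  inv_eq_of_mul_eq_one_right (by rw [← mul_assoc, h.ζz, h.zz])
theorem sz {s : X} (hs : s ∈ S) : s * z * s⁻¹ = z := by
  rw [← h.ζz, ← conj_mul]
  rcases h.sζ s hs with e | e <;> rw [e]
  rw [← mul_inv_rev, h.ζz, inv_eq_of_mul_eq_one_right h.zz]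
theorem S_le : S ≤ Cz z := fun _ hs => mem_Cz.2 (mul_inv_eq_iff_eq_mul.1 (h.sz hs)).symm
theorem two : IsPGroup 2 S := h.syl.2.1

/-- two elements of `L` with the same square -/
theorem sq_div {μ ν : X} (h1 : μ ∈ L) (h2 : ν ∈ L) (e : μ * μ = ν * ν) : μ * ν⁻¹ * (μ * ν⁻¹) = 1 := by
  rw [mul_assoc, ← mul_assoc ν⁻¹, ← h.comm h1 (inv_mem h2), mul_assoc, ← mul_assoc μ, e]; group

theorem st {β : MulAut X} (e : mp β S = S) : mp β L = L :=
  h.uq _ (e ▸ (mp_le β).2 h.LS) (by rw [← mp_Cs]; exact (mp_le β).2 h.ab) (by rw [card_mp, h.card])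

theorem nL : S ≤ Ns L := fun _ hs => mem_Ns_iff.2 (h.st (mem_Ns_iff.1 (le_normalizer hs)))

theorem fix_z {β : MulAut X} (e : mp β S = S) : β z = z := by
  have h1 : z ∈ S ⊓ Cs S := ⟨h.LS h.zL, fun s hs => (mem_Cz.1 (h.S_le hs)).symm⟩
  have h2 := (map_mem_mp β).2 h1
  rw [mp_inf, mp_Cs, e] at h2
  exact (h.zS _ h2.1 h2.2).resolve_left fun e => h.z1 ((map_eq_one_iff β β.injective).1 e)

theorem ca (β : MulAut X) (e : S ≤ fx β) : β = 1 ∨ β = MulAut.conj z := by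
  obtain ⟨u, hu, rfl⟩ := h.sc β (h.LS.trans e)
  rw [fx_conj] at e
  rcases h.zS u (h.LS hu) fun s hs => (mem_Cz.1 (e hs)).symm with rfl | rfl
  exacts [.inl (map_one _), .inr rfl]

theorem scS : SC S := fun β e => by
  obtain ⟨u, hu, e⟩ := h.sc β (h.LS.trans e)
  exact ⟨u, h.LS hu, e⟩

theorem mem_sqs_le {e : X} (he : e ∈ sqs L) : e ∈ L ∧ e * e = 1 := by
  refine ⟨sqs_le L he, ?_⟩
  induction he using closure_induction with
  | mem x hx => obtain ⟨μ, hμ, rfl⟩ := hx; exact h.p4 μ hμ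
  | one => exact mul_one _
  | mul x y hx hy e1 e2 =>
    rw [mul_assoc, ← mul_assoc y, ← h.comm (sqs_le L hx) (sqs_le L hy), mul_assoc, e2, mul_one, e1]
  | inv x _ e1 => rw [← mul_inv_rev, e1, inv_one]

variable [Finite X]

/-- `N(L)` is transitive on the involutions of `L` -/
theorem trans {e : X} (he : e ∈ L) (h2 : e * e = 1) (h1 : e ≠ 1) : ∃ n ∈ Ns L, n * z * n⁻¹ = e := by
  obtain ⟨g, rfl⟩ := isConj_iff.1 (h.one e ⟨h2, h1⟩)
  have s : H98.IsSyl 2 S (Cz z) := (syl_iff.1 h.syl).of_le h.S_le le_top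
  obtain ⟨c, hc, k⟩ := s.exists_cj_le (isPGroup_mp (MulAut.conj g⁻¹) (h.two.to_le h.LS)) (by
    rintro _ ⟨μ, hμ, rfl⟩
    refine mem_Cz.2 ?_
    show z * (g⁻¹ * μ * g⁻¹⁻¹) = g⁻¹ * μ * g⁻¹⁻¹ * z
    calc _ = g⁻¹ * (g * z * g⁻¹ * μ) * g := by group
      _ = _ := by rw [h.comm he hμ]; group)
  have k1 : cjs (c * g⁻¹) L = L := h.uq _ (by rw [cjs_mul]; exact k)
    (by rw [cjs_eq, ← mp_Cs]; exact (mp_le _).2 h.ab) (by rw [card_cjs, h.card])
  refine ⟨(c * g⁻¹)⁻¹, inv_mem (mem_Ns_iff.2 k1), ?_⟩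
  calc _ = g * (c⁻¹ * (z * c)) * g⁻¹ := by group
    _ = _ := by rw [mem_Cz.1 hc]; group

theorem rt {e : X} (he : e ∈ L) (h2 : e * e = 1) : e ∈ sqs L := by
  by_cases h1 : e = 1
  · exact h1 ▸ one_mem _
  obtain ⟨n, hn, rfl⟩ := h.trans he h2 h1
  rw [← h.ζz, ← conj_mul]
  exact sq_mem_sqs (H98.conj_mem_of_mem_normalizer hn h.ζL)

theorem mem_sqs {e : X} : e ∈ sqs L ↔ e ∈ L ∧ e * e = 1 := ⟨h.mem_sqs_le, fun k => h.rt k.1 k.2⟩

theorem cE : Cs (sqs L) ≤ L := fun w hw => h.ce w fun e he h2 => hw e (h.rt he h2)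

/-- every element of `L` is conjugate to `ζ` modulo `E`, or lies in `E` -/
theorem dec {μ : X} (hμ : μ ∈ L) : μ ∈ sqs L ∨ ∃ n ∈ Ns L, ∃ e ∈ sqs L, μ = e * (n * ζ * n⁻¹) := by
  by_cases h1 : μ * μ = 1
  · exact .inl (h.rt hμ h1)
  obtain ⟨n, hn, e⟩ := h.trans (mul_mem hμ hμ) (h.p4 μ hμ) h1
  have m := H98.conj_mem_of_mem_normalizer hn h.ζL
  exact .inr ⟨n, hn, _, h.rt (mul_mem hμ (inv_mem m)) (h.sq_div hμ m (by rw [conj_mul, h.ζz, e])),
    by group⟩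

theorem mp_L {τ : MulAut X} (hτ : sqs L ≤ fx τ) {μ : X} (hμ : μ ∈ L) : τ μ ∈ L :=
  h.cE fun e he => by rw [← mem_fx.1 (hτ he), ← map_mul, ← map_mul, h.comm (sqs_le L he) hμ]

/-- an outer automorphism that centralises `E` -/
theorem tau {τ : MulAut X} (ho : ¬ Inn τ) (hτ : sqs L ≤ fx τ) :
    (∀ μ ∈ L, τ μ = μ⁻¹) ∧ τ * τ = 1 := by
  have c : ∀ n ∈ Ns L, τ n * n⁻¹ ∈ L := fun n hn => h.cE fun e he => by
    have h1 := mem_fx.1 (hτ (H98.conj_mem_of_mem_normalizer' (Ns_le_Ns_sqs L hn) he))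
    rw [map_mul, map_mul, map_inv, mem_fx.1 (hτ he)] at h1
    calc _ = τ n * ((τ n)⁻¹ * e * τ n) * n⁻¹ := by group
      _ = _ := by rw [h1]; group
  have eqv : ∀ n ∈ Ns L, ∀ μ ∈ L, τ (n * μ * n⁻¹) = n * τ μ * n⁻¹ := fun n hn μ hμ => by
    have := h.comm (c n hn) (H98.conj_mem_of_mem_normalizer hn (h.mp_L hτ hμ))
    rw [map_mul, map_mul, map_inv]
    calc _ = τ n * n⁻¹ * (n * τ μ * n⁻¹) * (τ n * n⁻¹)⁻¹ := by group
      _ = _ := by rw [this]; group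
  have tζ := h.mp_L hτ h.ζL
  have fz : τ z = z := mem_fx.1 (hτ (h.rt h.zL h.zz))
  have sq := h.sq_div tζ h.ζL (by rw [← map_mul, h.ζz, fz])
  have h1 : τ ζ * ζ⁻¹ = 1 ∨ τ ζ * ζ⁻¹ = z := by
    refine h.zS _ (h.LS (mul_mem tζ (inv_mem h.ζL))) fun s hs => mul_inv_eq_iff_eq_mul.1 ?_
    rw [← conj_mul, ← eqv s (h.nL hs) ζ h.ζL, ← conj_inv]
    rcases h.sζ s hs with e | e <;> rw [e]
    rw [map_inv, inv_inv, ← inv_eq_of_mul_eq_one_right sq, mul_inv_rev, inv_inv,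
      h.comm h.ζL (inv_mem tζ)]
  have h2 : ∀ μ ∈ L, τ μ = μ⁻¹ := by
    rcases h1 with h1 | h1
    · refine absurd ((h.sc τ fun μ hμ => ?_).imp fun _ k => k.2) ho
      rcases h.dec hμ with k | ⟨n, hn, e, he, rfl⟩
      · exact hτ k
      · exact mul_mem (hτ he) (mem_fx.2 (by rw [eqv n hn ζ h.ζL, mul_inv_eq_one.1 h1]))
    · intro μ hμ
      have h3 : τ ζ = ζ⁻¹ := by rw [mul_inv_eq_iff_eq_mul.1 h1, h.ζinv, h.comm h.zL h.ζL]
      rcases h.dec hμ with k | ⟨n, hn, e, he, rfl⟩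
      · rw [mem_fx.1 (hτ k), inv_eq_of_mul_eq_one_right (h.mem_sqs_le k).2]
      · rw [map_mul, eqv n hn ζ h.ζL, h3, mem_fx.1 (hτ he), ← conj_inv, mul_inv_rev e,
          inv_eq_of_mul_eq_one_right (h.mem_sqs_le he).2]
        exact h.comm (sqs_le L he) (inv_mem (H98.conj_mem_of_mem_normalizer hn h.ζL))
  refine ⟨h2, ?_⟩
  obtain ⟨l, hl, e⟩ := h.sc (τ * τ) fun μ hμ => mem_fx.2 (by
    rw [MulAut.mul_apply, h2 μ hμ, map_inv, h2 μ hμ, inv_inv])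
  have k : ∀ n ∈ Ns L, n * l = l * n := fun n hn => by
    have h3 : (τ * τ) n = n := by
      have := h2 _ (c n hn)
      rw [map_mul, map_inv, mul_inv_eq_iff_eq_mul] at this
      rw [MulAut.mul_apply, this]; group
    rw [e] at h3
    exact (mul_inv_eq_iff_eq_mul.1 h3).symm
  rcases h.zS l (h.LS hl) fun s hs => k s (h.nL hs) with rfl | rfl
  · rw [e, map_one]
  · obtain ⟨n, hn, e1⟩ := h.trans h.aL h.aa h.a1
    rw [k n hn, mul_inv_cancel_right] at e1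
    exact absurd e1.symm h.az

theorem mov : ∃ n ∈ O2 (ivs (Ns L)), n * z * n⁻¹ ∈ L ∧ n * z * n⁻¹ ≠ z := by
  by_contra hn
  have nO : Ns L ≤ Ns (O2 (ivs (Ns L))) := fun g hg =>
    mem_Ns_iff.2 (by rw [cjs_eq, mp_O2, mp_ivs, ← cjs_eq, mem_Ns_iff.1 (le_normalizer hg)])
  have le := (O2_le _).trans (ivs_le (Ns L))
  have h1 : ∀ n ∈ O2 (ivs (Ns L)), n * z * n⁻¹ = z := fun n k => by_contra fun e =>
    hn ⟨n, k, H98.conj_mem_of_mem_normalizer (le k) h.zL, e⟩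
  have h2 : O2 (ivs (Ns L)) ≤ L := fun n k => h.ce n fun e he e2 => by
    by_cases e1 : e = 1
    · simp [e1]
    obtain ⟨m, hm, rfl⟩ := h.trans he e2 e1
    have := h1 _ (H98.conj_mem_of_mem_normalizer' (nO hm) k)
    calc _ = m * (m⁻¹ * n * m * z * (m⁻¹ * n * m)⁻¹) * m⁻¹ * n := by rw [this]
      _ = _ := by group
  have h3 : IsPGroup 2 (ivs (Ns L)) := isPGroup_iff_is2.2 fun g hg => by
    obtain ⟨i, j, e1, e2, e3⟩ := exists_two_odd g
    rw [Is2.eq_one (isPGroup_iff_is2.1 h.two _ (h.LS (h2 (mem_O2_of_odd (pow_mem hg j) e3)))) e3,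
      mul_one] at e1
    exact e1 ▸ e2
  have h4 := (syl_iff.1 h.syl).eq_of_le h3 (h.iv.trans (ivs_mono h.nL)) le_top
  obtain ⟨n, k, e⟩ := h.trans h.aL h.aa h.a1
  have := h.fix_z (β := MulAut.conj n) (by
    rw [← h4, ← cjs_eq]; exact mem_Ns_iff.1 (Ns_le_Ns_ivs _ (le_normalizer k)))
  exact h.az (e.symm.trans this)

theorem ya (y : X) (hy : Inv2 y) : ∃ g U, SC U ∧ Lnk S U ∧ cjs g U ≤ ivs (Cz y) := by
  obtain ⟨g, rfl⟩ := isConj_iff.1 (h.one y hy)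
  refine ⟨g, S, h.scS, .top, ?_⟩
  have := (mp_le (MulAut.conj g)).2 (h.iv.trans (ivs_mono h.S_le))
  rwa [mp_ivs, mp_Cz] at this

theorem yb (y : X) (hy : y ∈ L) : ∃ g U, SC U ∧ Lnk S U ∧ cjs g U ≤ Sy (sqs L) y := by
  obtain ⟨n, hn, e⟩ : ∃ n ∈ Ns L, ∀ s ∈ S, n * s * n⁻¹ * (y * y) * (n * s * n⁻¹)⁻¹ = y * y := by
    by_cases h1 : y * y = 1
    · exact ⟨1, one_mem _, fun s _ => by rw [h1]; group⟩
    obtain ⟨n, hn, e⟩ := h.trans (mul_mem hy hy) (h.p4 y hy) h1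
    refine ⟨n, hn, fun s hs => ?_⟩
    rw [← e]
    conv_rhs => rw [← h.sz hs]
    group
  refine ⟨n, S, h.scS, .top, ((mp_le (MulAut.conj n)).2 h.iv).trans ?_⟩
  rw [mp_ivs]
  refine closure_mono ?_
  rintro _ ⟨⟨s, hs, rfl⟩, k⟩
  have m : n * s * n⁻¹ ∈ Ns L := mul_mem (mul_mem hn (h.nL hs)) (inv_mem hn)
  have m1 := H98.conj_mem_of_mem_normalizer m hy
  exact ⟨k, Ns_le_Ns_sqs L m, h.rt (mul_mem m1 (inv_mem hy))
    (h.sq_div m1 hy (by rw [conj_mul]; exact e s hs))⟩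

theorem zo (O : Subgroup X) (h1 : O ≤ Cs (sqs L)) (h2 : Odd (Nat.card O)) : O = ⊥ :=
  eq_bot_iff.2 fun g hg => Is2.eq_one (isPGroup_iff_is2.1 h.two _ (h.LS (h.cE (h1 hg))))
    (h2.of_dvd_nat (orderOf_dvd_natCard _ hg))

theorem big : 2 < Nat.card (sqs L) := by
  have : Fintype (sqs L) := Fintype.ofFinite _
  rw [Nat.card_eq_fintype_card, Fintype.two_lt_card_iff]
  exact ⟨1, ⟨z, h.rt h.zL h.zz⟩, ⟨a, h.rt h.aL h.aa⟩, fun e => h.z1 (congrArg Subtype.val e).symm,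
    fun e => h.a1 (congrArg Subtype.val e).symm, fun e => h.az (congrArg Subtype.val e).symm⟩

/-- A `2`-group of automorphisms over `S` has no automorphisms of odd order. -/
theorem odd_one (hF : F0 X) (N : Subgroup (MulAut X)) (hN : IsPGroup 2 N) (hS : cI S ≤ N)
    (α : MulAut N) (ho : Odd (orderOf α)) : α = 1 := by
  classical
  have := hF.finite_aut
  have inn : ∀ n : N, Inn (n : MulAut X) → ∃ w ∈ S, (n : MulAut X) = MulAut.conj w := fun n k => by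
    obtain ⟨w, hw, e⟩ := Th.mem_cI hF h.syl hN hS n.2 k
    exact ⟨w, hw, e.symm⟩
  let f : X → N := fun w => if k : w ∈ S then ⟨MulAut.conj w, hS (mem_map_of_mem _ k)⟩ else 1
  have fv : ∀ {w}, w ∈ S → (f w : MulAut X) = MulAut.conj w := fun k => by simp only [f, dif_pos k]
  have fm : ∀ {v w}, v ∈ S → w ∈ S → f (v * w) = f v * f w := fun k1 k2 => Subtype.ext (by
    rw [coe_mul, fv k1, fv k2, fv (mul_mem k1 k2), map_mul])
  have fi : ∀ {w}, w ∈ S → f w⁻¹ = (f w)⁻¹ := fun k => Subtype.ext (by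
    rw [coe_inv, fv k, fv (inv_mem k), map_inv])
  have f1 : f 1 = 1 := Subtype.ext (by rw [fv (one_mem _), map_one, coe_one])
  have fj : ∀ {v w}, v ∈ S → w ∈ S → f v = f w → v = w := fun k1 k2 e =>
    hF.conj_inj (by rw [← fv k1, ← fv k2, e])
  have nS : ∀ (n : N) {w}, w ∈ S → (n : MulAut X) w ∈ S := fun n w k => by
    obtain ⟨v, hv, e⟩ := inn (n * f w * n⁻¹) (by rw [coe_mul, coe_mul, coe_inv, fv k, aut_conj]; exact inn_conj _)
    rw [coe_mul, coe_mul, coe_inv, fv k, aut_conj] at e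
    exact hF.conj_inj e ▸ hv
  have fc : ∀ (n : N) {w}, w ∈ S → n * f w * n⁻¹ = f ((n : MulAut X) w) := fun n w k =>
    Subtype.ext (by rw [coe_mul, coe_mul, coe_inv, fv k, aut_conj, fv (nS n k)])
  have mS : ∀ n : N, mp (n : MulAut X) S = S := fun n => eq_of_le_of_card_ge
    (by rintro _ ⟨w, k, rfl⟩; exact nS n k) (card_mp _ S).ge
  have nL : ∀ (n : N) {w}, w ∈ L → (n : MulAut X) w ∈ L := fun n w k =>
    (h.st (mS n)).le ((map_mem_mp _).2 k)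
  have nE : ∀ (n : N) {w}, w ∈ sqs L → (n : MulAut X) w ∈ sqs L := fun n w k =>
    h.rt (nL n (sqs_le L k)) (by rw [← map_mul, (h.mem_sqs_le k).2, map_one])
  have ES : sqs L ≤ S := (sqs_le L).trans h.LS
  have mE : ∀ n : N, n ∈ cN (sqs L) N ↔ ∃ e ∈ sqs L, f e = n := fun n =>
    ⟨fun ⟨e, he, k⟩ => ⟨e, he, Subtype.ext ((fv (ES he)).trans k)⟩,
      fun ⟨e, he, k⟩ => ⟨e, he, k ▸ (fv (ES he)).symm⟩⟩
  have innE : ∀ n : N, Inn (n : MulAut X) → sqs L ≤ fx (n : MulAut X) → ∃ w ∈ L, f w = n :=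
    fun n k1 k2 => by
      obtain ⟨w, hw, e⟩ := inn n k1
      rw [e, fx_conj] at k2
      exact ⟨w, h.cE fun x hx => (mem_Cz.1 (k2 hx)).symm, Subtype.ext ((fv hw).trans e.symm)⟩
  -- `α` fixes `E`
  have aE : ∀ e ∈ sqs L, ∃ w ∈ sqs L, f w = α (f e) := fun e he => by
    have A : ∀ m : N, ∃ x ∈ sqs L, α (f x) = α (f e) * m * (α (f e))⁻¹ * m⁻¹ := fun m => by
      obtain ⟨m, rfl⟩ := α.surjective m
      refine ⟨e * (m : MulAut X) e⁻¹, mul_mem he (nE m (inv_mem he)), ?_⟩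
      rw [fm (ES he) (nS m (inv_mem (ES he))), ← fc m (inv_mem (ES he)), fi (ES he)]
      simp only [map_mul, map_inv, mul_assoc]
    have sq : ∀ x ∈ sqs L, α (f x) * α (f x) = 1 := fun x hx => by
      rw [← map_mul, ← fm (ES hx) (ES hx), (h.mem_sqs_le hx).2, f1, map_one]
    have B : ∀ μ ∈ L, ∃ x ∈ sqs L, α (f x) = f ((α (f e) : MulAut X) μ * μ⁻¹) := fun μ hμ => by
      obtain ⟨x, hx, k⟩ := A (f μ)
      exact ⟨x, hx, by rw [k, fc _ (h.LS hμ), fm (nS _ (h.LS hμ)) (inv_mem (h.LS hμ)), fi (h.LS hμ)]⟩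
    have C : sqs L ≤ fx (α (f e) : MulAut X) := (closure_le _).2 (by
      rintro _ ⟨μ, hμ, rfl⟩
      obtain ⟨x, hx, k⟩ := B μ hμ
      have m := nL (α (f e)) hμ
      have m1 := h.LS (mul_mem m (inv_mem hμ))
      have k1 := sq x hx
      rw [k, ← fm m1 m1, ← f1] at k1
      have k2 := fj (mul_mem m1 m1) (one_mem _) k1
      rw [mul_assoc, ← mul_assoc μ⁻¹, ← h.comm m (inv_mem hμ), mul_assoc, ← mul_assoc,
        ← mul_inv_rev, mul_inv_eq_one, ← map_mul] at k2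
      exact k2)
    by_cases k : Inn (α (f e) : MulAut X)
    · obtain ⟨w, hw, k1⟩ := innE _ k C
      refine ⟨w, h.rt hw (fj (h.LS (mul_mem hw hw)) (one_mem _) ?_), k1⟩
      rw [fm (h.LS hw) (h.LS hw), k1, sq e he, f1]
    have D : cN (sqs L) N ≤ mp α (cN (sqs L) N) := by
      have : sqs L ≤ ((mp α (cN (sqs L) N)).map N.subtype).comap MulAut.conj := (closure_le _).2 (by
        rintro _ ⟨μ, hμ, rfl⟩
        obtain ⟨x, hx, k1⟩ := B μ⁻¹ (inv_mem hμ)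
        rw [(h.tau k C).1 _ (inv_mem hμ), inv_inv] at k1
        exact ⟨_, (map_mem_mp α).2 ((mE _).2 ⟨x, hx, rfl⟩), by
          rw [coe_subtype, k1, fv (h.LS (mul_mem hμ hμ))]⟩)
      rintro n ⟨x, hx, k1⟩
      obtain ⟨m, hm, k2⟩ := this hx
      exact (Subtype.ext (k2.trans k1) : m = n) ▸ hm
    exact (mE _).1 ((eq_of_le_of_card_ge D (card_mp α _).le).ge
      ((map_mem_mp α).2 ((mE _).2 ⟨e, he, rfl⟩)))
  have zS := h.LS h.zL
  have aS := h.LS h.aL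
  have fz : ∀ n : N, (n : MulAut X) z = z := fun n => h.fix_z (mS n)
  have az : f z ∈ fx α := by
    obtain ⟨w, hw, k⟩ := aE z (h.rt h.zL h.zz)
    have k1 : ∀ s ∈ S, s * w = w * s := fun s hs => by
      obtain ⟨m, hm⟩ := α.surjective (f s)
      refine fj (mul_mem hs (ES hw)) (mul_mem (ES hw) hs) ?_
      rw [fm hs (ES hw), fm (ES hw) hs, k, ← hm, ← map_mul, ← map_mul, mul_inv_eq_iff_eq_mul.1 (fc m zS),
        fz]
    rcases h.zS w (ES hw) k1 with rfl | rfl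
    · rw [f1, eq_comm, map_eq_one_iff α α.injective, ← f1] at k
      exact absurd (fj zS (one_mem _) k) h.z1
    · exact k.symm
  have na : ∀ n : N, (n : MulAut X) a = a ∨ (n : MulAut X) a = a * z := fun n => by
    rcases h.v1 _ (nL n h.aL) (by rw [← map_mul, h.aa, map_one]) (fun s hs => by
      obtain ⟨s, hs', rfl⟩ := (mS n).ge hs
      have := h.aP s hs'
      rw [← fz n]
      simp only [MulEquiv.toMonoidHom_eq_coe, MonoidHom.coe_coe, ← map_inv, ← map_mul,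
        EmbeddingLike.apply_eq_iff_eq]
      exact this) with k | k | k | k
    · exact absurd ((map_eq_one_iff _ (n : MulAut X).injective).1 k) h.a1
    · exact absurd ((n : MulAut X).injective (k.trans (fz n).symm)) h.az
    exacts [.inl k, .inr k]
  have aa : f a ∈ fx α := by
    obtain ⟨w, hw, k⟩ := aE a (h.rt h.aL h.aa)
    rcases h.v1 w (sqs_le L hw) (h.mem_sqs_le hw).2 (fun s hs => by
      obtain ⟨m, hm⟩ := α.surjective (f s)
      have k1 : f (s * w * s⁻¹) = α (f ((m : MulAut X) a)) := by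
        rw [fm (mul_mem hs (ES hw)) (inv_mem hs), fm hs (ES hw), fi hs, k, ← hm, ← fc m aS]
        simp only [map_mul, map_inv]
      have m1 := mul_mem (mul_mem hs (ES hw)) (inv_mem hs)
      rcases na m with e | e <;> rw [e] at k1
      · exact .inl (fj m1 (ES hw) (k1.trans k.symm))
      · refine .inr (fj m1 (mul_mem (ES hw) zS) ?_)
        rw [k1, fm aS zS, map_mul, mem_fx.1 az, fm (ES hw) zS, k]) with e | e | e | e <;> subst e
    · rw [f1, eq_comm, map_eq_one_iff α α.injective, ← f1] at k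
      exact absurd (fj aS (one_mem _) k) h.a1
    · exact absurd (fj aS zS (α.injective (k.symm.trans (mem_fx.1 az).symm))) h.az
    · exact k.symm
    · refine fix_step hN ho ?_
      rw [← k, fm aS zS, fc _ zS, fz]; exact az
  have aV : ∀ w, V4 z a w → f w ∈ fx α := by
    rintro w (rfl | rfl | rfl | rfl)
    exacts [f1 ▸ one_mem _, az, aa, fm aS zS ▸ mul_mem aa az]
  have back : ∀ n : N, α n ∈ fx α → n ∈ fx α := fun n k => α.injective k
  have fE : ∀ e ∈ sqs L, f e ∈ fx α := fun e he => by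
    obtain ⟨w, hw, k⟩ := aE e he
    rcases h.v2 w (sqs_le L hw) e (sqs_le L he) (h.mem_sqs_le hw).2 (h.mem_sqs_le he).2 with
      k1 | k1 | k1
    · exact back _ (k ▸ aV w k1)
    · exact aV e k1
    · refine fix_step hN ho ?_
      rw [← k, ← fi (ES he), inv_eq_of_mul_eq_one_right (h.mem_sqs_le he).2, ← fm (ES hw) (ES he)]
      exact aV _ k1
  have cE : ∀ n : N, sqs L ≤ fx ((α n * n⁻¹ : N) : MulAut X) := fun n e he => by
    have m := nE n⁻¹ he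
    refine mem_fx.2 (fj (nS _ (ES he)) (ES he) ?_)
    calc _ = α n * (n⁻¹ * f e * n⁻¹⁻¹) * (α n)⁻¹ := by rw [← fc _ (ES he)]; group
      _ = α (n * (n⁻¹ * f e * n⁻¹⁻¹) * n⁻¹) := by
        rw [map_mul, map_mul, map_inv, fc _ (ES he), mem_fx.1 (fE _ m)]
      _ = α (f e) := by congr 1; group
      _ = _ := mem_fx.1 (fE e he)
  have cE' : ∀ n : N, sqs L ≤ fx (n : MulAut X) → sqs L ≤ fx (α n : MulAut X) := fun n k e he => by
    have := mem_fx.1 (cE n he)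
    rwa [coe_mul, MulAut.mul_apply, coe_inv, (MulAut.inv_apply _ _ _).trans
      ((MulEquiv.symm_apply_eq _).2 (mem_fx.1 (k he)).symm)] at this
  have fL : ∀ μ ∈ L, f μ ∈ fx α := fun μ hμ => by
    by_cases h1 : μ * μ = 1
    · exact fE μ (h.rt hμ h1)
    have μS := h.LS hμ
    have k := cE' (f μ) fun e he => by
      rw [fv μS, fx_conj]; exact mem_Cz.2 (h.comm hμ (sqs_le L he))
    have k1 : α (f μ) * α (f μ) = f (μ * μ) := by
      rw [← map_mul, ← fm μS μS, mem_fx.1 (fE _ (sq_mem_sqs hμ))]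
    obtain ⟨w, hw, k2⟩ := innE _ (by_contra fun k3 => h1 (fj (mul_mem μS μS) (one_mem _) (by
      rw [← k1, f1]; exact Subtype.ext (h.tau k3 k).2))) k
    have wS := h.LS hw
    refine fix_step hN ho ?_
    rw [← k2, ← fi μS, ← fm wS (inv_mem μS)]
    refine fE _ (h.rt (mul_mem hw (inv_mem hμ)) (h.sq_div hw hμ (fj (mul_mem wS wS) (mul_mem μS μS) ?_)))
    rw [fm wS wS, k2, k1]
  have fI : ∀ n : N, Inn (n : MulAut X) → sqs L ≤ fx (n : MulAut X) → n ∈ fx α := fun n k1 k2 => by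
    obtain ⟨w, hw, rfl⟩ := innE n k1 k2
    exact fL w hw
  have fR : ∀ n : N, sqs L ≤ fx (n : MulAut X) → n ∈ fx α := fun n k => by
    by_cases k1 : Inn (n : MulAut X)
    · exact fI n k1 k
    by_cases k2 : Inn (α n : MulAut X)
    · exact back n (fI _ k2 (cE' n k))
    exact fix_step hN ho (fI _ (hF.out _ _ k2 fun k3 => k1 (hF.inn_inv_iff.1 k3)) (cE n))
  exact MulEquiv.ext fun n => fix_step hN ho (fR _ (cE n))

/-- The fact `FE` from a subgroup `F`. -/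
theorem fe (hF : F0 X) {F : Subgroup X} (h1 : SC F) (h2 : Lnk S F) (h3 : ζ ∈ F)
    (h4 : S ⊔ O2 (ivs (Ns F)) ⊔ O2 (ivs (Ns L)) = ⊤) : FEd z S F L where
  zI := ⟨⟨h.zz, h.z1⟩, h.syl.2.2.of_dvd_nat (by
    rw [relIndex_top_right]; exact index_dvd_of_le h.S_le)⟩
  syl := h.syl
  zS := ⟨h.LS h.zL, fun s hs => (mem_Cz.1 (h.S_le hs)).symm⟩
  ca := h.ca
  sc1 := h1
  sc2 := h.sc
  lk1 := h2
  lk2 := .step h.LS (h.iv.trans (ivs_mono h.nL)) .top
  gen := h4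
  z1 := h.ζz ▸ sq_mem_sqs h3
  z2 := h.rt h.zL h.zz
  oi := fun N hN hS α ho => by
    rw [h.odd_one hF N hN hS α ho]
    exact ⟨Subgroup.map_id _, Subgroup.map_id _⟩
  st := fun _ => h.st
  el := fun _ k => (h.mem_sqs_le k).2
  big := h.big
  ya := h.ya
  yb := h.yb
  zo := fun _ _ O k1 k2 _ => h.zo O k1 k2

end Md

end H16.STE
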