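import Cfsg.Agent.H35.TW1
import Cfsg.Agent.H27.CLift
import Cfsg.Agent.H27.Syl2K
import Cfsg.Agent.H86.UH

/-! Special 2-groups of order `q³` with a homogeneous squaring map. -/

set_option autoImplicit false
set_option linter.unusedSectionVars false

namespace H16.Sg

open Subgroup H27

theorem iso_of {G G' V V' W W' : Type*} [Group G] [Group G'] [Finite G] [Finite G']
    [AddCommGroup V] [AddCommGroup V'] [AddCommGroup W] [AddCommGroup W'] [Module (ZMod 2) V]
    [Module (ZMod 2) V'] [Module (ZMod 2) W] [Module (ZMod 2) W'] (c : CForm G V W)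
    (c' : CForm G' V' W') (φ : V →+ V') (hφ : Function.Bijective φ) (θ : W →+ W')
    (hθ : Function.Bijective θ) (h : ∀ x u, c'.π x = φ u → x * x = c'.ζ (θ (c.P 2 u))) :
    Nonempty (G ≃* G') := by
  have hP : ∀ u, c'.P 2 (φ u) = θ (c.P 2 u) := fun u => by
    obtain ⟨x, e⟩ := c'.π_surj (φ u)
    exact c'.ζ_inj (by rw [← h x u e, ← e, c'.ζ_P, pow_two])
  obtain ⟨ψ, -⟩ := c.exists_lift_equiv c' (LinearEquiv.ofBijective (φ.toZModLinearMap 2) hφ)
    (LinearEquiv.ofBijective (θ.toZModLinearMap 2) hθ) (fun u v => by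
      have := hP (u + v)
      rw [map_add, c'.P_add_two, c.P_add_two, map_add, map_add, hP, hP] at this
      exact add_left_cancel this) hP
  exact ⟨ψ⟩

universe u

variable {R : Type u} [Group R] [Finite R] {F : Type} [Field F] [Fintype F] [CharP F 2]

/-- The group with squaring map `x² + γ x y + A y²`. -/
theorem iso_q [Module (ZMod 2) F] (c : CForm R (F × F) F) {γ A : F} (hγ : γ ≠ 0)
    (h : ∀ x y, c.P 2 (x, y) = x * x + γ * (x * y) + A * (y * y)) {n : ℕ}
    (hF : Fintype.card F = 2 ^ n) :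
    (∃ (K : Type) (_ : Field K) (_ : Fintype K), Fintype.card K = 4 ^ n ∧
      ∃ S : Sylow 2 (Cfsg.PSU 3 K (2 ^ n)), Nonempty (R ≃* (S : Subgroup (Cfsg.PSU 3 K (2 ^ n))))) ∨
    ∃ S : Sylow 2 (Matrix.ProjectiveSpecialLinearGroup (Fin 3) F),
      Nonempty (R ≃* (S : Subgroup (Matrix.ProjectiveSpecialLinearGroup (Fin 3) F))) := by
  have two : (2 : F) = 0 := CharTwo.two_eq_zero
  by_cases ha : ∃ a : F, a ^ 2 = A + γ * a
  · obtain ⟨a, ha⟩ := ha
    right
    obtain ⟨S⟩ : Nonempty (Sylow 2 (Matrix.ProjectiveSpecialLinearGroup (Fin 3) F)) := inferInstance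
    obtain ⟨e⟩ := K2.bg_l3 hF S
    have : Finite (K2.BG (AddMonoidHom.mul : F →+ F →+ F)) := Finite.of_equiv _ e.toEquiv
    let c' : CForm (K2.BG (AddMonoidHom.mul : F →+ F →+ F)) (F × F) F :=
      { π := fun x => (x.a, x.d)
        ζ := fun z => ⟨0, 0, z⟩
        π_mul := fun _ _ => rfl
        ζ_add := fun _ _ => by ext <;> simp
        π_surj := fun v => ⟨⟨v.1, v.2, 0⟩, rfl⟩
        ζ_inj := fun _ _ e => congrArg K2.BG.z e
        π_eq_zero := fun x => ⟨fun e => ⟨x.z, K2.BG.ext (congrArg Prod.fst e).symm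
          (congrArg Prod.snd e).symm rfl⟩, by rintro ⟨z, rfl⟩; rfl⟩
        ζ_comm := fun _ _ => by ext <;> simp [add_comm] }
    let φ : F × F →+ F × F := AddMonoidHom.mk' (fun v => (v.1 + a * v.2, v.1 + (a + γ) * v.2))
      fun u v => by ext <;> simp <;> ring
    have hφ : Function.Injective φ := (injective_iff_map_eq_zero φ).2 fun v e => by
      have e1 : v.1 + a * v.2 = 0 := congrArg Prod.fst e
      have e2 : v.1 + (a + γ) * v.2 = 0 := congrArg Prod.snd e
      have e3 : v.2 = 0 := (mul_eq_zero.1 (show γ * v.2 = 0 by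
        linear_combination e2 - e1)).resolve_left hγ
      exact Prod.ext (by simpa [e3] using e1) e3
    obtain ⟨ψ⟩ := iso_of c c' φ (Finite.injective_iff_bijective.1 hφ) (AddMonoidHom.id F)
      Function.bijective_id fun x u e => by
        have e1 : x.a = u.1 + a * u.2 := congrArg Prod.fst e
        have e2 : x.d = u.1 + (a + γ) * u.2 := congrArg Prod.snd e
        refine K2.BG.ext (CharTwo.add_self_eq_zero _) (CharTwo.add_self_eq_zero _) ?_
        show x.z + x.z + x.a * x.d = c.P 2 (u.1, u.2)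
        rw [h, e1, e2]
        linear_combination (x.z + a * u.1 * u.2 + γ * a * u.2 ^ 2) * two + u.2 ^ 2 * ha
    exact ⟨S, ⟨ψ.trans e.symm⟩⟩
  · left
    have : Fact (∀ r : F, r ^ 2 ≠ A + γ * r) := ⟨fun r e => ha ⟨r, e⟩⟩
    let K := QuadraticAlgebra F A γ
    let _ : Fintype K := Fintype.ofEquiv _ (QuadraticAlgebra.equivProd A γ).symm
    have hK : Fintype.card K = (2 ^ n) ^ 2 := by
      rw [Fintype.ofEquiv_card, Fintype.card_prod, hF, pow_two]
    have : CharP K 2 := charP_of_injective_algebraMap (algebraMap F K).injective 2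
    have twoK : (2 : K) = 0 := CharTwo.two_eq_zero
    let _ := ZMod.algebra K 2
    refine ⟨K, inferInstance, inferInstance, by rw [hK, ← pow_mul, mul_comm, pow_mul]; rfl, ?_⟩
    obtain ⟨S⟩ : Nonempty (Sylow 2 (Cfsg.PSU 3 K (2 ^ n))) := inferInstance
    obtain ⟨σ, hσ, hne, fx, ⟨e⟩⟩ : ∃ (σ : K →+* K) (hσ : ∀ x, σ (σ x) = x), σ ≠ RingHom.id K ∧
        (∀ x : F, σ (algebraMap F K x) = algebraMap F K x) ∧
        Nonempty (H86.UH σ hσ ≃* (S : Subgroup (Cfsg.PSU 3 K (2 ^ n)))) :=
      ⟨_, _, H59.frob_ne_id hK, fun x => by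
        rw [H59.frob_apply, ← map_pow, ← hF, FiniteField.pow_card], H86.UH.nonempty_equiv_PSU hK S⟩
    let w : K := QuadraticAlgebra.omega
    have dec : ∀ z : K, z = algebraMap F K z.re + algebraMap F K z.im * w := fun z => by
      ext <;> simp [w, K]
    have ww : w * w = algebraMap F K A + algebraMap F K γ * w :=
      QuadraticAlgebra.omega_mul_omega_eq_algebraMap
    have σw : σ w = w + algebraMap F K γ := by
      have h1 := congrArg σ ww
      rw [map_mul, map_add, map_mul, fx, fx] at h1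
      have h2 : (σ w - w) * (σ w - (w + algebraMap F K γ)) = 0 := by
        linear_combination h1 + ww + (algebraMap F K A + algebraMap F K γ * w - w * σ w +
          algebraMap F K γ * w) * twoK - algebraMap F K γ * w * twoK
      refine sub_eq_zero.1 ((mul_eq_zero.1 h2).resolve_left fun h3 => hne (RingHom.ext fun z => ?_))
      rw [dec z, map_add, map_mul, fx, fx, sub_eq_zero.1 h3, RingHom.id_apply]
    let c' : CForm (H86.UH σ hσ) K F :=
      { π := H86.UH.a
        ζ := fun z => H86.UH.zc hσ (algebraMap F K z) (fx z)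
        π_mul := fun _ _ => rfl
        ζ_add := fun _ _ => by ext1 <;> simp
        π_surj := H86.UH.exists_a hne
        ζ_inj := fun _ _ e => (algebraMap F K).injective (congrArg H86.UH.b e)
        π_eq_zero := fun x => ⟨fun e => ⟨x.b.re, H86.UH.ext e.symm (by
          have h1 := H86.UH.fix_of_a e
          rw [dec x.b, map_add, map_mul, fx, fx, σw, mul_add, ← add_assoc, add_eq_left, ← map_mul,
            map_eq_zero, mul_eq_zero] at h1
          rw [H86.UH.zc_b]
          nth_rewrite 2 [dec x.b]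
          rw [h1.resolve_right hγ, map_zero, zero_mul, add_zero])⟩, by rintro ⟨z, rfl⟩; rfl⟩
        ζ_comm := fun _ _ => H86.UH.comm_of_a rfl _ }
    let φ : F × F →+ K := AddMonoidHom.mk' (fun v => ⟨v.1, v.2⟩) fun u v => rfl
    obtain ⟨ψ⟩ := iso_of c c' φ (QuadraticAlgebra.equivProd A γ).symm.bijective (AddMonoidHom.id F)
      Function.bijective_id fun x u e => by
        replace e : x.a = algebraMap F K u.1 + algebraMap F K u.2 * w := e.trans (dec _)
        refine H86.UH.ext (H86.UH.sq_a x) ?_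
        show _ = algebraMap F K (c.P 2 (u.1, u.2))
        rw [H86.UH.sq_b, h, e, map_add, map_mul, fx, fx, σw]
        simp only [map_add, map_mul]
        linear_combination algebraMap F K u.2 ^ 2 * ww + (algebraMap F K u.1 * algebraMap F K u.2 * w +
          algebraMap F K u.2 ^ 2 * algebraMap F K γ * w) * twoK
    exact ⟨S, ⟨ψ.trans e⟩⟩

/-- The data on a group of order `q³`. -/
structure Fn (ι : F → R) (T : F → R →* R) (d s : R → F) : Prop where
  add : ∀ x y, ι (x + y) = ι x * ι y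
  inj : Function.Injective ι
  cen : ∀ x a, ι x * a = a * ι x
  T0 : T 0 = 1
  T1 : ∀ a, T 1 a = a
  TT : ∀ x y a, T x (T y a) = T (x * y) a
  Tι : ∀ l x, T l (ι x) = ι (l * x)
  sq : ∀ a, ι (s a) = a * a
  dm : ∀ a b, d (a * b) = d a + d b
  dT : ∀ l a, d (T l a) = l * d a
  d1 : ∃ a, d a = 1
  Wc : ∀ a b, d a = 0 → d b = 0 → a * b = b * a
  W1 : ∃ a, d a = 0 ∧ s a = 1
  Wk : ∀ a, d a = 0 → s a = 0 → ∃ x, ι x = a

namespace Fn

variable {ι : F → R} {T : F → R →* R} {d s : R → F} (h : Fn ι T d s)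
include h

theorem zero : ι 0 = 1 := by
  have := h.add 0 0
  rw [add_zero] at this
  exact mul_eq_left.1 this.symm

theorem ιι (x : F) : ι x * ι x = 1 := by rw [← h.add, CharTwo.add_self_eq_zero, h.zero]

theorem sT (l : F) (a : R) : s (T l a) = l * s a :=
  h.inj (by rw [h.sq, ← h.Tι, h.sq, map_mul])

theorem sm {a b : R} (ha : d a = 0) (hb : d b = 0) : s (a * b) = s a + s b :=
  h.inj (by rw [h.add, h.sq, h.sq, h.sq, mul_assoc, ← mul_assoc b, ← h.Wc a b ha hb]; group)

theorem dι (x : F) : d (ι x) = 0 := by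
  obtain ⟨a, a0, a1⟩ := h.W1
  rw [← mul_one x, ← a1, ← h.sT, h.sq, h.dm, CharTwo.add_self_eq_zero]

theorem dinv (a : R) : d a⁻¹ = d a := by
  have := h.dm a⁻¹ a
  rw [inv_mul_cancel, ← h.zero, h.dι, eq_comm, CharTwo.add_eq_zero] at this
  exact this

theorem sι (x : F) : s (ι x) = 0 := h.inj (by rw [h.sq, h.ιι, h.zero])

theorem sinv {a : R} (ha : d a = 0) : s a⁻¹ = s a := by
  have := h.sm ((h.dinv a).trans ha) ha
  rw [inv_mul_cancel, ← h.zero, h.sι, eq_comm, CharTwo.add_eq_zero] at this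
  exact this

/-- the quotient by the range of `ι` -/
theorem exists_quot : ∃ (E : Type u) (_ : AddCommGroup E) (π : R → E),
    (∀ a b, π (a * b) = π a + π b) ∧ Function.Surjective π ∧ (∀ a, π a = 0 ↔ ∃ x, ι x = a) ∧
      ∀ e : E, e + e = 0 := by
  let V : Subgroup R :=
    { carrier := Set.range ι
      one_mem' := ⟨0, h.zero⟩
      mul_mem' := by rintro _ _ ⟨x, rfl⟩ ⟨y, rfl⟩; exact ⟨_, h.add x y⟩
      inv_mem' := by rintro _ ⟨x, rfl⟩; exact ⟨x, eq_inv_of_mul_eq_one_left (h.ιι x)⟩ }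
  have : V.Normal := ⟨by
    rintro _ ⟨x, rfl⟩ g
    exact ⟨x, by rw [← h.cen, mul_inv_cancel_right]⟩⟩
  have sq : ∀ e : R ⧸ V, e * e = 1 := fun e => by
    obtain ⟨a, rfl⟩ := QuotientGroup.mk_surjective e
    exact (QuotientGroup.eq_one_iff (a * a)).2 ⟨_, h.sq a⟩
  let _ : CommGroup (R ⧸ V) := { (inferInstance : Group (R ⧸ V)) with
    mul_comm := fun a b => by
      rw [← inv_eq_of_mul_eq_one_right (sq (a * b)), mul_inv_rev, inv_eq_of_mul_eq_one_right (sq a),
        inv_eq_of_mul_eq_one_right (sq b)] }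
  exact ⟨Additive (R ⧸ V), inferInstance, fun a => Additive.ofMul (a : R ⧸ V), fun _ _ => rfl,
    QuotientGroup.mk_surjective, fun a => QuotientGroup.eq_one_iff a, sq⟩

theorem add3 {E : Type*} [AddCommGroup E] {π : R → E} (hm : ∀ a b, π (a * b) = π a + π b)
    (h0 : ∀ a, π a = 0 ↔ ∃ x, ι x = a) (h2 : ∀ e : E, e + e = 0) (y : R) (a b : F) :
    π (T (a + b) y) = π (T a y) + π (T b y) := by
  have two : (2 : F) = 0 := CharTwo.two_eq_zero
  have p1 : π 1 = 0 := (h0 1).2 ⟨0, h.zero⟩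
  rcases eq_or_ne a 0 with rfl | ha
  · rw [zero_add, h.T0, MonoidHom.one_apply, p1, zero_add]
  obtain ⟨x, hx⟩ := FiniteField.isSquare_of_char_two (ringChar.eq F 2) (b / a)
  have e0 : ∀ u, d (u * T x u * T (1 + x) u) = 0 := fun u => by
    rw [h.dm, h.dm, h.dT, h.dT]; linear_combination (1 + x) * d u * two
  have e1 : ∀ u, d u = 0 → π (u * T x u * T (1 + x) u) = 0 := fun u hu => (h0 _).2 (h.Wk _ (e0 u) (by
    have k : ∀ l, d (T l u) = 0 := fun l => by rw [h.dT, hu, mul_zero]
    rw [h.sm (by rw [h.dm, hu, k, add_zero]) (k _), h.sm hu (k _), h.sT, h.sT]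
    linear_combination (1 + x) * s u * two))
  have e2 := e1 _ (e0 (T a y))
  simp only [map_mul, hm, h.TT] at e2
  rw [show x * (x * a) = b by rw [← mul_assoc, ← hx, div_mul_cancel₀ _ ha],
    show (1 + x) * ((1 + x) * a) = a + b by
      rw [← div_mul_cancel₀ b ha, hx]; linear_combination x * a * two,
    show x * ((1 + x) * a) = (1 + x) * (x * a) by ring] at e2
  linear_combination (norm := abel1) e2 - h2 (π (T (x * a) y)) - h2 (π (T ((1 + x) * a) y)) -
    h2 (π (T ((1 + x) * (x * a)) y)) - h2 (π (T a y)) - h2 (π (T b y))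

theorem main [Module (ZMod 2) F] (na : ¬ IsMulCommutative R) : ∃ (c : CForm R (F × F) F) (γ A : F),
    γ ≠ 0 ∧ ∀ x y, c.P 2 (x, y) = x * x + γ * (x * y) + A * (y * y) := by
  have two : (2 : F) = 0 := CharTwo.two_eq_zero
  obtain ⟨E, _, π, hm, hs, h0, h2⟩ := h.exists_quot
  obtain ⟨y0, y1⟩ := h.d1
  obtain ⟨w0, w1, w2⟩ := h.W1
  have sq : ∀ x y : F, (x + y) * (x + y) = x * x + y * y := fun x y => by
    linear_combination x * y * two
  let τ : F × F → R := fun v => T (v.1 * v.1) w0 * T (v.2 * v.2) y0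
  let ψ : F × F →+ E := AddMonoidHom.mk' (fun v => π (τ v)) fun u v => by
    simp only [τ, hm, Prod.fst_add, Prod.snd_add, sq, h.add3 hm h0 h2]; abel
  have dw : ∀ l, d (T l w0) = 0 := fun l => by rw [h.dT, w1, mul_zero]
  have pi : ∀ a, π a⁻¹ = π a := fun a => by
    have := hm a⁻¹ a
    rw [inv_mul_cancel, (h0 1).2 ⟨0, h.zero⟩] at this
    rw [eq_neg_of_add_eq_zero_left this.symm, neg_eq_of_add_eq_zero_left (h2 _)]
  have hψ : Function.Bijective ψ := by
    refine ⟨(injective_iff_map_eq_zero ψ).2 fun v e => ?_, fun e => ?_⟩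
    · obtain ⟨x, e⟩ := (h0 _).1 e
      have e1 := h.dι x
      rw [e, h.dm, dw, h.dT, y1, zero_add, mul_one] at e1
      have e2 := h.sι x
      rw [e, show τ v = T (v.1 * v.1) w0 by simp only [τ, e1, h.T0, MonoidHom.one_apply, mul_one],
        h.sT, w2, mul_one] at e2
      exact Prod.ext (mul_self_eq_zero.1 e2) (mul_self_eq_zero.1 e1)
    · obtain ⟨a, rfl⟩ := hs e
      obtain ⟨y, hy⟩ := FiniteField.isSquare_of_char_two (ringChar.eq F 2) (d a)
      have e1 : d (a * (T (y * y) y0)⁻¹) = 0 := by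
        rw [h.dm, h.dinv, h.dT, y1, mul_one, hy, CharTwo.add_self_eq_zero]
      obtain ⟨x, hx⟩ := FiniteField.isSquare_of_char_two (ringChar.eq F 2) (s (a * (T (y * y) y0)⁻¹))
      have e2 := (h0 _).2 (h.Wk (T (x * x) w0 * (a * (T (y * y) y0)⁻¹)) (by
        rw [h.dm, dw, e1, add_zero]) (by
        rw [h.sm (dw _) e1, h.sT, w2, mul_one, hx, CharTwo.add_self_eq_zero]))
      rw [hm, hm, pi] at e2
      refine ⟨(x, y), ?_⟩
      show π (T (x * x) w0 * T (y * y) y0) = _
      rw [hm]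
      linear_combination (norm := abel1) e2 - h2 (π a)
  let e := AddEquiv.ofBijective ψ hψ
  let c : CForm R (F × F) F :=
    { π := fun a => e.symm (π a)
      ζ := ι
      π_mul := fun a b => by rw [hm, map_add]
      ζ_add := h.add
      π_surj := e.symm.surjective.comp hs
      ζ_inj := h.inj
      π_eq_zero := fun a => by rw [← h0, map_eq_zero_iff _ e.symm.injective]
      ζ_comm := h.cen }
  have hP : ∀ v, c.P 2 v = s (τ v) := fun v => h.inj (by
    have := c.ζ_P 2 (τ v)
    rwa [show c.π (τ v) = v from e.symm_apply_apply v, pow_two, ← h.sq] at this)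
  have P1 : ∀ x, c.P 2 (x, 0) = x * x := fun x => by
    rw [hP]; simp only [τ, mul_zero, h.T0, MonoidHom.one_apply, mul_one, h.sT, w2]
  have P2 : ∀ y, c.P 2 (0, y) = s y0 * (y * y) := fun y => by
    rw [hP]; simp only [τ, mul_zero, h.T0, MonoidHom.one_apply, one_mul, h.sT, mul_comm]
  have P3 : ∀ x y, c.P 2 (x, y) = x * x + s y0 * (y * y) + c.B 2 (x, 0) (0, y) := fun x y => by
    rw [← P1, ← P2, ← c.P_add_two, Prod.mk_add_mk, add_zero, zero_add]
  have P4 : ∀ l x y, c.P 2 (l * x, l * y) = l * l * c.P 2 (x, y) := fun l x y => by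
    rw [hP, hP, ← h.sT]
    simp only [τ, map_mul, h.TT, mul_mul_mul_comm l]
  let r := (frobeniusEquiv F 2).symm
  have rr : ∀ x, r x * r x = x := fun x => by
    rw [← pow_two, ← frobenius_def, ← coe_frobeniusEquiv, RingEquiv.apply_symm_apply]
  have r2 : ∀ x, r (x * x) = x := fun x => by rw [map_mul, rr]
  have key := H35.TW.bl (fun x y => c.B 2 (r x, 0) (0, r y) + c.B 2 (1, 0) (0, 1) * (r x * r y))
    (fun x y z => by
      rw [map_add, ← zero_add (0 : F), ← Prod.mk_add_mk, map_add, LinearMap.add_apply]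
      simp only [zero_add]; ring)
    (fun x y z => by
      rw [map_add r, ← zero_add (0 : F), ← Prod.mk_add_mk, map_add]
      simp only [zero_add]; ring)
    (fun l x y _ => by
      have := P4 (r l) (r x) (r y)
      rw [P3, P3, rr l] at this
      rw [map_mul, map_mul]
      linear_combination this + (c.B 2 (1, 0) (0, 1) * r x * r y - r x * r x - s y0 * r y * r y) * rr l)
    one_ne_zero one_ne_zero (by rw [map_one, mul_one, mul_one, CharTwo.add_self_eq_zero])
  have P5 : ∀ x y, c.P 2 (x, y) = x * x + c.B 2 (1, 0) (0, 1) * (x * y) + s y0 * (y * y) :=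
    fun x y => by
      have := key (x * x) (y * y)
      simp only [r2] at this
      rw [P3, CharTwo.add_eq_zero.1 this]; ring
  refine ⟨c, _, _, fun e => na ⟨⟨fun a b => (c.B_eq_zero_iff 2).1 ?_⟩⟩, P5⟩
  generalize c.π a = u
  generalize c.π b = v
  obtain ⟨u, u'⟩ := u
  obtain ⟨v, v'⟩ := v
  have := c.P_add_two (u, u') (v, v')
  rw [Prod.mk_add_mk, P5, P5, P5, e, sq, sq] at this
  linear_combination -this

end Fn

end H16.Sg
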