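import Cfsg.Agent.H16.SgA
import Cfsg.Agent.H35.TW2
import Cfsg.Agent.H98.YMin
import Cfsg.Agent.H88.IrrField

/-! A 2-group with an involution and a Singer cycle: the tower `TW` in the semidirect product. -/

set_option autoImplicit false
set_option linter.unusedSectionVars false

namespace H16.Sg

open Cfsg Subgroup H14 H98 H1.Gold H31.S2 H85.TW H35.TW
open scoped commutatorElement

universe u

variable {G : Type u} [Group G] [Finite G] {F : Type} [Field F] [Finite F] [CharP F 2]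

/-- `G = Q ⟨t⟩ κ(Fˣ)`, `V = C_Q(t)`. -/
structure St (t : G) (Q V : Subgroup G) (ι : F → G) (κ : Fˣ →* G) : Prop where
  four : 4 ≤ Nat.card F
  add : ∀ x y, ι (x + y) = ι x * ι y
  inj : Function.Injective ι
  mem : ∀ v, v ∈ V ↔ ∃ x, ι x = v
  fix : ∀ v, v ∈ V ↔ v ∈ Q ∧ v * t = t * v
  tt : t * t = 1
  tQ : t ∉ Q
  two : IsPGroup 2 Q
  cm : ∀ a b : G, ⁅a, b⁆ ∈ Q
  κt : ∀ l, κ l * t = t * κ l
  κι : ∀ l x, κ l * ι x * (κ l)⁻¹ = ι (l * x)
  dec : ∀ g, ∃ l, g * (κ l)⁻¹ ∈ Q ∨ t * (g * (κ l)⁻¹) ∈ Q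
  na : ∃ a ∈ Q, ∃ b ∈ Q, a * b ≠ b * a

namespace St

variable {t : G} {Q V W Y P : Subgroup G} {ι : F → G} {κ : Fˣ →* G} {k : ℕ} {c : G → F}
  (h : St t Q V ι κ) {a b g y : G}
include h

theorem cj (g : G) (ha : a ∈ Q) : g * a * g⁻¹ ∈ Q := by
  rw [← inv_mul_cancel_right (g * a * g⁻¹) a]; exact mul_mem (h.cm g a) ha

theorem nQ : Q.Normal := ⟨fun _ ha g => h.cj g ha⟩

theorem ιV (x : F) : ι x ∈ V := (h.mem _).2 ⟨x, rfl⟩

theorem zero : ι 0 = 1 := by
  have := h.add 0 0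
  rw [add_zero] at this
  exact mul_eq_left.1 this.symm

theorem two' : IsPGroup 2 (Q ⊔ zpowers t : Subgroup G) :=
  have := h.nQ
  h.two.to_sup_of_normal_left (isPGroup_zpowers (k := 1) (by rw [pow_one, pow_two, h.tt]))

theorem fix_mod {Z : Subgroup G} (hZ : ¬ Q ≤ Z) :
    ∃ a ∈ Q, a ∉ Z ∧ ⁅a, t⁆ ∈ Z ∧ ∀ b ∈ Q, ⁅a, b⁆ ∈ Z := by
  have := h.nQ
  obtain ⟨a, ha, a0, e⟩ := exists_fix_mod h.two h.two' (le_top.trans (normalizer_eq_top _).ge) hZ
  exact ⟨a, ha, a0, e t (mem_sup_right (mem_zpowers t)), fun b hb => e b (mem_sup_left hb)⟩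

theorem tr {x : F} (hx : x ≠ 0) (y : F) : y = 0 ∨ ∃ l, κ l * ι x * (κ l)⁻¹ = ι y :=
  (eq_or_ne y 0).imp_right fun hy => ⟨Units.mk0 _ (div_ne_zero hy hx), by
    rw [h.κι, Units.val_mk0, div_mul_cancel₀ _ hx]⟩

theorem Qc : Q ≤ cen V := by
  obtain ⟨a, ha, a0, e1, e2⟩ := h.fix_mod (Z := ⊥) fun e => by
    obtain ⟨a, ha, b, -, n⟩ := h.na
    exact n (by rw [mem_bot.1 (e ha), one_mul, mul_one])
  obtain ⟨x, rfl⟩ := (h.mem a).1 ((h.fix a).2 ⟨ha, commutatorElement_eq_one_iff_mul_comm.1 e1⟩)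
  intro q hq v hv
  obtain ⟨y, rfl⟩ := (h.mem v).1 hv
  rcases h.tr (x := x) (by rintro rfl; exact a0 h.zero) y with rfl | ⟨l, e⟩
  · rw [h.zero, one_mul, mul_one]
  · have := commutatorElement_eq_one_iff_mul_comm.1 (e2 _ (h.cj (κ l)⁻¹ hq))
    calc _ = κ l * (ι x * ((κ l)⁻¹ * q * (κ l)⁻¹⁻¹)) * (κ l)⁻¹ := by rw [← e]; group
      _ = _ := by rw [this, ← e]; group

theorem tc : t ∈ cen V := fun v hv => ((h.fix v).1 hv).2

theorem act (g : G) : ∃ l : Fˣ, (∀ x, g * ι x * g⁻¹ = ι (l * x)) ∧ (l = 1 → g ∈ Q ∨ t * g ∈ Q) := by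
  obtain ⟨l, e⟩ := h.dec g
  have : g * (κ l)⁻¹ ∈ cen V := e.elim (fun e => h.Qc e) fun e =>
    (mul_mem_cancel_left h.tc).1 (h.Qc e)
  refine ⟨l, fun x => ?_, by rintro rfl; simpa using e⟩
  calc _ = g * (κ l)⁻¹ * (κ l * ι x * (κ l)⁻¹) * (g * (κ l)⁻¹)⁻¹ := by group
    _ = _ := by rw [h.κι, ← this _ (h.ιV _), mul_inv_cancel_right]

theorem e2 (hy : E2 y) : y ∈ Q ∨ t * y ∈ Q := by
  obtain ⟨l, e, e'⟩ := h.act y
  obtain ⟨n, hn⟩ := hy
  have k : ∀ i : ℕ, y ^ i * ι 1 * (y ^ i)⁻¹ = ι (l ^ i) := fun i => by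
    induction i with
    | zero => simp
    | succ i ih => rw [pow_succ' (l : F), ← e, ← ih, pow_succ']; group
  have := k (2 ^ n)
  rw [hn, one_mul, inv_one, mul_one] at this
  refine e' (Units.ext (sub_eq_zero.1 (pow_eq_zero_iff (n := 2 ^ n) (by positivity) |>.1 ?_)))
  rw [sub_pow_char_pow, ← h.inj this, Units.val_one, one_pow, sub_self]

theorem cjV (g : G) (ha : a ∈ V) : g * a * g⁻¹ ∈ V := by
  obtain ⟨x, rfl⟩ := (h.mem a).1 ha
  obtain ⟨l, e, -⟩ := h.act g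
  exact e x ▸ h.ιV _

theorem fix2 (hy : E2 y) (e : y * t = t * y) : y ∈ V ∨ t * y ∈ V :=
  (h.e2 hy).imp (fun k => (h.fix _).2 ⟨k, e⟩) fun k => (h.fix _).2 ⟨k, by rw [mul_assoc, e]⟩

theorem sqQ (hy : E2 y) : y * y ∈ Q := by
  rcases h.e2 hy with e | e
  · exact mul_mem e e
  · have := mul_mem (h.cj t⁻¹ e) e
    rwa [show t⁻¹ * (t * y) * t⁻¹⁻¹ * (t * y) = y * (t * t) * y by group, h.tt, mul_one] at this

theorem hy : Hy t V ι where
  four := h.four
  add := h.add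
  inj := h.inj
  mem := h.mem
  semi g _ _ := let ⟨l, e, _⟩ := h.act g; ⟨l, RingEquiv.refl F, e⟩
  scal l hl := ⟨κ (Units.mk0 l hl), h.κt _, h.κι _⟩
  tt := h.tt
  cen := h.tc
  notD v hv e := by
    obtain ⟨g, rfl⟩ := isConj_iff.1 e
    exact h.tQ (by simpa [mul_assoc] using h.cj g⁻¹ ((h.fix _).1 hv).1)
  inD v hv := by
    obtain ⟨a, ha, a0, e, -⟩ := h.fix_mod (Z := V) fun e => by
      obtain ⟨a, ha, b, hb, n⟩ := h.na
      exact n (h.Qc hb a (e ha))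
    obtain ⟨x, hx⟩ := (h.mem _).1 e
    obtain ⟨y, rfl⟩ := (h.mem v).1 hv
    rcases h.tr (x := x) (by
      rintro rfl
      exact a0 ((h.fix a).2 ⟨ha, commutatorElement_eq_one_iff_mul_comm.1 (hx.symm.trans h.zero)⟩)) y
      with rfl | ⟨l, e⟩
    · rw [h.zero, mul_one]
    · refine isConj_iff.2 ⟨κ l * a, ?_⟩
      calc _ = κ l * (⁅a, t⁆ * t) * (κ l)⁻¹ := by rw [commutatorElement_def]; group
        _ = _ := by rw [← hx, h.tc _ (h.ιV x), ← mul_assoc, h.κt, ← e]; group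
  nsq y e := h.tQ (e ▸ h.sqQ ⟨2, by rw [show 2 ^ 2 = 2 + 2 from rfl, pow_add, pow_two, e, h.tt]⟩)
  syl s hs _ y _ e hy := by
    obtain ⟨n, hn⟩ := hy
    obtain ⟨g, rfl⟩ := isConj_iff.1 hs
    refine (h.fix2 (y := g⁻¹ * y * g⁻¹⁻¹) ⟨n, by rw [conj_pow, hn]; group⟩ ?_).imp (fun k => ?_)
      fun k => ?_
    · calc _ = g⁻¹ * (y * (g * t * g⁻¹)) * g := by group
        _ = _ := by rw [e]; group
    · simpa [mul_assoc] using h.cjV g k
    · simpa [mul_assoc] using h.cjV g k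

theorem le_Q {B : Subgroup G} {β : G → F} (m : ∀ a ∈ B, ∀ b ∈ B, β (a * b) = β a + β b)
    (s : ∀ x, ∃ b ∈ B, β b = x) (k : ∀ b ∈ B, β b = 0 → b ∈ Q)
    (e : ∀ l : F, l ≠ 0 → ∃ g ∈ nor B, ∀ b ∈ B, β (g * b * g⁻¹) = l * β b) : B ≤ Q := fun b hb => by
  obtain ⟨l, l0, l1⟩ := exists_third h.four (0 : F) 1
  obtain ⟨g, g1, g2⟩ := e l l0
  have l2 : l + 1 ≠ 0 := fun e => l1 (CharTwo.add_eq_zero.1 e)
  obtain ⟨a, ha, e⟩ := s (β b / (l + 1))
  have h1 := (mem_normalizer_iff.1 g1 a).1 ha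
  have h2 := m _ (mul_mem h1 (inv_mem ha)) _ ha
  rw [inv_mul_cancel_right, g2 a ha] at h2
  refine (mul_mem_cancel_left (h.cm g a)).1 (k _ (mul_mem (mul_mem h1 (inv_mem ha)) hb) ?_)
  rw [commutatorElement_def, m _ (mul_mem h1 (inv_mem ha)) _ hb, ← div_mul_cancel₀ (β b) l2, ← e]
  linear_combination -h2 + (l * β a) * CharTwo.two_eq_zero (R := F)

theorem W_le (w : Tw t V ι W k c) (s : Cand t V ι W) : W ≤ Q :=
  h.le_Q (fun _ ha _ hb => w.c_mul h.hy.toCo ha hb) w.surj (fun b hb e => by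
    obtain ⟨u, hu, rfl⟩ := w.ker b hb e
    exact h.sqQ (e2_of_mem w.two hu)) fun l hl =>
    let ⟨g, g1, _, g3⟩ := s.sc l hl
    ⟨g, g1, fun b hb => by rw [w.c_conj h.hy.toCo g1 hb, h.hy.lin_eq (g3 _)]⟩

theorem Q_le (p : Top t V ι W k c Y P) (hY : Y ≤ Q) : Q ≤ Y := by
  have key : Q ≤ P := by
    by_contra hn
    obtain ⟨a, ha, a0, e⟩ := exists_fix_mod h.two p.twoP
      (le_top.trans (have := h.nQ; normalizer_eq_top _).ge) hn
    obtain ⟨x, hx, e'⟩ := p.orb a (mem_normalizer_fintype fun y hy => by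
      rw [← inv_mul_cancel_right (a * y * a⁻¹) y]; exact mul_mem (e y hy) hy)
    have xa : E2 (x⁻¹ * a) := e2_of_mem h.two' (mul_mem (inv_mem ((h.e2 (e2_of_mem p.twoP hx)).elim
      mem_sup_left fun k => (mul_mem_cancel_left (mem_sup_right (mem_zpowers t))).1 (mem_sup_left k)))
      (mem_sup_left ha))
    have VP := p.le.trans (p.WY.trans p.YP)
    refine a0 ((mul_mem_cancel_left (inv_mem hx)).1 ((h.fix2 xa ?_).elim (fun k => VP k)
      fun k => (mul_mem_cancel_left p.tP).1 (VP k)))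
    calc _ = x⁻¹ * (a * t * a⁻¹) * a := by group
      _ = _ := by rw [e']; group
  exact fun q hq => (p.idx q (key hq)).resolve_right fun e =>
    h.tQ ((mul_mem_cancel_right hq).1 (hY e))

theorem mid : ∃ W k c P, Mid t V ι W k c Q P := by
  have H := h.hy
  obtain ⟨W, -, hw⟩ := Finite.exists_le_maximal (cand_V H)
  obtain ⟨k, c, w⟩ := hw.1.tw H
  have WQ := h.W_le w hw.1
  by_cases H0 : ∀ g ∈ NN t W H.tt, c (dl t g) = 0
  · obtain ⟨a, ha, b, hb, n⟩ := h.na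
    have := h.Q_le (top_Q H w H0) WQ
    exact absurd (w.comm a (this ha) b (this hb)) n
  push Not at H0
  obtain ⟨g, hg, e⟩ := H0
  obtain ⟨l, e1, -⟩ := h.act g
  obtain ⟨a, a1, a2, a3⟩ := hw.1.sc _ l⁻¹.ne_zero
  have aN : a ∈ NN t W H.tt := ⟨a1, dl_of_comm H.tt a2 ▸ one_mem _⟩
  have c1 : a * g ∈ cen V := H.cen_of_lin (w.nor_le H.toCo (mul_mem a1 hg.1)) fun x => by
    rw [H.lin_mul (w.nor_le H.toCo a1) (w.nor_le H.toCo hg.1), H.lin_eq (e1 x), H.lin_eq (a3 _),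
      Units.inv_mul_cancel_left]
  have c2 : c (dl t (a * g)) ≠ 0 := by
    rw [w.c_dl_mul H.toCo H.tt aN hg, dl_of_comm H.tt a2, w.c_one H.toCo, zero_add, H.lin_eq (a3 _)]
    exact mul_ne_zero l⁻¹.ne_zero e
  obtain ⟨Y, P, m⟩ := exists_mid H w (fun x => by
    rcases eq_or_ne x 0 with rfl | hx
    · exact ⟨1, one_mem _, by rw [dl_of_comm H.tt (by simp), w.c_one H.toCo]⟩
    obtain ⟨b, b1, b2, b3⟩ := hw.1.sc _ (div_ne_zero hx c2)
    have bN : b ∈ NN t W H.tt := ⟨b1, dl_of_comm H.tt b2 ▸ one_mem _⟩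
    refine ⟨b * (a * g) * b⁻¹, mem_inf.2 ⟨mul_mem (mul_mem bN (mul_mem aN hg)) (inv_mem bN),
      fun v hv => ?_⟩, ?_⟩
    · calc _ = b * ((b⁻¹ * v * b⁻¹⁻¹) * (a * g)) * b⁻¹ := by group
        _ = _ := by rw [c1 _ (h.cjV b⁻¹ hv)]; group
    · rw [dl_conj b2, w.c_conj H.toCo b1 (mul_mem aN hg).2, H.lin_eq (b3 _), div_mul_cancel₀ _ c2]) hw
  have YQ : Y ≤ Q := h.le_Q (fun _ ha _ hb => m.d_mul H (m.YP ha) (m.YP hb)) m.onto
    (fun b hb e => WQ (m.kerY b hb e)) fun l hl =>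
    let ⟨g, g1, g2, g3, g4⟩ := m.sc l hl
    ⟨g, g2, fun b hb => by rw [dl_conj g3, m.c_conj H.toCo g1 (m.nn _ (m.YP hb)).2, H.lin_eq (g4 _)]⟩
  obtain rfl := le_antisymm YQ (h.Q_le (m.top H) YQ)
  exact ⟨W, k, c, P, m⟩

theorem one (m : Mid t V ι W k c Q P) : k = 1 ∧ ∀ y ∈ Q, y * y ∈ V := by
  have H := h.hy
  obtain ⟨a, ha, b, hb, n⟩ := h.na
  have key : ∀ y ∈ Q, y ∉ W → c (y * y) = 0 := fun y hy y0 => by
    by_contra e
    exact n (m.ab_of H (m.pairW H (fun y hy b hb => by rw [pow_one]; exact m.cV H hy (m.WY hb)) hy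
      (m.sq y (m.YP hy)) y0 e (by
        rw [pow_one, commutatorElement_eq_one_iff_mul_comm, mul_assoc])) ha hb)
  have k1 : k = 1 := by
    rcases k with _ | _ | k
    · exact absurd (m.ab H rfl ha hb) n
    · rfl
    obtain ⟨y, hy, e⟩ := m.onto 1
    have wW := (m.nn y (m.YP hy)).2
    have yy := m.sq y (m.YP hy)
    have e1 : t * y * t⁻¹ = dl t y * y := by
      rw [inv_eq_of_mul_eq_one_right h.tt, dl]; group
    have e2 := m.inv _ yy
    rw [← conj_mul, e1] at e2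
    have e3 : dl t y * (y * y) * (dl t y * (y * y)) = ⁅dl t y, y⁆ := by
      have c1 := m.comm _ wW _ yy
      have c2 := m.cenV (m.YP (m.WY wW)) _ (m.cV H (m.WY wW) hy)
      calc _ = dl t y * (y * y * dl t y) * (y * y) := by group
        _ = dl t y * (dl t y * (y * y)) * (y * y) := by rw [c1]
        _ = dl t y * ⁅dl t y, y⁆ * (y * dl t y * y) * (y * y) := by
          rw [commutatorElement_def]; group
        _ = ⁅dl t y, y⁆ * (dl t y * y * (dl t y * y)) * (y * y) := by rw [← c2]; group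
        _ = _ := by rw [e2, inv_mul_cancel_right]
    have e4 := m.pow _ (mul_mem wW yy)
    rw [pow_succ' 2, pow_mul, pow_succ' 2, pow_mul, pow_two, pow_two, e3, H.sq (m.cV H (m.WY wW) hy),
      one_pow, H.eq_one, m.c_mul H.toCo wW yy, e,
      key y hy fun k => one_ne_zero (e.symm.trans (m.d_W H k)), add_zero] at e4
    exact absurd e4 one_ne_zero
  refine ⟨k1, fun y hy => ?_⟩
  by_cases y0 : y ∈ W
  · rw [← pow_two, show 2 = 2 ^ k by rw [k1, pow_one], ← m.pow y y0]; exact h.ιV _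
  · have := m.pow _ (m.sq y (m.YP hy))
    rw [key y hy y0, h.zero, k1, pow_one, pow_two] at this
    exact m.om _ (m.sq y (m.YP hy)) this.symm

end St

theorem exists_fn {R : Type u} [Group R] [Finite R] {F : Type} [Field F] [Fintype F] [CharP F 2]
    (hR : IsPGroup 2 R) (na : ¬ IsMulCommutative R) {α : MulAut R} (hα : orderOf α = 2) {ι : F → R}
    (four : 4 ≤ Nat.card F) (add : ∀ x y, ι (x + y) = ι x * ι y) (inj : Function.Injective ι)
    (fix : ∀ a, α a = a ↔ ∃ x, ι x = a) (r : Fˣ →* MulAut R) (rα : ∀ l, Commute (r l) α)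
    (rι : ∀ l x, r l (ι x) = ι (l * x)) : ∃ T d s, Fn ι T d s := by
  classical
  have α2 : α ^ 2 = 1 := by rw [← hα, pow_orderOf_eq_one]
  have αα : α * α = 1 := by rw [← pow_two, α2]
  let φ : Fˣ × zpowers α →* MulAut R := r.noncommCoprod (zpowers α).subtype fun l a => by
    obtain ⟨_, i, rfl⟩ := a
    exact (rα l).zpow_right i
  let i : R →* R ⋊[φ] (Fˣ × zpowers α) := SemidirectProduct.inl
  let j : Fˣ × zpowers α →* R ⋊[φ] (Fˣ × zpowers α) := SemidirectProduct.inr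
  have : Finite (R ⋊[φ] (Fˣ × zpowers α)) := Finite.of_equiv _ SemidirectProduct.equivProd.symm
  have ii : Function.Injective i := SemidirectProduct.inl_injective
  have cA : ∀ a b : Fˣ × zpowers α, a * b = b * a := fun a b => Prod.ext (mul_comm _ _) (by
    obtain ⟨_, _, m, rfl⟩ := a
    obtain ⟨_, _, n, rfl⟩ := b
    exact Subtype.ext (zpow_mul_comm α m n))
  have ji : ∀ a x, j a * i x * (j a)⁻¹ = i (φ a x) := fun a x => by
    rw [← map_inv]; exact (SemidirectProduct.inl_aut a x).symm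
  have mQ : ∀ g, g ∈ i.range ↔ g.right = 1 := fun g => by
    rw [SemidirectProduct.range_inl_eq_ker_rightHom]; rfl
  let t := j (1, ⟨α, mem_zpowers α⟩)
  let κ := j.comp (MonoidHom.inl Fˣ (zpowers α))
  have ti : ∀ x, t * i x * t⁻¹ = i (α x) := fun x => by rw [ji]; simp [φ]
  have κi : ∀ l x, κ l * i x * (κ l)⁻¹ = i (r l x) := fun l x => by
    rw [show κ l = j (l, 1) from rfl, ji]; simp [φ]
  have h : St t i.range (i.range ⊓ cen1 t) (i ∘ ι) κ :=
    { four := four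
      add := fun x y => by simp only [Function.comp, add, map_mul]
      inj := ii.comp inj
      mem := fun v => ⟨fun ⟨⟨a, e⟩, hv⟩ => by
        subst e
        obtain ⟨x, rfl⟩ := (fix a).1 (ii (by rw [← ti, ← mem_cen1.1 hv, mul_inv_cancel_right]))
        exact ⟨x, rfl⟩, by
        rintro ⟨x, rfl⟩
        exact ⟨⟨_, rfl⟩, mem_cen1.2 (mul_inv_eq_iff_eq_mul.1 ((ti _).trans
          (congrArg i ((fix _).2 ⟨x, rfl⟩)))).symm⟩⟩
      fix := fun v => by rw [mem_inf, mem_cen1]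
      tt := by rw [← map_mul, ← map_one j]; exact congrArg j (Prod.ext (mul_one _) (Subtype.ext αα))
      tQ := fun e => by
        have := congrArg (fun a : Fˣ × zpowers α => (a.2 : MulAut R)) ((mQ _).1 e)
        rw [show α = 1 from this, orderOf_one] at hα
        omega
      two := hR.of_surjective _ i.rangeRestrict_surjective
      cm := fun a b => by
        rw [SemidirectProduct.range_inl_eq_ker_rightHom, MonoidHom.mem_ker, map_commutatorElement,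
          commutatorElement_eq_one_iff_mul_comm, cA]
      κt := fun l => by rw [show κ l = j (l, 1) from rfl, ← map_mul, cA, map_mul]
      κι := fun l x => by rw [Function.comp, κi, rι]; rfl
      dec := fun g => ⟨g.right.1, by
        obtain ⟨x, l, _, n, rfl⟩ := g
        simp only [mQ]
        rcases Int.even_or_odd' n with ⟨m, rfl | rfl⟩
        · left; ext <;> simp [κ, j, zpow_mul, α2]
        · right; ext <;> simp [κ, j, t, zpow_add, zpow_mul, α2, ← MulAut.mul_apply, αα]⟩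
      na := by
        by_contra e
        exact na ⟨⟨fun a b => ii (by
          by_contra e'
          exact e ⟨_, ⟨a, rfl⟩, _, ⟨b, rfl⟩, by rwa [← map_mul, ← map_mul]⟩)⟩⟩ }
  obtain ⟨W, k, c, P, m⟩ := h.mid
  obtain ⟨rfl, sq⟩ := h.one m
  have H := h.hy
  have mi : ∀ a, i a ∈ P := fun a => m.YP ⟨a, rfl⟩
  choose s hs using fun a => (h.mem _).1 (sq _ ⟨a, rfl⟩)
  have hs' : ∀ a, ι (s a) = a * a := fun a => ii (by rw [map_mul]; exact hs a)
  have cs : ∀ a, i a ∈ W → c (i a) = s a := fun a ha => h.inj (by rw [m.pow _ ha, hs, pow_one, pow_two])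
  have κW : ∀ l, κ l ∈ nor W := fun l => mem_normalizer_fintype fun w hw => by
    refine m.invY H (h.cj _ (m.WY hw)) ?_
    have := m.sq_t h.tt hw
    calc _ = κ l * ((κ l)⁻¹ * (t * κ l) * w * ((κ l)⁻¹ * (t * κ l) * w)) * (κ l)⁻¹ := by group
      _ = _ := by rw [← h.κt, inv_mul_cancel_left, this]; group
  refine ⟨fun x => if e : x = 0 then 1 else (r (Units.mk0 x e)).toMonoidHom, fun a => c (dl t (i a)), s,
    add, inj, fun x a => ii (by rw [map_mul, map_mul]; exact h.Qc ⟨a, rfl⟩ _ (h.ιV x)), dif_pos rfl,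
    fun a => ?_, fun x y a => ?_, fun l x => ?_, hs', fun a b => by rw [map_mul, m.d_mul H (mi a) (mi b)],
    fun l a => ?_, ?_, fun a b ha hb => ii (by
      rw [map_mul, map_mul]; exact m.comm _ (m.kerY _ ⟨a, rfl⟩ ha) _ (m.kerY _ ⟨b, rfl⟩ hb)), ?_,
    fun a ha e => ?_⟩
  · rw [dif_neg one_ne_zero, Units.mk0_one, map_one]; rfl
  · rcases eq_or_ne x 0 with rfl | hx
    · simp
    rcases eq_or_ne y 0 with rfl | hy
    · simp
    rw [dif_neg hx, dif_neg hy, dif_neg (mul_ne_zero hx hy), Units.mk0_mul, map_mul]; rfl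
  · split_ifs with e
    · rw [e, zero_mul]; exact (ii (h.zero.trans (map_one i).symm)).symm
    · exact rι _ x
  · split_ifs with e
    · rw [e, zero_mul, MonoidHom.one_apply, map_one, m.d_W H (one_mem _)]
    · rw [MulEquiv.coe_toMonoidHom, ← κi, dl_conj (h.κt _), m.c_conj H.toCo (κW _) (m.nn _ (mi a)).2,
        H.lin_eq (h.κι _ _)]; rfl
  · obtain ⟨_, ⟨a, rfl⟩, e⟩ := m.onto 1
    exact ⟨a, e⟩
  · obtain ⟨w, hw, e⟩ := m.surj 1
    obtain ⟨a, rfl⟩ := m.WY hw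
    exact ⟨a, m.d_W H hw, (cs a hw).symm.trans e⟩
  · have hw := m.kerY _ ⟨a, rfl⟩ ha
    obtain ⟨x, e'⟩ := (h.mem _).1 (m.om _ hw (by rw [← hs, e, h.zero]))
    exact ⟨x, ii e'⟩

end H16.Sg
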