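import Cfsg.Agent.H86.SPODef
import Cfsg.Agent.H59.SOBasic

/-! STD-SP (row S3129), orthogonal model: slot `OU`. -/

set_option autoImplicit false
set_option linter.unusedSectionVars false
set_option maxHeartbeats 200000

namespace H16.SpoOU

open H64.YE (MI Ac OU)
open H59.SO (Om Au E gam Lin TS Root Fr FA2 FS add_self2 comm_E E_fix E_smul_self E_zero_left)
open H86.SPO
open H56 H58 QuadraticMap Module Subgroup

variable {F V : Type} [Field F] [CharP F 2] [AddCommGroup V] [Module F V] {Q : QuadraticForm F V}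

theorem mul_mov (g h : Om Q) (x : V) :
    (g * h).1 x + x = (g.1 (h.1 x) + h.1 x) + (h.1 x + x) := by
  rw [add_assoc, ← add_assoc (h.1 x), add_self2 F, zero_add]; rfl

/-- The elements that move every vector by an element of `S`. -/
theorem mov_closure (S : Submodule F V) {D : Set (Om Q)} (h : ∀ a ∈ D, ∀ x, a.1 x + x ∈ S)
    {g : Om Q} (hg : g ∈ closure D) : ∀ x, g.1 x + x ∈ S := by
  induction hg using closure_induction with
  | mem a ha => exact h a ha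
  | one => intro x; rw [show (1 : Om Q).1 x = x from rfl, add_self2 F]; exact S.zero_mem
  | mul a b _ _ ha hb => intro x; rw [mul_mov]; exact S.add_mem (ha _) (hb _)
  | inv a _ ha =>
    intro x
    have := ha (a.1⁻¹ x)
    rw [O.apply_inv_apply, add_comm] at this
    exact this

theorem span_sing {T : Set V} (h1 : ∀ s ∈ T, Q s = 0) (h2 : ∀ s ∈ T, ∀ t ∈ T, polar Q s t = 0)
    {s : V} (hs : s ∈ Submodule.span F T) : Q s = 0 := by
  have k1 : ∀ s ∈ Submodule.span F T, ∀ t ∈ T, polar Q s t = 0 := fun s hs t ht => by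
    induction hs using Submodule.span_induction with
    | mem a ha => exact h2 a ha t ht
    | zero => simp
    | add a b _ _ ha hb => rw [polar_add_left, ha, hb, add_zero]
    | smul c a _ ha => rw [polar_smul_left, ha, smul_zero]
  have k2 : ∀ s ∈ Submodule.span F T, ∀ t ∈ Submodule.span F T, polar Q s t = 0 :=
    fun s hs t ht => by
    induction ht using Submodule.span_induction with
    | mem a ha => exact k1 s hs a ha
    | zero => simp
    | add a b _ _ ha hb => rw [polar_add_right, ha, hb, add_zero]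
    | smul c a _ ha => rw [polar_smul_right, ha, smul_zero]
  induction hs using Submodule.span_induction with
  | mem a ha => exact h1 a ha
  | zero => simp
  | add a b ha' hb' ha hb => rw [H56.Q_add, ha, hb, k2 a ha' b hb']; simp
  | smul c a _ ha => rw [H56.Q_smul, ha, mul_zero]

theorem ac_of_conj {G : Type} [Group G] {a b : G} (h : IsConj a b) : Ac a b := by
  obtain ⟨g, rfl⟩ := isConj_iff.1 h
  exact ⟨MulAut.conj g, rfl⟩

section Inv

variable {y : Om Q} (hy : y * y = 1)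
include hy

theorem fixN (x : V) : y.1 (y.1 x + x) = y.1 x + x := by
  have : y.1 (y.1 x) = x := by
    rw [show y.1 (y.1 x) = (y * y).1 x from rfl, hy]; rfl
  rw [map_add, this, add_comm]

theorem polN (x z : V) : polar Q (y.1 x + x) (y.1 z + z) = 0 := by
  rw [polar_add_right]
  conv_lhs => enter [1, 2]; rw [← fixN hy x]
  rw [O.map_polar, CharTwo.add_self_eq_zero]

end Inv

theorem d1_big (kg : KG Q) (kn : KN Q) (kl : KL Q) (fs : FS Q) (h8 : finrank F V ≠ 8) {c y : Om Q}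
    (hc : Ec Q c) (hy : y * y = 1) (hn : ¬ Nv Q y) :
    ∃ D : Set (Om Q), y ∈ closure D ∧ (∀ a ∈ D, Root Q a ∧ a * y = y * a) ∧
      ∀ a ∈ D, ∀ b ∈ D, a * b = b * a ∧ Nv Q (a * b) ∧ ¬ Ac c (a * b) := by
  refine ⟨{a | Root Q a ∧ ∃ x z, a = E Q (y.1 x + x) (y.1 z + z)}, ?_, ?_, ?_⟩
  · have h1 := fs.alt y.1 fun x => (kn.alt y hy hn x).2
    have h2 : closure {h | ∃ x z, h = eich Q (y.1 x - x) (y.1 z - z)} ≤
        (closure {a | Root Q a ∧ ∃ x z, a = E Q (y.1 x + x) (y.1 z + z)}).map (EG Q).subtype := by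
      refine (closure_le _).2 ?_
      rintro _ ⟨x, z, rfl⟩
      refine ⟨E Q (y.1 x + x) (y.1 z + z), ?_, by
        simp only [sub_eq_add_neg, H59.SO.neg2 F]; rfl⟩
      by_cases h0 : y.1 x + x = 0
      · rw [h0, E_zero_left]; exact one_mem _
      by_cases h3 : ∃ s : F, y.1 z + z = s • (y.1 x + x)
      · obtain ⟨s, hs⟩ := h3
        rw [hs, E_smul_self s (kn.alt y hy hn x).1]; exact one_mem _
      exact subset_closure ⟨⟨_, _, TS.of_ne (kn.alt y hy hn x).1 (kn.alt y hy hn z).1 (polN hy x z) h0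
        fun s hs => h3 ⟨s, hs⟩, rfl⟩, x, z, rfl⟩
    obtain ⟨g, hg, e⟩ := h2 h1
    have e' : g = y := Subtype.ext e
    exact e' ▸ hg
  · rintro _ ⟨h, x, z, rfl⟩
    exact ⟨h, (comm_E (fixN hy x) (fixN hy z)).symm⟩
  · rintro _ ⟨-, x, z, rfl⟩ _ ⟨-, x', z', rfl⟩
    have nv : Nv Q (E Q (y.1 x + x) (y.1 z + z) * E Q (y.1 x' + x') (y.1 z' + z')) := by
      obtain ⟨b, b1, b2, b3, b4, b5⟩ :=
        kg.p4 h8 (y.1 x + x) (y.1 z + z) (y.1 x' + x') (y.1 z' + z')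
      refine ⟨b, by rw [b1]; exact one_ne_zero, ?_⟩
      rw [show ∀ g h : Om Q, (g * h).1 b = g.1 (h.1 b) from fun _ _ => rfl, E_fix b4 b5, E_fix b2 b3]
    refine ⟨comm_E (E_fix (polN hy _ _) (polN hy _ _)) (E_fix (polN hy _ _) (polN hy _ _)), nv,
      fun h => ?_⟩
    obtain ⟨-, -, -, v, hv⟩ := kg.en _ (kl.ac _ _ hc h nv)
    refine hv ?_
    rw [mul_mov]
    obtain ⟨a, b, e1⟩ := kg.mv (y.1 x + x) (y.1 z + z) ((E Q (y.1 x' + x') (y.1 z' + z')).1 v)
    obtain ⟨a', b', e2⟩ := kg.mv (y.1 x' + x') (y.1 z' + z') v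
    rw [e1, e2]
    have := (kn.alt y hy hn (a • x + b • z + (a' • x' + b' • z'))).1
    rw [← this]
    congr 1
    simp only [map_add, map_smul, smul_add]
    abel

theorem d1_eight (kg : KG Q) (kn : KN Q) (kl : KL Q) (fa : FA2 Q) (h8 : finrank F V = 8)
    {c y : Om Q} (hc : Ec Q c) (hy : y * y = 1) (hn : ¬ Nv Q y) : Ac c y := by
  obtain ⟨β, hβ⟩ := kl.tri h8 ⟨y, hy, hn⟩
  have h1 : ¬ Nv Q (β c) := fun h => by
    obtain ⟨u', a', -, -, -, -, e'⟩ := kl.ac c _ hc ⟨β, rfl⟩ h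
    obtain ⟨u, a, h0, h1, h2, h3, e⟩ := hc
    exact hβ (fa.lin β u a h0 h1 h2 h3 ⟨u', a', by rw [← e, e']⟩)
  obtain ⟨k, hk⟩ := kn.cj (β c) y (by rw [← map_mul, (kg.en c hc).2.1.1, map_one]) hy h1 hn
  exact ⟨gam Q (Gam.ofO Q k) * β, hk.symm⟩

theorem d2 (kg : KG Q) (kr : KR Q) {c : Om Q} (hc : Ec Q c) {D : Set (Om Q)}
    (h1 : ∀ a ∈ D, Root Q a)
    (h2 : ∀ a ∈ D, ∀ b ∈ D, a * b = b * a ∧ ¬ (Nv Q (a * b) ∧ Ac c (a * b))) :
    c ∉ closure D := fun h => by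
  obtain ⟨-, -, -, v, hv⟩ := kg.en c hc
  refine hv (span_sing (T := {s | ∃ a ∈ D, ∃ x, s = a.1 x + x}) ?_ ?_
    (mov_closure _ (fun a ha x => Submodule.subset_span (by exact ⟨a, ha, x, rfl⟩)) h v))
  · rintro _ ⟨a, ha, x, rfl⟩
    exact (kg.rn a (h1 a ha)).2 x
  · rintro _ ⟨a, ha, x, rfl⟩ _ ⟨b, hb, z, rfl⟩
    rcases kr.cl a b (h1 a ha) (h1 b hb) (h2 a ha b hb).1 with e | e
    · exact ((h2 a ha b hb).2 ⟨(kg.en _ e).2.2.1, ac_of_conj ((kg.ec c _ hc).2 e)⟩).elim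
    · exact e x z

theorem jobOU : JobOU := by
  intro n F _ _ _ _ _ _ b c o V _ _ _ Q ι r w d k kd u1
  refine ⟨u1.o2c, u1.o2r, u1.max, fun y hy hn => ?_, fun D h1 h2 => ?_⟩
  · rw [kd.mi] at hn
    by_cases h8 : finrank F V = 8
    · exact .inl (d1_eight k.toKG k.toKN k.toKL d.fa h8 kd.cE hy hn)
    · obtain ⟨D, h1, h2, h3⟩ := d1_big k.toKG k.toKN k.toKL d.fs h8 kd.cE hy hn
      exact .inr ⟨D, h1, fun a ha => ⟨(kd.rt a).2 (h2 a ha).1, (h2 a ha).2⟩, fun a ha b hb =>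
        ⟨(h3 a ha b hb).1, (kd.mi _).2 (h3 a ha b hb).2.1, (h3 a ha b hb).2.2⟩⟩
  · exact d2 k.toKG k.toKR kd.cE (fun a ha => (kd.rt a).1 (h1 a ha)) fun a ha b hb =>
      ⟨(h2 a ha b hb).1, fun h => (h2 a ha b hb).2 ⟨(kd.mi _).2 h.1, h.2⟩⟩

end H16.SpoOU
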