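import Cfsg.Agent.H86.TP.Spec

set_option autoImplicit false
set_option maxHeartbeats 200000

namespace H16.TPXC

open Cfsg Subgroup MulAction H14 H98 H1.Gold H31.S2 H14.GC H14.FE H14.NF H86.TP
open scoped commutatorElement

universe u

variable {G : Type u} [Group G]

theorem cj_mem {N : Subgroup G} {x n : G} (hx : x ∈ nor N) (hn : n ∈ N) : x * n * x⁻¹ ∈ N :=
  (mem_normalizer_iff.1 hx n).1 hn

theorem cj_mem' {N : Subgroup G} {x n : G} (hx : x ∈ nor N) (hn : n ∈ N) : x⁻¹ * n * x ∈ N := by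
  simpa using cj_mem (inv_mem hx) hn

/-- The union of `N` and `x N`. -/
def U2 (N : Subgroup G) (x : G) (h1 : x ∈ nor N) (h2 : x * x ∈ N) : Subgroup G where
  carrier := {g | g ∈ N ∨ x⁻¹ * g ∈ N}
  one_mem' := Or.inl (one_mem _)
  mul_mem' := by
    rintro a b (ha | ha) (hb | hb)
    · exact Or.inl (mul_mem ha hb)
    · refine Or.inr ?_
      have := mul_mem (cj_mem' h1 ha) hb
      rwa [show x⁻¹ * a * x * (x⁻¹ * b) = x⁻¹ * (a * b) by group] at this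
    · refine Or.inr ?_
      have := mul_mem ha hb
      rwa [mul_assoc] at this
    · refine Or.inl ?_
      have := mul_mem (mul_mem (cj_mem h1 ha) h2) hb
      rwa [show x * (x⁻¹ * a) * x⁻¹ * (x * x) * (x⁻¹ * b) = a * b by group] at this
  inv_mem' := by
    rintro a (ha | ha)
    · exact Or.inl (inv_mem ha)
    · refine Or.inr ?_
      have := mul_mem (cj_mem' h1 (inv_mem ha)) (inv_mem h2)
      rwa [show x⁻¹ * (x⁻¹ * a)⁻¹ * x * (x * x)⁻¹ = x⁻¹ * a⁻¹ by group] at this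

section

variable {Q Q' T R E P : Subgroup G} {x : G}

theorem PR (h : LP Q Q' T R E P) : P ≤ R := h.eqP ▸ inf_le_left

theorem mem_P (h : LP Q Q' T R E P) {ρ : G} (h1 : ρ ∈ R) (h2 : ρ ∈ P ⊔ T) : ρ ∈ P := by
  obtain ⟨y, hy, t, ht, rfl⟩ := (h.memPT _).1 h2
  have : t = 1 := h.dis t ht (h.sylR.le ((R.mul_mem_cancel_left (PR h hy)).1 h1))
  rwa [this, mul_one]

theorem ET (h : LP Q Q' T R E P) {r t : G} (hr : r ∈ E) (ht : t ∈ T) : t * r = r * t := by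
  have : r ∈ R ⊓ cen T := h.eq ▸ hr
  exact mem_centralizer_iff.1 this.2 t ht

theorem a0 (h : LP Q Q' T R E P) (k : X1 T R E P x) {ρ t : G} (h1 : ρ ∈ R) (ht : t ∈ T)
    (t1 : t ≠ 1) (hc : ⁅ρ, t⁆ ∈ E) : ρ ∈ P := by
  obtain ⟨p, hp, e⟩ := k.fu t ht t1 _ (inv_mem hc)
  have e' : p * t * p⁻¹ = ρ * t * ρ⁻¹ := by
    have := congrArg (fun z => z⁻¹ * t) e
    simpa [commutatorElement_def, mul_assoc] using this
  have c : p⁻¹ * ρ ∈ cen1 t := by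
    rw [mem_centralizer_singleton_iff]
    calc p⁻¹ * ρ * t = p⁻¹ * (ρ * t * ρ⁻¹) * ρ := by group
      _ = t * (p⁻¹ * ρ) := by rw [← e']; group
  have := h.ltP.le (h.fix t ht t1 (mem_inf.2 ⟨mul_mem (inv_mem (PR h hp)) h1, c⟩))
  exact (P.mul_mem_cancel_left (inv_mem hp)).1 this

theorem claimA [Finite G] (h : LP Q Q' T R E P) (k : X1 T R E P x) {ρ t : G} (h1 : ρ ∈ R) (ht : t ∈ T)
    (t1 : t ≠ 1) (hc : ρ * t * ρ⁻¹ ∈ P ⊔ T) : ρ ∈ P ∨ x⁻¹ * ρ ∈ P := by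
  have yP : ⁅ρ, t⁆ ∈ P := mem_P h (comm_mem_left h1 (h.norR ht))
    (mul_mem hc (inv_mem (mem_sup_right ht)))
  have sq : ⁅ρ, t⁆ * t * (⁅ρ, t⁆ * t) = 1 := by
    calc ⁅ρ, t⁆ * t * (⁅ρ, t⁆ * t) = ρ * (t * t) * ρ⁻¹ := by
          rw [commutatorElement_def]; group
      _ = 1 := by rw [h.el t ht]; group
  rcases k.inv _ yP t ht t1 sq with e | e
  · exact Or.inl (a0 h k h1 ht t1 e)
  · refine Or.inr (a0 h k (mul_mem (inv_mem k.memR) h1) ht t1 ?_)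
    set r := ⁅ρ, t⁆⁻¹ * ⁅x, t⁆ with hr
    have r1 : x⁻¹ * r⁻¹ * x ∈ E := by
      by_contra hn
      refine k.sq _ (cj_mem' k.norP (h.ltP.le (inv_mem e))) hn ?_
      calc x⁻¹ * r⁻¹ * x * (x⁻¹ * r⁻¹ * x) = x⁻¹ * (r⁻¹ * r⁻¹) * x := by group
        _ = 1 := by rw [h.elE _ (inv_mem e)]; group
    have c1 := ET h (inv_mem e) ht
    have c2 := ET h r1 ht
    have : ⁅x⁻¹ * ρ, t⁆ = x⁻¹ * r⁻¹ * x := by
      calc ⁅x⁻¹ * ρ, t⁆ = x⁻¹ * (⁅x, t⁆ * (r⁻¹ * t)) * x * t⁻¹ := by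
            rw [hr]; simp only [commutatorElement_def]; group
        _ = t * (x⁻¹ * r⁻¹ * x) * t⁻¹ := by
            rw [← c1]; simp only [commutatorElement_def]; group
        _ = x⁻¹ * r⁻¹ * x := by rw [c2]; group
    rwa [this]

end

theorem jXC : JobXC.{u} := by
  intro G _ _ Q Q' T R E P x h k
  refine ⟨k, ?_⟩
  obtain ⟨s, hs, t, ht, is, it, st, -⟩ := h.four
  have xx : x * x ∈ P := by
    refine (claimA h k (mul_mem k.memR k.memR) hs is.1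
      (cj_mem (mul_mem k.norPT k.norPT) (mem_sup_right hs))).resolve_right fun e => k.notP ?_
    simpa using e
  let U := U2 (P ⊔ T) x k.norPT (mem_sup_left xx)
  have mU : ∀ g, g ∈ U ↔ g ∈ P ⊔ T ∨ x⁻¹ * g ∈ P ⊔ T := fun g => Iff.rfl
  have le1 : P ⊔ T ≤ R ⊔ T := sup_le_sup_right (PR h) _
  have le : U ≤ R ⊔ T := by
    intro g hg
    rcases (mU g).1 hg with e | e
    · exact le1 e
    · exact ((R ⊔ T).mul_mem_cancel_left (inv_mem (mem_sup_left k.memR))).1 (le1 e)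
  have A : ∀ ρ ∈ R, ∀ a ∈ T, a ≠ 1 → ρ * a * ρ⁻¹ ∈ P ⊔ T → ρ ∈ U := fun ρ h1 a ha a1 hc =>
    (mU ρ).2 ((claimA h k h1 ha a1 hc).imp mem_sup_left mem_sup_left)
  have TU : T ≤ U := fun a ha => (mU a).2 (Or.inl (mem_sup_right ha))
  have eq : U = R ⊔ T := by
    by_contra ne
    have two : IsPGroup 2 (R ⊔ T : Subgroup G) :=
      IsPGroup.to_sup_of_normal_left' h.sylR.isPGroup h.syl.isPGroup h.norR
    obtain ⟨g, ⟨g1, g2⟩, g3⟩ := SetLike.exists_of_lt (lt_inf_normalizer two (lt_of_le_of_ne le ne))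
    obtain ⟨ρ, hρ, a, ha, rfl⟩ := (h.memRT g).1 g1
    have n1 : ρ ∈ nor U := ((nor U).mul_mem_cancel_right (le_normalizer (TU ha))).1 g2
    refine g3 (mul_mem ?_ (TU ha))
    rcases (mU _).1 (cj_mem n1 (TU hs)) with e1 | e1
    · exact A ρ hρ s hs is.1 e1
    rcases (mU _).1 (cj_mem n1 (TU ht)) with e2 | e2
    · exact A ρ hρ t ht it.1 e2
    refine A ρ hρ (s⁻¹ * t) (mul_mem (inv_mem hs) ht) (fun e => st (inv_mul_eq_one.1 e)) ?_
    have := mul_mem (inv_mem e1) e2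
    rwa [show (x⁻¹ * (ρ * s * ρ⁻¹))⁻¹ * (x⁻¹ * (ρ * t * ρ⁻¹)) = ρ * (s⁻¹ * t) * ρ⁻¹ by group] at this
  intro ρ hρ
  have : ρ ∈ U := eq ▸ mem_sup_left hρ
  rcases (mU ρ).1 this with e | e
  · exact Or.inl (mem_P h hρ e)
  · refine Or.inr ?_
    have := cj_mem k.norP (mem_P h (mul_mem (inv_mem k.memR) hρ) e)
    rwa [show x * (x⁻¹ * ρ) * x⁻¹ = ρ * x⁻¹ by group] at this

end H16.TPXC
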