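import Cfsg.Agent.H64.YESpec
import Cfsg.Agent.H66.UAEF

/-! STD-SP endgame, slot L4: a simple group with a Sylow `2`-subgroup of `SL` is `PSL`. -/

set_option autoImplicit false
set_option maxHeartbeats 200000

namespace H16.YEL4

open Subgroup H64.SG

universe u

theorem jobL4 : H64.YE.JobL4.{u} := by
  intro m F _ _ _ G _ _ Φ U K₀ hm hF hk hU hK hs
  let _ := Fintype.ofFinite F
  obtain ⟨r, -, hr⟩ := FiniteField.card F 2
  rw [← Nat.card_eq_fintype_card] at hr
  have h2 : 2 ≤ (r : ℕ) := (Nat.pow_le_pow_iff_right one_lt_two).1 (hr ▸ hF)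
  obtain ⟨g, -, e⟩ := (syl_iff.1 (H67.SA.syl_UU (n := m) (F := F))).exists_cj_eq (syl_iff.1 hU)
  subst e
  refine H66.UAF.psl_of_syl (Φ := Φ.comp (MulAut.conj g).toMonoidHom) (by omega) h2 hr
    (fun x hx => ?_) hs ?_
  · have := (inferInstance : (center (H67.SA.SLn m F)).Normal).conj_mem _ (hk hx) g⁻¹
    simpa [mul_assoc] using this
  · rw [← map_map]
    exact syl_iff.1 hK

end H16.YEL4
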